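import Groth.Agent.ChowK.GermSub
import Groth.Agent.Cycles.SheafCyc
import Groth.Agent.KTheory.ClosureSheaf
import Groth.Agent.CohTwo.Glue
import Groth.Prelude.Def_ChowK

/-!
# Classes in `K₀(Coh_{≤a})/K₀(Coh_{≤b})` of locally finite sums
-/

set_option autoImplicit false
universe u

open CategoryTheory CategoryTheory.Limits AlgebraicGeometry TopologicalSpace ZeroObject

namespace Groth.ChowK

open Groth.QCohMod Groth.KTheory Groth.KTheory.LocFree

variable {X : Scheme.{u}} {δ : X → ℤ} {a b : ℤ}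

theorem res_eq_germ {M : X.Modules} {W : X.Opens} {s t : Γ(M, W)}
    (h : ∀ (y : X) (hy : y ∈ W), germ M y hy s = germ M y hy t) : s = t :=
  Groth.Misc6.DevissageSupp.res_ext_germ' h

theorem hom_eq_zero_of_stalk {M N : X.Modules} (f : M ⟶ N)
    (h : ∀ (x : X) (t : M.presheaf.stalk x), stalkₗ f x t = 0) : f = 0 := by
  ext W s
  refine res_eq_germ fun y hy => ?_
  refine ((stalk_map_germ f y hy s).symm.trans (h y (germ M y hy s))).trans ?_
  exact (map_zero (germ N y hy)).symm

/-- A family of morphisms into a locally finite family gives a morphism into the coproduct. -/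
theorem exists_sigma_lift {ι : Type u} {G : ι → X.Modules} (hG : LocFin G) {F : X.Modules}
    (π : ∀ i, F ⟶ G i) : ∃ φ : F ⟶ ∐ G, ∀ i, φ ≫ proj G i = π i := by
  classical
  have huniq : ∀ (W : X.Opens) (t t' : Γ(∐ G, W)),
      (∀ i, (proj G i).app W t = (proj G i).app W t') → t = t' := by
    intro W t t' h
    refine res_eq_germ fun y hy => ?_
    obtain ⟨e, he⟩ := exists_stalk_sigma_equiv G y (hG.finite_at y).toFinset fun i hi =>
      not_nontrivial_iff_subsingleton.1 fun hn => hi ((hG.finite_at y).mem_toFinset.2 hn)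
    obtain ⟨f, hf⟩ := e.surjective (germ (∐ G) y hy t)
    obtain ⟨f', hf'⟩ := e.surjective (germ (∐ G) y hy t')
    refine (hf.symm.trans ((congrArg e ?_).trans hf'))
    funext j
    have key : ∀ g, stalkₗ (proj G j.1) y (e g) = g j := fun g => by
      rw [he, map_sum, Finset.sum_eq_single j (fun i _ hij =>
        proj_ι_ne G (fun h => hij (Subtype.ext h)) y (g i)) (fun h => absurd (Finset.mem_univ j) h),
        proj_ι_self]
    rw [← key f, ← key f', hf, hf']
    refine (stalk_map_germ (proj G j.1) y hy t).trans (Eq.trans ?_ (stalk_map_germ (proj G j.1) y hy t').symm)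
    rw [h j.1]
  refine (Groth.CohTwo.exists_hom_of_local (T := F) (F := ∐ G)
    (fun W s t => ∀ i, (proj G i).app W t = (π i).app W s) ?_ ?_ ?_ ?_ ?_ ?_).imp
      fun φ hφ i => by ext W s; exact hφ W s i
  · intro W' W h s t hst i
    have h1 : (π i).app W' (res F h s) = res (G i) h ((π i).app W s) := (res_app (π i) h s).symm
    have h2 : (proj G i).app W' (res (∐ G) h t) = res (G i) h ((proj G i).app W t) :=
      (res_app (proj G i) h t).symm
    exact h2.trans ((congrArg _ (hst i)).trans h1.symm)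
  · exact fun W s t t' h h' => huniq W t t' fun i => (h i).trans (h' i).symm
  · intro W s t h i
    refine Groth.CohTwo.eq_of_local (G i) _ _ fun x hx => ?_
    obtain ⟨W', hle, hxW', hh⟩ := h x hx
    refine ⟨W', hle, hxW', ?_⟩
    exact (res_app (proj G i) hle t).trans ((hh i).trans (res_app (π i) hle s).symm)
  · intro W s x hx
    obtain ⟨U, hxU, hfin⟩ := hG x
    refine ⟨W ⊓ U, inf_le_left, ∑ i ∈ hfin.toFinset,
      (Sigma.ι G i).app (W ⊓ U) ((π i).app (W ⊓ U) (res F inf_le_left s)), ⟨hx, hxU⟩, fun j => ?_⟩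
    have key : ∀ i (v : Γ(G i, W ⊓ U)), (proj G j).app (W ⊓ U) ((Sigma.ι G i).app (W ⊓ U) v) =
        (Sigma.ι G i ≫ proj G j).app (W ⊓ U) v := fun i v => rfl
    rw [map_sum]
    simp only [key]
    have hι : ∀ i, Sigma.ι G i ≫ proj G j = if h : i = j then eqToHom (congrArg G h) else 0 :=
      fun i => colimit.ι_desc _ _
    by_cases hj : j ∈ hfin.toFinset
    · rw [Finset.sum_eq_single j (fun i _ hij => by rw [hι, dif_neg hij]; rfl) (fun h => absurd hj h),
        hι, dif_pos rfl, eqToHom_refl]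
      rfl
    · have hsub : Subsingleton Γ(G j, W ⊓ U) := ⟨fun p q => res_eq_germ fun y hy => by
        have : Subsingleton ((G j).presheaf.stalk y) := not_nontrivial_iff_subsingleton.1 fun hn =>
          hj (hfin.mem_toFinset.2 ⟨y, not_subsingleton_iff_nontrivial.mpr hn, hy.2⟩)
        exact Subsingleton.elim _ _⟩
      exact Subsingleton.elim _ _
  · intro W s s' t t' h h' i
    rw [map_add, map_add, h i, h' i]
  · intro W r s t h i
    rw [Scheme.Modules.Hom.app_smul, Scheme.Modules.Hom.app_smul, h i]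

/-! ### Basic relations -/

theorem cohLe_mono {a b : ℤ} (h : b ≤ a) {F : X.Modules} (hF : Cyc.CohLe δ b F) : Cyc.CohLe δ a F :=
  ⟨hF.1, fun x hx => (hF.2 x hx).trans h⟩

theorem cohLe_of_support {F : X.Modules} {k : ℤ} (hF : Coh.IsCoh F)
    (h : ∀ x ∈ CohB1.support F, δ x ≤ k) : Cyc.CohLe δ k F :=
  ⟨hF, fun x hx => h x (not_subsingleton_iff_nontrivial.mpr hx)⟩

theorem CohLe.le {F : X.Modules} {k : ℤ} (hF : Cyc.CohLe δ k F) {x : X} (hx : x ∈ CohB1.support F) :
    δ x ≤ k := hF.2 x (not_subsingleton_iff_nontrivial.mp hx)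

theorem toQuot_rel (S : ShortComplex X.Modules) (hS : S.ShortExact)
    (h₁ : Cyc.CohLe δ a S.X₁) (h₂ : Cyc.CohLe δ a S.X₂) (h₃ : Cyc.CohLe δ a S.X₃) :
    Cyc.toK0CohQuot δ a b S.X₂ = Cyc.toK0CohQuot δ a b S.X₁ + Cyc.toK0CohQuot δ a b S.X₃ :=
  (congrArg QuotientAddGroup.mk (clSub_rel (P := Cyc.CohLe δ a) S hS h₁ h₂ h₃)).trans
    (QuotientAddGroup.mk_add _ _ _)

theorem toQuot_zero {F : X.Modules} (h : Cyc.CohLe δ b F) : Cyc.toK0CohQuot δ a b F = 0 :=
  (QuotientAddGroup.eq_zero_iff _).2 (AddSubgroup.subset_closure ⟨F, h, rfl⟩)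

variable [IsLocallyNoetherian X]

theorem cohLe_of_isZero {k : ℤ} {Z : X.Modules} (hZ : IsZero Z) : Cyc.CohLe δ k Z :=
  cohLe_of_support (isCoh_of_isZero hZ) fun x hx => by
    rw [(isZero_iff_support_eq_empty Z).1 hZ] at hx
    exact hx.elim

theorem toQuot_isZero {Z : X.Modules} (hZ : IsZero Z) : Cyc.toK0CohQuot δ a b Z = 0 :=
  toQuot_zero (cohLe_of_isZero hZ)

theorem cohLe_of_iso {k : ℤ} {M N : X.Modules} (e : M ≅ N) (hM : Cyc.CohLe δ k M) : Cyc.CohLe δ k N :=
  cohLe_of_support (isCoh_of_iso e hM.1) fun x hx => CohLe.le hM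
    (Devissage.support_subset_of_mono e.inv hx)

theorem toQuot_iso {M N : X.Modules} (e : M ≅ N) (hM : Cyc.CohLe δ a M) :
    Cyc.toK0CohQuot δ a b M = Cyc.toK0CohQuot δ a b N :=
  congrArg QuotientAddGroup.mk (clSub_iso (P := Cyc.CohLe δ a) e hM (cohLe_of_iso e hM)
    (isZero_zero X.Modules) (cohLe_of_isZero (isZero_zero _)))

theorem cohLe_biprod {k : ℤ} {M N : X.Modules} (hM : Cyc.CohLe δ k M) (hN : Cyc.CohLe δ k N) :
    Cyc.CohLe δ k (M ⊞ N) := by
  refine cohLe_of_support (isCoh_biprod hM.1 hN.1) fun x hx => ?_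
  by_contra hlt
  have h1 : Subsingleton (M.presheaf.stalk x) :=
    not_nontrivial_iff_subsingleton.1 fun h => hlt (hM.2 x h)
  have h2 : Subsingleton (N.presheaf.stalk x) :=
    not_nontrivial_iff_subsingleton.1 fun h => hlt (hN.2 x h)
  refine hx (subsingleton_of_forall_eq 0 fun t => ?_)
  have h := congr((stalk x).map $(biprod.total (X := M) (Y := N)))
  rw [(stalk x).map_id, (stalk x).map_add, (stalk x).map_comp, (stalk x).map_comp] at h
  have e : stalkₗ biprod.inl x (stalkₗ (biprod.fst : M ⊞ N ⟶ M) x t) +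
      stalkₗ biprod.inr x (stalkₗ (biprod.snd : M ⊞ N ⟶ N) x t) = t := congr($h t)
  rw [← e, Subsingleton.elim (stalkₗ (biprod.fst : M ⊞ N ⟶ M) x t) 0,
    Subsingleton.elim (stalkₗ (biprod.snd : M ⊞ N ⟶ N) x t) 0, map_zero, map_zero, add_zero]

theorem toQuot_biprod {M N : X.Modules} (hM : Cyc.CohLe δ a M) (hN : Cyc.CohLe δ a N) :
    Cyc.toK0CohQuot δ a b (M ⊞ N) = Cyc.toK0CohQuot δ a b M + Cyc.toK0CohQuot δ a b N :=
  toQuot_rel (ShortComplex.mk (biprod.inl : M ⟶ M ⊞ N) biprod.snd biprod.inl_snd)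
    (ShortComplex.Splitting.ofHasBinaryBiproduct M N).shortExact hM (cohLe_biprod hM hN) hN

/-- A morphism which is bijective at all points of dimension `> b` identifies classes. -/
theorem toQuot_of_bijective (hba : b ≤ a) {M F : X.Modules} (hM : Cyc.CohLe δ a M) (hF : Cyc.CohLe δ a F)
    (φ : M ⟶ F) (hφ : ∀ x, b < δ x → Function.Bijective ((stalk x).map φ)) :
    Cyc.toK0CohQuot δ a b M = Cyc.toK0CohQuot δ a b F := by
  have := hM.1.1
  have := hF.1.1
  have hK : Cyc.CohLe δ b (kernel φ) := cohLe_of_support (Groth.QCohMod.isCoh_kernel φ hM.1) fun x hx => by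
    by_contra hlt
    have hi : Function.Injective ((stalk x).map (kernel.ι φ)) :=
      (mono_iff_stalk (kernel.ι φ)).mp inferInstance x
    refine hx ⟨fun s t => hi ((hφ x (not_le.1 hlt)).1 ?_)⟩
    have hc : (stalk x).map (kernel.ι φ) ≫ (stalk x).map φ = 0 := by
      rw [← (stalk x).map_comp, kernel.condition, (stalk x).map_zero]
    exact (congr($hc s)).trans (congr($hc t)).symm
  have hC : Cyc.CohLe δ b (cokernel φ) := cohLe_of_support (Groth.QCohMod.isCoh_cokernel φ hF.1) fun x hx => by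
    by_contra hlt
    exact Devissage.subsingleton_cokernel_stalk φ x (hφ x (not_le.1 hlt)).2 hx
  have hI : Cyc.CohLe δ a (kernel (cokernel.π φ)) :=
    haveI := hC.1.1
    cohLe_of_support (Groth.QCohMod.isCoh_kernel (cokernel.π φ) hF.1) fun x hx =>
      CohLe.le hF (Devissage.support_subset_of_mono (kernel.ι (cokernel.π φ)) hx)
  have hf : (ShortComplex.mk (kernel.ι (cokernel.π φ)) (cokernel.π φ) (kernel.condition _)).ShortExact :=
    { exact := ShortComplex.exact_of_f_is_kernel _ (kernelIsKernel _)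
      mono_f := inferInstance
      epi_g := inferInstanceAs (Epi (cokernel.π φ)) }
  have hk : (ShortComplex.mk (kernel.ι φ) (Abelian.factorThruImage φ) (by
      rw [← cancel_mono (Abelian.image.ι φ)]; simp)).ShortExact :=
    { exact := by
        apply ShortComplex.exact_of_f_is_kernel
        refine KernelFork.IsLimit.ofι' _ _ fun {W'} k h => ⟨kernel.lift φ k ?_, kernel.lift_ι _ _ _⟩
        have := h =≫ Abelian.image.ι φ
        simpa using this
      mono_f := inferInstance
      epi_g := inferInstance }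
  have e2 := toQuot_rel (b := b) _ hf hI hF (cohLe_mono hba hC)
  have e3 := toQuot_rel (b := b) _ hk (cohLe_mono hba hK) hM hI
  change Cyc.toK0CohQuot δ a b F = Cyc.toK0CohQuot δ a b (kernel (cokernel.π φ)) +
    Cyc.toK0CohQuot δ a b (cokernel φ) at e2
  change Cyc.toK0CohQuot δ a b M = Cyc.toK0CohQuot δ a b (kernel φ) +
    Cyc.toK0CohQuot δ a b (kernel (cokernel.π φ)) at e3
  rw [e2, e3, toQuot_zero hK, toQuot_zero hC, zero_add, add_zero]

theorem cohLe_sigma {k : ℤ} {ι : Type u} {M : ι → X.Modules} (hM : LocFin M)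
    (h : ∀ i, Cyc.CohLe δ k (M i)) : Cyc.CohLe δ k (∐ M) :=
  ⟨isCoh_sigma hM fun i => (h i).1, fun x hx => by
    obtain ⟨i, hi⟩ := exists_nontrivial_of_sigma M x hx
    exact (h i).2 x hi⟩

theorem LocFin.comp {ι κ : Type u} {M : ι → X.Modules} (hM : LocFin M) {g : κ → ι}
    (hg : ∀ i, (g ⁻¹' {i}).Finite) : LocFin fun j => M (g j) := fun x => by
  obtain ⟨U, hx, hfin⟩ := hM x
  exact ⟨U, hx, (hfin.biUnion fun i _ => hg i).subset fun j hj => Set.mem_biUnion hj rfl⟩

/-- Coproducts over a disjoint union. -/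
noncomputable def sigmaSumIso {α β : Type u} (M : α ⊕ β → X.Modules) :
    ∐ M ≅ (∐ fun i => M (Sum.inl i)) ⊞ (∐ fun j => M (Sum.inr j)) where
  hom := Sigma.desc fun o => match o with
    | Sum.inl i => Sigma.ι (fun i => M (Sum.inl i)) i ≫ biprod.inl
    | Sum.inr j => Sigma.ι (fun j => M (Sum.inr j)) j ≫ biprod.inr
  inv := biprod.desc (Sigma.desc fun i => Sigma.ι M _) (Sigma.desc fun j => Sigma.ι M _)
  hom_inv_id := Sigma.hom_ext _ _ fun o => by cases o <;> simp
  inv_hom_id := by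
    apply biprod.hom_ext' <;> apply Sigma.hom_ext <;> intro i <;> simp

theorem toQuot_sigma_sum {α β : Type u} {M : α ⊕ β → X.Modules} (hM : LocFin M)
    (h : ∀ o, Cyc.CohLe δ a (M o)) :
    Cyc.toK0CohQuot δ a b (∐ M) = Cyc.toK0CohQuot δ a b (∐ fun i => M (Sum.inl i)) +
      Cyc.toK0CohQuot δ a b (∐ fun j => M (Sum.inr j)) := by
  rw [toQuot_iso (sigmaSumIso M) (cohLe_sigma hM h)]
  exact toQuot_biprod
    (cohLe_sigma (hM.comp fun o => (Set.subsingleton_singleton.preimage Sum.inl_injective).finite)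
      fun i => h _)
    (cohLe_sigma (hM.comp fun o => (Set.subsingleton_singleton.preimage Sum.inr_injective).finite)
      fun j => h _)

theorem toQuot_sigma_reindex {α β : Type u} {M : α → X.Modules} (hM : LocFin M)
    (h : ∀ o, Cyc.CohLe δ a (M o)) (e : β ≃ α) :
    Cyc.toK0CohQuot δ a b (∐ fun j => M (e j)) = Cyc.toK0CohQuot δ a b (∐ M) :=
  toQuot_iso (Sigma.whiskerEquiv e fun _ => Iso.refl _)
    (cohLe_sigma (hM.comp fun i => (Set.subsingleton_singleton.preimage e.injective).finite) fun _ => h _)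

end Groth.ChowK
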