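import Groth.Agent.ChowK.DegProd

/-!
# Degrees on direct sums and short exact sequences
-/

set_option autoImplicit false
universe u

namespace Groth.ChowK

variable {R : Type u} [CommRing R] {ι : Type u} [DecidableEq ι] {p : ι → Ideal R}
  {V' V V'' : ι → Type u}
  [∀ i, AddCommGroup (V' i)] [∀ i, Module R (V' i)] [∀ i, AddCommGroup (V i)] [∀ i, Module R (V i)]
  [∀ i, AddCommGroup (V'' i)] [∀ i, Module R (V'' i)]

theorem prodDeg_of_split [IsNoetherianRing R] (c : ∀ i, Submodule R (V i) → ℤ) {L : Submodule R (Π₀ i, V i)}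
    (h : ∀ v ∈ L, ∀ i, DFinsupp.lsingle (R := R) i (v i) ∈ L) : prodDeg c L = ∑ᶠ i, c i (cmp L i) := by
  have e : splitPart L = L := le_antisymm (splitPart_le L) fun v hv => mem_splitPart L (h v hv)
  rw [← prodDeg_splitPart, e]

/-- The two maps of a direct sum of short exact sequences form a short exact sequence. -/
theorem dfinsupp_exact (a : ∀ i, V' i →ₗ[R] V i) (b : ∀ i, V i →ₗ[R] V'' i)
    (ha : ∀ i, Function.Injective (a i)) (hb : ∀ i, Function.Surjective (b i))
    (hab : ∀ i, Function.Exact (a i) (b i)) :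
    Function.Injective (DFinsupp.mapRange.linearMap a) ∧ Function.Surjective (DFinsupp.mapRange.linearMap b) ∧
      Function.Exact (DFinsupp.mapRange.linearMap a) (DFinsupp.mapRange.linearMap b) := by
  classical
  refine ⟨fun v w h => DFinsupp.ext fun i => ha i (by simpa using DFunLike.congr_fun h i), fun v => ?_,
    fun v => ⟨fun hv => ?_, ?_⟩⟩
  · choose g hg using fun i => hb i (v i)
    refine ⟨DFinsupp.mk v.support fun i => g i.1, DFinsupp.ext fun i => ?_⟩
    by_cases hi : v i = 0
    · simp [DFinsupp.mk_apply, hi]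
    · simp [DFinsupp.mk_apply, hi, hg]
  · choose g hg using fun i => (hab i (v i)).1 (by simpa using DFunLike.congr_fun hv i)
    refine ⟨DFinsupp.mk v.support fun i => g i.1, DFinsupp.ext fun i => ?_⟩
    by_cases hi : v i = 0
    · simp [DFinsupp.mk_apply, hi]
    · simp [DFinsupp.mk_apply, hi, hg]
  · rintro ⟨w, rfl⟩
    exact DFinsupp.ext fun i => by simp [(hab i).apply_apply_eq_zero]

variable [IsNoetherianRing R]

/-- Step one: the degree of a concatenation is the sum of the degrees. -/
theorem prodDeg_ext (hS' : SumData p (V := V')) (hS : SumData p (V := V)) (hS'' : SumData p (V := V''))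
    {a : ∀ i, V' i →ₗ[R] V i} {b : ∀ i, V i →ₗ[R] V'' i}
    (ha : ∀ i, Function.Injective (a i)) (hb : ∀ i, Function.Surjective (b i))
    (hab : ∀ i, Function.Exact (a i) (b i))
    {c' : ∀ i, Submodule R (V' i) → ℤ} (hc' : ∀ i, IsDeg {p i} (c' i))
    (hc'0 : ∀ i, Subsingleton (V' i) → ∀ L, c' i L = 0)
    {c'' : ∀ i, Submodule R (V'' i) → ℤ} (hc'' : ∀ i, IsDeg {p i} (c'' i))
    (hc''0 : ∀ i, Subsingleton (V'' i) → ∀ L, c'' i L = 0)
    {L : Submodule R (Π₀ i, V i)} (hL : IsLat (Set.range p) L) :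
    prodDeg (fun i M => c' i (M.comap (a i)) + c'' i (M.map (b i))) L =
      prodDeg c' (L.comap (DFinsupp.mapRange.linearMap a)) + prodDeg c'' (L.map (DFinsupp.mapRange.linearMap b)) := by
  classical
  obtain ⟨hI, hQ, hIQ⟩ := dfinsupp_exact a b ha hb hab
  set I := DFinsupp.mapRange.linearMap a with hIdef
  set Q := DFinsupp.mapRange.linearMap b with hQdef
  have hV := hS.supp_prod
  let d : ∀ i, Submodule R (V i) → ℤ := fun i M => c' i (M.comap (a i)) + c'' i (M.map (b i))
  have hd : ∀ i, IsDeg {p i} (d i) := fun i => isDeg_ext (hS.supp i) (ha i) (hb i) (hab i) (hc' i) (hc'' i)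
  have hd0 : ∀ i, Subsingleton (V i) → ∀ M, d i M = 0 := fun i hi M => by
    have h1 : Subsingleton (V' i) := (ha i).subsingleton
    have h2 : Subsingleton (V'' i) := (hb i).subsingleton
    simp [d, hc'0 i h1, hc''0 i h2]
  have hE : IsDeg (Set.range p) fun M => prodDeg c' (M.comap I) + prodDeg c'' (M.map Q) :=
    isDeg_ext hV hI hQ hIQ (isDeg_prodDeg hS' hc' hc'0) (isDeg_prodDeg hS'' hc'' hc''0)
  have key := (isDeg_prodDeg hS hd hd0).sub_eq hE hL (isLat_splitPart hS hL)
  set L₀ := splitPart L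
  have hsingle : ∀ v ∈ L₀, ∀ i, DFinsupp.lsingle (R := R) i (v i) ∈ L₀ := fun v hv i =>
    Submodule.mem_iSup_of_mem i ⟨v i, mem_cmp_of_mem_splitPart hv i, rfl⟩
  have hIs : ∀ i w, I (DFinsupp.lsingle (R := R) i w) = DFinsupp.lsingle (R := R) i (a i w) := fun i w => by
    simp [hIdef]
  have hQs : ∀ i w, Q (DFinsupp.lsingle (R := R) i w) = DFinsupp.lsingle (R := R) i (b i w) := fun i w => by
    simp [hQdef]
  have e' : prodDeg c' (L₀.comap I) = ∑ᶠ i, c' i ((cmp L i).comap (a i)) := by
    rw [prodDeg_of_split c' fun v hv i => by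
      rw [Submodule.mem_comap, hIs]
      have := hsingle _ hv i
      simpa [hIdef] using this]
    refine finsum_congr fun i => congrArg _ (Submodule.ext fun w => ?_)
    rw [← cmp_splitPart L i, cmp, Submodule.mem_comap, Submodule.mem_comap, hIs]
    rfl
  have e'' : prodDeg c'' (L₀.map Q) = ∑ᶠ i, c'' i ((cmp L i).map (b i)) := by
    rw [prodDeg_of_split c'' fun v hv i => by
      obtain ⟨w, hw, rfl⟩ := hv
      exact ⟨_, hsingle w hw i, by rw [hQs]; simp [hQdef]⟩]
    refine finsum_congr fun i => congrArg _ (Submodule.ext fun w => ?_)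
    rw [← cmp_splitPart L i]
    constructor
    · rintro ⟨v, hv, hvw⟩
      refine ⟨v i, mem_cmp_of_mem_splitPart hv i |> fun h => (cmp_splitPart L i).ge h, ?_⟩
      have := DFunLike.congr_fun hvw i
      simpa [hQdef] using this
    · rintro ⟨z, hz, rfl⟩
      exact ⟨_, hz, hQs i z⟩
  have hsum : prodDeg d L₀ = prodDeg c' (L₀.comap I) + prodDeg c'' (L₀.map Q) := by
    rw [e', e'', prodDeg_splitPart, ← finsum_add_distrib]
    · exact hS.fin.subset fun i hi hs => hi (by
        have : Subsingleton (V' i) := (ha i).subsingleton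
        exact hc'0 i this _)
    · exact hS.fin.subset fun i hi hs => hi (by
        have : Subsingleton (V'' i) := (hb i).subsingleton
        exact hc''0 i this _)
  change prodDeg d L = _
  omega

omit [IsNoetherianRing R] [DecidableEq ι] in
/-- The snake sequence of the kernels. -/
theorem length_ker_snake {M' M M'' W' W W'' : Type u} [AddCommGroup M'] [Module R M'] [AddCommGroup M] [Module R M]
    [AddCommGroup M''] [Module R M''] [AddCommGroup W'] [Module R W'] [AddCommGroup W] [Module R W]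
    [AddCommGroup W''] [Module R W''] {f : M' →ₗ[R] M} {g : M →ₗ[R] M''} (hf : Function.Injective f)
    (hg : Function.Surjective g) (hfg : Function.Exact f g) {I : W' →ₗ[R] W} {Q : W →ₗ[R] W''}
    (hI : Function.Injective I) (hIQ : Function.Exact I Q) {μ' : M' →ₗ[R] W'} {μ : M →ₗ[R] W}
    {μ'' : M'' →ₗ[R] W''} (h₁ : ∀ m, μ (f m) = I (μ' m)) (h₂ : ∀ m, μ'' (g m) = Q (μ m))
    (hfin : Module.length R (LinearMap.ker μ) ≠ ⊤) (hfin'' : Module.length R (LinearMap.ker μ'') ≠ ⊤) :
    ((Module.length R (LinearMap.ker μ)).toNat : ℤ) + rlen (LinearMap.range μ') ((LinearMap.range μ).comap I) =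
      ((Module.length R (LinearMap.ker μ')).toNat : ℤ) + ((Module.length R (LinearMap.ker μ'')).toNat : ℤ) := by
  let fk : LinearMap.ker μ' →ₗ[R] LinearMap.ker μ := (f.comp (LinearMap.ker μ').subtype).codRestrict _ fun z => by
    rw [LinearMap.mem_ker, LinearMap.comp_apply, h₁, Submodule.subtype_apply, LinearMap.mem_ker.1 z.2, map_zero]
  let gk : LinearMap.ker μ →ₗ[R] LinearMap.ker μ'' := (g.comp (LinearMap.ker μ).subtype).codRestrict _ fun z => by
    rw [LinearMap.mem_ker, LinearMap.comp_apply, h₂, Submodule.subtype_apply, LinearMap.mem_ker.1 z.2, map_zero]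
  have e1 : Module.length R (LinearMap.ker μ) =
      Module.length R (LinearMap.ker μ') + Module.length R (LinearMap.range gk) := by
    refine Module.length_eq_add_of_exact fk gk.rangeRestrict (fun a b h => ?_) gk.surjective_rangeRestrict ?_
    · exact Subtype.ext (hf (congrArg Subtype.val h))
    · intro z
      constructor
      · intro hz
        obtain ⟨w, hw⟩ := (hfg z.1).1 (congrArg (fun t : LinearMap.range gk => (t.1 : M'')) hz)
        refine ⟨⟨w, hI ?_⟩, Subtype.ext hw⟩
        rw [← h₁, hw, LinearMap.mem_ker.1 z.2, map_zero]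
      · rintro ⟨w, rfl⟩
        exact Subtype.ext (Subtype.ext (hfg.apply_apply_eq_zero _))
  -- the connecting map
  let T : Submodule R W' := (LinearMap.range μ).comap I
  let Qt := T ⧸ (LinearMap.range μ').comap T.subtype
  let K : Submodule R M := (LinearMap.ker μ'').comap g
  have hK : ∀ z : K, μ z.1 ∈ LinearMap.range I := fun z => by
    refine (hIQ (μ z.1)).1 ?_
    rw [← h₂]
    exact z.2
  let pre : K →ₗ[R] T := ((LinearEquiv.ofInjective I hI).symm.toLinearMap.comp
    ((μ.comp K.subtype).codRestrict _ hK)).codRestrict T fun z => by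
      refine ⟨z.1, ?_⟩
      exact (congrArg Subtype.val ((LinearEquiv.ofInjective I hI).apply_symm_apply ⟨μ z.1, hK z⟩)).symm
  have hpre : ∀ z : K, I (pre z).1 = μ z.1 := fun z =>
    congrArg Subtype.val ((LinearEquiv.ofInjective I hI).apply_symm_apply ⟨μ z.1, hK z⟩)
  let gK : K →ₗ[R] LinearMap.ker μ'' := (g.comp K.subtype).codRestrict _ fun z => z.2
  have hgK : Function.Surjective gK := fun y => by
    obtain ⟨m, hm⟩ := hg y.1
    exact ⟨⟨m, by rw [Submodule.mem_comap, hm]; exact y.2⟩, Subtype.ext hm⟩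
  let h : K →ₗ[R] Qt := (Submodule.mkQ _).comp pre
  have hle : LinearMap.ker gK ≤ LinearMap.ker h := fun z hz => by
    obtain ⟨w, hw⟩ := (hfg z.1).1 (congrArg Subtype.val (LinearMap.mem_ker.1 hz))
    refine (Submodule.Quotient.mk_eq_zero _).2 ⟨w, hI ?_⟩
    rw [Submodule.subtype_apply, hpre, ← h₁, hw]
  let δh : LinearMap.ker μ'' →ₗ[R] Qt :=
    ((LinearMap.ker gK).liftQ h hle).comp (gK.quotKerEquivOfSurjective hgK).symm.toLinearMap
  have hδh : ∀ z, δh (gK z) = h z := fun z => by
    have : (gK.quotKerEquivOfSurjective hgK).symm (gK z) = Submodule.Quotient.mk z := by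
      rw [LinearEquiv.symm_apply_eq]
      rfl
    simp only [δh, LinearMap.comp_apply, LinearEquiv.coe_coe, this, Submodule.liftQ_apply]
  have e2 : Module.length R (LinearMap.ker μ'') = Module.length R (LinearMap.range gk) + Module.length R Qt := by
    refine Module.length_eq_add_of_exact (LinearMap.range gk).subtype δh (Submodule.subtype_injective _) ?_ ?_
    · intro t
      obtain ⟨⟨u, m, hm⟩, rfl⟩ := Submodule.Quotient.mk_surjective _ t
      have hmK : m ∈ K := by
        rw [Submodule.mem_comap, LinearMap.mem_ker, h₂, hm]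
        exact hIQ.apply_apply_eq_zero u
      refine ⟨gK ⟨m, hmK⟩, (hδh _).trans (congrArg Submodule.Quotient.mk (Subtype.ext (hI ?_)))⟩
      rw [hpre]
      exact hm
    · intro y
      obtain ⟨z, rfl⟩ := hgK y
      rw [hδh]
      constructor
      · intro hz
        obtain ⟨w, hw⟩ := (Submodule.Quotient.mk_eq_zero _).1 hz
        have hw' : μ' w = (pre z).1 := hw
        refine ⟨⟨_, ⟨z.1 - f w, ?_⟩, rfl⟩, Subtype.ext ?_⟩
        · rw [LinearMap.mem_ker, map_sub, h₁, hw', hpre, sub_self]
        · change g (z.1 - f w) = g z.1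
          rw [map_sub, hfg.apply_apply_eq_zero, sub_zero]
      · rintro ⟨⟨_, m, rfl⟩, hm⟩
        have hm' : g m.1 = g z.1 := congrArg Subtype.val hm
        obtain ⟨w, hw⟩ := (hfg (z.1 - m.1)).1 (by rw [map_sub, hm', sub_self])
        refine (Submodule.Quotient.mk_eq_zero _).2 ⟨w, hI ?_⟩
        rw [Submodule.subtype_apply, hpre, ← h₁, hw, map_sub, LinearMap.mem_ker.1 m.2, sub_zero]
  have n1 : Module.length R (LinearMap.ker μ') ≠ ⊤ := fun h => hfin (by rw [e1, h, top_add])
  have n2 : Module.length R (LinearMap.range gk) ≠ ⊤ := fun h => hfin'' (by rw [e2, h, top_add])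
  have n3 : Module.length R Qt ≠ ⊤ := fun h => hfin'' (by rw [e2, h, add_top])
  rw [rlen, e1, e2, ENat.toNat_add n1 n2, ENat.toNat_add n2 n3]
  push_cast
  ring

end Groth.ChowK
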