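import Groth.Agent.RefRank.Ord

/-!
# Lengths of quotients of lattices of rank one over a one dimensional domain
-/

set_option autoImplicit false
universe u

namespace Groth.ChowK

variable {R D K J : Type u} [CommRing R] [CommRing D] [Algebra R D] [Field K] [Algebra D K] [Algebra R K]
  [IsScalarTower R D K] [AddCommGroup J] [Module R J]

theorem length_map_quotient {Φ : J →ₗ[R] D} (hΦ : Function.Injective Φ) (P : Submodule R J) :
    Module.length R (D ⧸ P.map Φ) = Module.length R (J ⧸ P) + Module.length R (D ⧸ LinearMap.range Φ) := by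
  have hle : P.map Φ ≤ LinearMap.range Φ := LinearMap.map_le_range
  refine Module.length_eq_add_of_exact (Submodule.mapQ P (P.map Φ) Φ (Submodule.le_comap_map _ _))
    (Submodule.factor hle) ?_ (Submodule.factor_surjective hle) ?_
  · refine (injective_iff_map_eq_zero _).2 fun x hx => ?_
    obtain ⟨x, rfl⟩ := Submodule.Quotient.mk_surjective P x
    rw [Submodule.mapQ_apply, Submodule.Quotient.mk_eq_zero] at hx
    obtain ⟨y, hy, hxy⟩ := hx
    rw [Submodule.Quotient.mk_eq_zero, ← hΦ hxy]
    exact hy
  · intro z
    obtain ⟨z, rfl⟩ := Submodule.Quotient.mk_surjective _ z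
    constructor
    · intro hz
      change (Submodule.Quotient.mk z : D ⧸ LinearMap.range Φ) = 0 at hz
      rw [Submodule.Quotient.mk_eq_zero] at hz
      obtain ⟨x, rfl⟩ := hz
      exact ⟨Submodule.Quotient.mk x, rfl⟩
    · rintro ⟨w, hw⟩
      obtain ⟨w, rfl⟩ := Submodule.Quotient.mk_surjective _ w
      rw [← hw]
      change (Submodule.Quotient.mk (Φ w) : D ⧸ LinearMap.range Φ) = 0
      rw [Submodule.Quotient.mk_eq_zero]
      exact LinearMap.mem_range_self Φ w

theorem length_quot_span_singleton (hsurj : Function.Surjective (algebraMap R D)) (c : D) :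
    Module.length R (D ⧸ Submodule.span R {c}) = Ring.ord D c := by
  rw [← Submodule.restrictScalars_span R D hsurj {c},
    (Submodule.Quotient.restrictScalarsEquiv R (Ideal.span {c})).length_eq]
  exact Module.length_eq_of_surjective hsurj

variable [IsDomain D] [IsNoetherianRing D] [Ring.KrullDimLE 1 D] [IsFractionRing D K]

/-- If a module embeds into `K` with image spanned by `u` and `v`, the lengths of the quotients by the
preimages of the two lines differ by the order of `v / u`. -/
theorem length_sub_length (hsurj : Function.Surjective (algebraMap R D)) {Φ : J →ₗ[R] K}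
    (hΦ : Function.Injective Φ) {u v : K} (hu : u ≠ 0) (hv : v ≠ 0) {P Q : Submodule R J}
    (hP : P.map Φ = Submodule.span R {u}) (hQ : Q.map Φ = Submodule.span R {v}) (hPQ : P ⊔ Q = ⊤) :
    Module.length R (J ⧸ P) ≠ ⊤ ∧ Module.length R (J ⧸ Q) ≠ ⊤ ∧
      ((Module.length R (J ⧸ Q)).toNat : ℤ) - ((Module.length R (J ⧸ P)).toNat : ℤ) =
        CycAlg.ordFrac D K (v / u) := by
  obtain ⟨a, b, hb, hab⟩ := IsFractionRing.div_surjective (A := D) (v / u)
  have hb0 : algebraMap D K b ≠ 0 :=
    (map_ne_zero_iff _ (IsFractionRing.injective D K)).2 (nonZeroDivisors.ne_zero hb)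
  have ha : a ≠ 0 := by
    intro h
    rw [h, map_zero, zero_div] at hab
    exact div_ne_zero hv hu hab.symm
  let g : D →ₗ[R] K := ((IsScalarTower.toAlgHom R D K).toLinearMap).comp (LinearMap.id)
  let m : K →ₗ[R] K := LinearMap.mulRight R (algebraMap D K b / u)
  have hm : Function.Injective m := fun x y h => mul_right_cancel₀ (div_ne_zero hb0 hu) h
  have hmu : m u = algebraMap D K b := by
    change u * (algebraMap D K b / u) = _
    field_simp
  have hmv : m v = algebraMap D K a := by
    change v * (algebraMap D K b / u) = _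
    rw [← mul_div_assoc, mul_comm v, mul_div_assoc, ← hab]
    field_simp
  have hgi : Function.Injective g := IsFractionRing.injective D K
  have hmap : ∀ {N : Submodule R J} {c : K} {d : D}, N.map Φ = Submodule.span R {c} → m c = algebraMap D K d →
      N.map (m.comp Φ) = (Submodule.span R {d}).map g := by
    intro N c d hN hc
    rw [Submodule.map_comp, hN, LinearMap.map_span, LinearMap.map_span, Set.image_singleton,
      Set.image_singleton, hc]
    rfl
  have hrange : ∀ x, (m.comp Φ) x ∈ LinearMap.range g := by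
    intro x
    have hx : x ∈ P ⊔ Q := hPQ ▸ Submodule.mem_top
    obtain ⟨y, hy, z, hz, rfl⟩ := Submodule.mem_sup.1 hx
    have h1 : (m.comp Φ) y ∈ (Submodule.span R {b}).map g :=
      hmap hP hmu ▸ Submodule.mem_map_of_mem hy
    have h2 : (m.comp Φ) z ∈ (Submodule.span R {a}).map g :=
      hmap hQ hmv ▸ Submodule.mem_map_of_mem hz
    rw [map_add]
    exact add_mem (LinearMap.map_le_range h1) (LinearMap.map_le_range h2)
  let Ψ : J →ₗ[R] D := (LinearEquiv.ofInjective g hgi).symm.toLinearMap.comp ((m.comp Φ).codRestrict _ hrange)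
  have hgΨ : g.comp Ψ = m.comp Φ := LinearMap.ext fun x => by
    have h := (LinearEquiv.ofInjective g hgi).apply_symm_apply ((m.comp Φ).codRestrict _ hrange x)
    exact congrArg Subtype.val h
  have hΨi : Function.Injective Ψ := fun x y h => hΦ (hm (by
    have e := congrArg g h
    rw [← LinearMap.comp_apply g Ψ, ← LinearMap.comp_apply g Ψ, hgΨ] at e
    exact e))
  have hΨP : P.map Ψ = Submodule.span R {b} := Submodule.map_injective_of_injective hgi (by
    rw [← Submodule.map_comp, hgΨ]; exact hmap hP hmu)
  have hΨQ : Q.map Ψ = Submodule.span R {a} := Submodule.map_injective_of_injective hgi (by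
    rw [← Submodule.map_comp, hgΨ]; exact hmap hQ hmv)
  have eP := length_map_quotient hΨi P
  have eQ := length_map_quotient hΨi Q
  rw [hΨP, length_quot_span_singleton hsurj] at eP
  rw [hΨQ, length_quot_span_singleton hsurj] at eQ
  have hbt : Ring.ord D b ≠ ⊤ := Ring.ord_ne_top hb
  have hat : Ring.ord D a ≠ ⊤ := Ring.ord_ne_top (mem_nonZeroDivisors_of_ne_zero ha)
  rw [eP, ne_eq, ENat.add_eq_top, not_or] at hbt
  rw [eQ, ne_eq, ENat.add_eq_top, not_or] at hat
  refine ⟨hbt.1, hat.1, ?_⟩
  rw [← hab, Groth.RefRank.ordFrac_div' ha (nonZeroDivisors.ne_zero hb), eP, eQ,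
    ENat.toNat_add hat.1 hat.2, ENat.toNat_add hbt.1 hbt.2]
  push_cast
  ring

end Groth.ChowK
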