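import Groth.Agent.ChowK.Cycle
import Groth.Agent.ChowK.Lattice
import Groth.Agent.Cycles.SecDiv
import Groth.Agent.RefRank.Divisor

/-!
# Differences of rank one modules on closures of points are given by divisors
-/

set_option autoImplicit false
set_option linter.style.haveILetI false
universe u

open CategoryTheory CategoryTheory.Limits AlgebraicGeometry TopologicalSpace

namespace Groth.ChowK

open Groth.QCohMod Groth.KTheory Groth.KTheory.LocFree

variable {X : Scheme.{u}} {δ : X → ℤ}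

/-- The residue field at `ξ` as a module over the local ring. -/
abbrev Kap (ξ : X) : Type u := IsLocalRing.ResidueField (X.presheaf.stalk ξ)

theorem kap_killed (ξ : X) : ∃ n : ℕ, ∀ a ∈ IsLocalRing.maximalIdeal (X.presheaf.stalk ξ) ^ n,
    ∀ v : Kap ξ, a • v = 0 := by
  refine ⟨1, fun a ha v => ?_⟩
  rw [pow_one] at ha
  rw [Algebra.smul_def, show algebraMap (X.presheaf.stalk ξ) (Kap ξ) a = 0 from
    (IsLocalRing.residue_eq_zero_iff a).2 ha, zero_mul]

/-- A coordinate at `ξ` seen on the stalk at a specialisation. -/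
noncomputable def coordAt {A : X.Modules} {ξ x : X} (h : ξ ⤳ x)
    (φ : A.presheaf.stalk ξ →ₗ[X.presheaf.stalk ξ] Kap ξ) : A.presheaf.stalk x →+ X.residueField ξ :=
  (AddMonoidHom.mk' (fun t => (φ t : X.residueField ξ)) fun s t => map_add φ s t).comp (sp A h)

theorem coordAt_smul {A : X.Modules} {ξ x : X} (h : ξ ⤳ x)
    (φ : A.presheaf.stalk ξ →ₗ[X.presheaf.stalk ξ] Kap ξ) (r : X.presheaf.stalk x) (t : A.presheaf.stalk x) :
    coordAt h φ (r • t) = Cyc.specMap x ξ h r * coordAt h φ t := by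
  change φ (sp A h (r • t)) = _
  rw [sp_smul, map_smul, Algebra.smul_def]
  rfl

/-- The stalk at `x` is cyclic, killed by the prime of `ξ`, with generator of coordinate `c`. -/
def IsLine {A : X.Modules} {ξ x : X} (h : ξ ⤳ x) (φ : A.presheaf.stalk ξ →ₗ[X.presheaf.stalk ξ] Kap ξ)
    (c : X.residueField ξ) : Prop :=
  c ≠ 0 ∧ ∃ g : A.presheaf.stalk x, (∀ t, ∃ r : X.presheaf.stalk x, t = r • g) ∧
    (∀ r, Cyc.specMap x ξ h r = 0 → r • g = 0) ∧ coordAt h φ g = c

theorem IsLine.injective {A : X.Modules} {ξ x : X} {h : ξ ⤳ x}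
    {φ : A.presheaf.stalk ξ →ₗ[X.presheaf.stalk ξ] Kap ξ} {c : X.residueField ξ} (hA : IsLine h φ c) :
    Function.Injective (coordAt h φ) := by
  obtain ⟨hc, g, hg, hk, hgc⟩ := hA
  refine (injective_iff_map_eq_zero _).2 fun t ht => ?_
  obtain ⟨r, rfl⟩ := hg t
  rw [coordAt_smul, hgc, mul_eq_zero] at ht
  exact hk r (ht.resolve_right hc)

theorem isLine_of_injective {A : X.Modules} {ξ x : X} {h : ξ ⤳ x}
    {φ : A.presheaf.stalk ξ →ₗ[X.presheaf.stalk ξ] Kap ξ} (hφ : Function.Injective (coordAt h φ))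
    {g : A.presheaf.stalk x} (hg : ∀ t, ∃ r : X.presheaf.stalk x, t = r • g) {c : X.residueField ξ}
    (hc : c ≠ 0) (hgc : coordAt h φ g = c) : IsLine h φ c :=
  ⟨hc, g, hg, fun r hr => hφ (by rw [coordAt_smul, hr, zero_mul, map_zero]), hgc⟩

/-- The stalk of a cokernel. -/
theorem length_stalk_cokernel {A B : X.Modules} (a : A ⟶ B) (x : X) :
    Module.length (X.presheaf.stalk x) ((cokernel a).presheaf.stalk x) =
      Module.length (X.presheaf.stalk x) (B.presheaf.stalk x ⧸ LinearMap.range (stalkₗ a x)) := by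
  have hsur : Function.Surjective (stalkₗ (cokernel.π a) x) :=
    (epi_iff_stalk (cokernel.π a)).mp inferInstance x
  have hker : LinearMap.range (stalkₗ a x) = LinearMap.ker (stalkₗ (cokernel.π a) x) := by
    have hex := (ShortComplex.exact_of_g_is_cokernel (ShortComplex.mk _ _ (cokernel.condition a))
      (cokernelIsCokernel a)).map (stalk x)
    rw [ShortComplex.ab_exact_iff] at hex
    refine Submodule.ext fun t => ⟨?_, fun ht => hex t ht⟩
    rintro ⟨u, rfl⟩
    have h := congr((stalk x).map $(cokernel.condition a))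
    rw [(stalk x).map_comp, (stalk x).map_zero] at h
    exact congr($h u)
  exact (((Submodule.quotEquivOfEq _ _ hker).trans
    ((stalkₗ (cokernel.π a) x).quotKerEquivOfSurjective hsur)).length_eq).symm

variable [IsLocallyNoetherian X]

/-- The lengths of the cokernels into the join at a divisorial point. -/
theorem length_coker_sub (hX : Cyc.IsSetup X δ) {A B : X.Modules} {ξ x : X}
    (h : Groth.Cycles.IsDivPt δ ξ x) {φ : A.presheaf.stalk ξ →ₗ[X.presheaf.stalk ξ] Kap ξ}
    {ψ : B.presheaf.stalk ξ →ₗ[X.presheaf.stalk ξ] Kap ξ} {u v : X.residueField ξ}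
    (hA : IsLine h.1 φ u) (hB : IsLine h.1 ψ v) :
    ((Module.length (X.presheaf.stalk x) ((cokernel (joinR φ ψ)).presheaf.stalk x)).toNat : ℤ) -
      ((Module.length (X.presheaf.stalk x) ((cokernel (joinL φ ψ)).presheaf.stalk x)).toNat : ℤ) =
        Cyc.ordAt x ξ h.1 (v / u) := by
  have := Groth.Cycles.isDomain_locQuot h.1
  have := Groth.Cycles.krullDimLE_one_of_isDivPt hX h
  have := Groth.Cycles.isFractionRing_locQuot h.1
  letI : Algebra (X.presheaf.stalk x) (X.residueField ξ) := (Cyc.specMap x ξ h.1).toAlgebra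
  have : IsScalarTower (X.presheaf.stalk x) (Cyc.LocQuot x ξ h.1) (X.residueField ξ) :=
    IsScalarTower.of_algebraMap_eq fun _ => rfl
  let Φ : (join φ ψ).presheaf.stalk x →ₗ[X.presheaf.stalk x] X.residueField ξ :=
    { toFun := coordAt h.1 (joinVal φ ψ)
      map_add' := map_add _
      map_smul' := fun r t => by
        rw [RingHom.id_apply, Algebra.smul_def]
        exact coordAt_smul h.1 (joinVal φ ψ) r t }
  have hΦ : Function.Injective Φ := fun s t e =>
    sp_quo_injective h.1 (joinVal_injective φ ψ e)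
  have hL : ∀ t, Φ (stalkₗ (joinL φ ψ) x t) = coordAt h.1 φ t := fun t => by
    change joinVal φ ψ (sp _ h.1 (stalkₗ (joinL φ ψ) x t)) = _
    rw [sp_natural, joinVal_L]
    rfl
  have hR : ∀ t, Φ (stalkₗ (joinR φ ψ) x t) = coordAt h.1 ψ t := fun t => by
    change joinVal φ ψ (sp _ h.1 (stalkₗ (joinR φ ψ) x t)) = _
    rw [sp_natural, joinVal_R]
    rfl
  have hmapL : (LinearMap.range (stalkₗ (joinL φ ψ) x)).map Φ = Submodule.span (X.presheaf.stalk x) {u} := by
    obtain ⟨-, g, hg, -, hgc⟩ := hA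
    refine le_antisymm ?_ (Submodule.span_le.2 ?_)
    · rintro _ ⟨_, ⟨t, rfl⟩, rfl⟩
      obtain ⟨r, rfl⟩ := hg t
      rw [map_smul, map_smul, hL g, hgc]
      exact Submodule.smul_mem _ _ (Submodule.mem_span_singleton_self u)
    · rintro _ rfl
      exact ⟨_, ⟨g, rfl⟩, (hL g).trans hgc⟩
  have hmapR : (LinearMap.range (stalkₗ (joinR φ ψ) x)).map Φ = Submodule.span (X.presheaf.stalk x) {v} := by
    obtain ⟨-, g, hg, -, hgc⟩ := hB
    refine le_antisymm ?_ (Submodule.span_le.2 ?_)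
    · rintro _ ⟨_, ⟨t, rfl⟩, rfl⟩
      obtain ⟨r, rfl⟩ := hg t
      rw [map_smul, map_smul, hR g, hgc]
      exact Submodule.smul_mem _ _ (Submodule.mem_span_singleton_self v)
    · rintro _ rfl
      exact ⟨_, ⟨g, rfl⟩, (hR g).trans hgc⟩
  have hsup : LinearMap.range (stalkₗ (joinL φ ψ) x) ⊔ LinearMap.range (stalkₗ (joinR φ ψ) x) = ⊤ := by
    refine eq_top_iff.2 fun s _ => ?_
    obtain ⟨g, k, rfl⟩ := exists_join_decomp φ ψ s
    exact Submodule.add_mem_sup (LinearMap.mem_range_self _ g) (LinearMap.mem_range_self _ k)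
  rw [length_stalk_cokernel, length_stalk_cokernel]
  exact (length_sub_length (D := Cyc.LocQuot x ξ h.1) Ideal.Quotient.mk_surjective hΦ hA.1 hB.1
    hmapL hmapR hsup).2.2

/-- Splitting a family of morphisms into kernels and cokernels. -/
theorem toQuot_sigma_ker_coker {a b : ℤ} {ι : Type u} {A J : ι → X.Modules} (f : ∀ i, A i ⟶ J i)
    (S : ι → Set X) (hlf : ∀ x : X, ∃ U : Set X, IsOpen U ∧ x ∈ U ∧ {i | (S i ∩ U).Nonempty}.Finite)
    (hA : ∀ i, Cyc.CohLe δ a (A i)) (hJ : ∀ i, Cyc.CohLe δ a (J i))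
    (hAs : ∀ i, CohB1.support (A i) ⊆ S i) (hJs : ∀ i, CohB1.support (J i) ⊆ S i) :
    Cyc.toK0CohQuot δ a b (∐ A) + Cyc.toK0CohQuot δ a b (∐ fun i => cokernel (f i)) =
      Cyc.toK0CohQuot δ a b (∐ fun i => kernel (f i)) + Cyc.toK0CohQuot δ a b (∐ J) := by
  have hK : ∀ i, Cyc.CohLe δ a (kernel (f i)) := fun i =>
    haveI := (hJ i).1.1
    cohLe_of_support (Groth.QCohMod.isCoh_kernel (f i) (hA i).1) fun x hx =>
      CohLe.le (hA i) (Devissage.support_subset_of_mono (kernel.ι (f i)) hx)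
  have hC : ∀ i, Cyc.CohLe δ a (cokernel (f i)) := fun i =>
    haveI := (hA i).1.1
    cohLe_of_support (Groth.QCohMod.isCoh_cokernel (f i) (hJ i).1) fun x hx =>
      CohLe.le (hJ i) (Devissage.support_subset_of_epi (cokernel.π (f i)) hx)
  have hI : ∀ i, Cyc.CohLe δ a (kernel (cokernel.π (f i))) := fun i =>
    haveI := (hC i).1.1
    cohLe_of_support (Groth.QCohMod.isCoh_kernel (cokernel.π (f i)) (hJ i).1) fun x hx =>
      CohLe.le (hJ i) (Devissage.support_subset_of_mono (kernel.ι (cokernel.π (f i))) hx)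
  have hKs : ∀ i, CohB1.support (kernel (f i)) ⊆ S i :=
    fun i => (Devissage.support_subset_of_mono (kernel.ι (f i))).trans (hAs i)
  have hCs : ∀ i, CohB1.support (cokernel (f i)) ⊆ S i :=
    fun i => (Devissage.support_subset_of_epi (cokernel.π (f i))).trans (hJs i)
  have hIs : ∀ i, CohB1.support (kernel (cokernel.π (f i))) ⊆ S i :=
    fun i => (Devissage.support_subset_of_mono (kernel.ι (cokernel.π (f i)))).trans (hJs i)
  let S₁ : ι → ShortComplex X.Modules := fun i =>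
    ShortComplex.mk (kernel.ι (cokernel.π (f i))) (cokernel.π (f i)) (kernel.condition _)
  let S₂ : ι → ShortComplex X.Modules := fun i =>
    ShortComplex.mk (kernel.ι (f i)) (Abelian.factorThruImage (f i)) (by
      rw [← cancel_mono (Abelian.image.ι (f i))]; simp)
  have h₁ : ∀ i, (S₁ i).ShortExact := fun i =>
    { exact := ShortComplex.exact_of_f_is_kernel _ (kernelIsKernel _)
      mono_f := inferInstanceAs (Mono (kernel.ι _))
      epi_g := inferInstanceAs (Epi (cokernel.π (f i))) }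
  have h₂ : ∀ i, (S₂ i).ShortExact := fun i =>
    { exact := by
        apply ShortComplex.exact_of_f_is_kernel
        refine KernelFork.IsLimit.ofι' _ _ fun {W'} k h => ⟨kernel.lift (f i) k ?_, kernel.lift_ι _ _ _⟩
        have := h =≫ Abelian.image.ι (f i)
        simpa [S₂] using this
      mono_f := inferInstanceAs (Mono (kernel.ι _))
      epi_g := inferInstanceAs (Epi (Abelian.factorThruImage (f i))) }
  have e₁ := toQuot_rel (δ := δ) (a := a) (b := b) (Groth.Misc6.DevissageSum.sumC S₁)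
    (Groth.Misc6.DevissageSum.sumC_shortExact Groth.Misc6.DevissageSupp.mono_sigmaMap S₁ h₁)
    (cohLe_sigma (locFin_of_subset _ hIs hlf) hI) (cohLe_sigma (locFin_of_subset _ hJs hlf) hJ)
    (cohLe_sigma (locFin_of_subset _ hCs hlf) hC)
  have e₂ := toQuot_rel (δ := δ) (a := a) (b := b) (Groth.Misc6.DevissageSum.sumC S₂)
    (Groth.Misc6.DevissageSum.sumC_shortExact Groth.Misc6.DevissageSupp.mono_sigmaMap S₂ h₂)
    (cohLe_sigma (locFin_of_subset _ hKs hlf) hK) (cohLe_sigma (locFin_of_subset _ hAs hlf) hA)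
    (cohLe_sigma (locFin_of_subset _ hIs hlf) hI)
  change Cyc.toK0CohQuot δ a b (∐ J) = Cyc.toK0CohQuot δ a b (∐ fun i => kernel (cokernel.π (f i))) +
    Cyc.toK0CohQuot δ a b (∐ fun i => cokernel (f i)) at e₁
  change Cyc.toK0CohQuot δ a b (∐ A) = Cyc.toK0CohQuot δ a b (∐ fun i => kernel (f i)) +
    Cyc.toK0CohQuot δ a b (∐ fun i => kernel (cokernel.π (f i))) at e₂
  rw [e₁, e₂]
  abel

/-- Locally finite sums of lines on closures of points of dimension `k + 1` differ by divisors. -/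
theorem toQuot_sigma_sub (hX : Cyc.IsSetup X δ) {k : ℤ} {ι : Type u} {ξ : ι → X}
    (hξ : ∀ i, δ (ξ i) = k + 1)
    (hlf : ∀ x : X, ∃ U : Set X, IsOpen U ∧ x ∈ U ∧ {i | (closure {ξ i} ∩ U).Nonempty}.Finite)
    {A B : ι → X.Modules} (hA : ∀ i, Coh.IsCoh (A i)) (hB : ∀ i, Coh.IsCoh (B i))
    (hAs : ∀ i, CohB1.support (A i) ⊆ closure {ξ i}) (hBs : ∀ i, CohB1.support (B i) ⊆ closure {ξ i})
    (φ : ∀ i, (A i).presheaf.stalk (ξ i) →ₗ[X.presheaf.stalk (ξ i)] Kap (ξ i))
    (ψ : ∀ i, (B i).presheaf.stalk (ξ i) →ₗ[X.presheaf.stalk (ξ i)] Kap (ξ i))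
    (hφ : ∀ i, Function.Bijective (φ i)) (hψ : ∀ i, Function.Bijective (ψ i))
    (d : ι → X → ℤ) (hd0 : ∀ i x, δ x = k → ¬ ξ i ⤳ x → d i x = 0)
    (hd : ∀ i x, δ x = k → ∀ h : ξ i ⤳ x, ∃ u v, IsLine h (φ i) u ∧ IsLine h (ψ i) v ∧
      Cyc.ordAt x (ξ i) h (v / u) = d i x)
    {γ : X → ℤ} (hγk : ∀ y, γ y ≠ 0 → δ y = k) (hγ : LFSupp γ)
    (hγd : ∀ x, δ x = k → γ x = ∑ᶠ i, d i x) :
    Cyc.toK0CohQuot δ (k + 1) (k - 1) (∐ A) - Cyc.toK0CohQuot δ (k + 1) (k - 1) (∐ B) =
      Cyc.toK0CohQuot δ (k + 1) (k - 1) (Cyc.cycleSheafPos γ) -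
        Cyc.toK0CohQuot δ (k + 1) (k - 1) (Cyc.cycleSheafNeg γ) := by
  have hδ := hX.2.2
  let J : ι → X.Modules := fun i => join (φ i) (ψ i)
  have hJ : ∀ i, Coh.IsCoh (J i) := fun i => isCoh_join _ _ (hA i) (hB i) (kap_killed (ξ i))
  have hJs : ∀ i, CohB1.support (J i) ⊆ closure {ξ i} := fun i => support_quo_subset
  have hle : ∀ (M : ι → X.Modules), (∀ i, Coh.IsCoh (M i)) → (∀ i, CohB1.support (M i) ⊆ closure {ξ i}) →
      ∀ i, Cyc.CohLe δ (k + 1) (M i) := fun M h1 h2 i =>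
    cohLe_of_support_closure hδ (h1 i) (h2 i) (hξ i).le
  let CA : ι → X.Modules := fun i => cokernel (joinL (φ i) (ψ i))
  let CB : ι → X.Modules := fun i => cokernel (joinR (φ i) (ψ i))
  have key : ∀ (M : ι → X.Modules) (χ : ∀ i, (M i).presheaf.stalk (ξ i) →ₗ[X.presheaf.stalk (ξ i)] Kap (ξ i))
      (f : ∀ i, M i ⟶ J i), (∀ i, Coh.IsCoh (M i)) → (∀ i, CohB1.support (M i) ⊆ closure {ξ i}) →
      (∀ i, Function.Bijective (stalkₗ (f i) (ξ i))) →
      (∀ i x, δ x = k → ∀ h : ξ i ⤳ x, Function.Injective (coordAt h (χ i))) →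
      (∀ i t, joinVal (φ i) (ψ i) (stalkₗ (f i) (ξ i) t) = χ i t) →
      Cyc.toK0CohQuot δ (k + 1) (k - 1) (∐ J) - Cyc.toK0CohQuot δ (k + 1) (k - 1) (∐ M) =
          Cyc.toK0CohQuot δ (k + 1) (k - 1) (∐ fun i => cokernel (f i)) ∧
        ∀ i, Cyc.CohLe δ k (cokernel (f i)) := by
    intro M χ f hM hMs hbij hinj hval
    have hker : ∀ i, Cyc.CohLe δ (k - 1) (kernel (f i)) := fun i => by
      have := (hJ i).1
      refine cohLe_of_support (Groth.QCohMod.isCoh_kernel (f i) (hM i)) fun x hx => ?_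
      by_contra hlt
      have hxM := Devissage.support_subset_of_mono (kernel.ι (f i)) hx
      have hs : ξ i ⤳ x := specializes_of_mem_support (hMs i) hxM
      have hfi : Function.Injective (stalkₗ (f i) x) := by
        rcases eq_or_ne (ξ i) x with he | he
        · subst he; exact (hbij i).1
        · have hxk : δ x = k := by
            have h1 := (hδ (ξ i) x hs he).1
            rw [hξ i] at h1
            omega
          intro s t e
          apply hinj i x hxk hs
          change χ i (sp _ hs s) = χ i (sp _ hs t)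
          rw [← hval i, ← hval i, ← sp_natural, ← sp_natural, e]
      have hi : Function.Injective (stalkₗ (kernel.ι (f i)) x) :=
        (mono_iff_stalk (kernel.ι (f i))).mp inferInstance x
      refine hx ⟨fun s t => hi (hfi ?_)⟩
      have hc : (stalk x).map (kernel.ι (f i)) ≫ (stalk x).map (f i) = 0 := by
        rw [← (stalk x).map_comp, kernel.condition, (stalk x).map_zero]
      exact (congr($hc s)).trans (congr($hc t)).symm
    have hcok : ∀ i, Cyc.CohLe δ k (cokernel (f i)) := fun i => by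
      have := (hM i).1
      refine cohLe_of_support (Groth.QCohMod.isCoh_cokernel (f i) (hJ i)) fun x hx => ?_
      by_contra hlt
      have hxJ := Devissage.support_subset_of_epi (cokernel.π (f i)) hx
      have he := Groth.Cycles.eq_of_specializes_of_delta_le hδ (specializes_of_mem_support (hJs i) hxJ)
        (by rw [hξ i]; omega)
      subst he
      exact Devissage.subsingleton_cokernel_stalk (f i) (ξ i) (hbij i).2 hx
    refine ⟨?_, hcok⟩
    have e := toQuot_sigma_ker_coker (δ := δ) (a := k + 1) (b := k - 1) f _ hlf (hle M hM hMs) (hle J hJ hJs) hMs hJs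
    rw [toQuot_zero (cohLe_sigma (locFin_of_subset _
      (fun i => (Devissage.support_subset_of_mono (kernel.ι (f i))).trans (hMs i)) hlf) hker), zero_add] at e
    rw [← e]
    abel
  obtain ⟨eA, hCA⟩ := key A φ (fun i => joinL (φ i) (ψ i)) hA hAs
    (fun i => bijective_joinL _ _ (hφ i))
    (fun i x hx h => let ⟨_, _, h1, _, _⟩ := hd i x hx h; h1.injective) (fun i t => joinVal_L _ _ t)
  obtain ⟨eB, hCB⟩ := key B ψ (fun i => joinR (φ i) (ψ i)) hB hBs
    (fun i => bijective_joinR _ _ (hψ i))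
    (fun i x hx h => let ⟨_, _, _, h2, _⟩ := hd i x hx h; h2.injective) (fun i t => joinVal_R _ _ t)
  have e : Cyc.toK0CohQuot δ (k + 1) (k - 1) (∐ A) - Cyc.toK0CohQuot δ (k + 1) (k - 1) (∐ B) =
      Cyc.toK0CohQuot δ (k + 1) (k - 1) (∐ CB) - Cyc.toK0CohQuot δ (k + 1) (k - 1) (∐ CA) := by
    rw [show Cyc.toK0CohQuot δ (k + 1) (k - 1) (∐ CA) = _ from eA.symm,
      show Cyc.toK0CohQuot δ (k + 1) (k - 1) (∐ CB) = _ from eB.symm]
    abel
  rw [e]
  have hCAs : ∀ i, CohB1.support (CA i) ⊆ closure {ξ i} :=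
    fun i => (Devissage.support_subset_of_epi (cokernel.π _)).trans (hJs i)
  have hCBs : ∀ i, CohB1.support (CB i) ⊆ closure {ξ i} :=
    fun i => (Devissage.support_subset_of_epi (cokernel.π _)).trans (hJs i)
  refine toQuot_sub_eq hX (by omega) le_rfl (by omega) (cohLe_sigma (locFin_of_subset _ hCBs hlf) hCB)
    (cohLe_sigma (locFin_of_subset _ hCAs hlf) hCA) hγk hγ fun x hx => ?_
  rw [hγd x hx, Cyc.sheafFun, Cyc.sheafFun, if_pos hx, if_pos hx,
    length_stalk_sigma (locFin_of_subset _ hCBs hlf) x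
      (fun i => Groth.Cycles.length_stalk_ne_top_of_le hX (hCB i).1 (hCB i).2 x hx),
    length_stalk_sigma (locFin_of_subset _ hCAs hlf) x
      (fun i => Groth.Cycles.length_stalk_ne_top_of_le hX (hCA i).1 (hCA i).2 x hx)]
  have hfinI : {i | ξ i ⤳ x}.Finite := by
    obtain ⟨U, -, hxU, hfin⟩ := hlf x
    exact hfin.subset fun i hi => ⟨x, specializes_iff_mem_closure.mp hi, hxU⟩
  have hzero : ∀ (M : ι → X.Modules), (∀ i, CohB1.support (M i) ⊆ closure {ξ i}) → ∀ i, ¬ ξ i ⤳ x →
      ((Module.length (X.presheaf.stalk x) ((M i).presheaf.stalk x)).toNat : ℤ) = 0 := fun M hM i hi => by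
    rw [Module.length_eq_zero_iff.2 (by
      by_contra hne
      exact hi (specializes_of_mem_support (hM i) hne))]
    rfl
  rw [← finsum_sub_distrib (hfinI.subset fun i hi => by_contra fun hc => hi (hzero CB hCBs i hc))
    (hfinI.subset fun i hi => by_contra fun hc => hi (hzero CA hCAs i hc))]
  refine finsum_congr fun i => ?_
  by_cases hi : ξ i ⤳ x
  · obtain ⟨u, v, h1, h2, h3⟩ := hd i x hx hi
    rw [← h3]
    exact length_coker_sub hX ⟨hi, by rw [hx, hξ i]⟩ h1 h2
  · rw [hzero CB hCBs i hi, hzero CA hCAs i hi, hd0 i x hx hi, sub_zero]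

end Groth.ChowK
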