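import Groth.Agent.ChowK.Devissage

/-!
# `K₀(Coh_{≤k})/K₀(Coh_{≤k-1})` and cycles
-/

set_option autoImplicit false
universe u

open CategoryTheory CategoryTheory.Limits AlgebraicGeometry TopologicalSpace

namespace Groth.ChowK

open Groth.QCohMod Groth.KTheory Groth.KTheory.LocFree

variable {X : Scheme.{u}} {δ : X → ℤ}

/-- The support of a coefficient function is locally finite. -/
def LFSupp (α : X → ℤ) : Prop :=
  ∀ x : X, ∃ U : Set X, IsOpen U ∧ x ∈ U ∧ {ξ | α ξ ≠ 0 ∧ (closure {ξ} ∩ U).Nonempty}.Finite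

theorem lfSupp_cycle (α : AlgebraicCycle X ℤ) : LFSupp (X := X) ⇑α := fun x => by
  obtain ⟨t, ht, hfin⟩ := α.supportLocallyFiniteWithinDomain' x (Set.mem_univ x)
  obtain ⟨U, hUt, hU, hxU⟩ := mem_nhds_iff.1 ht
  refine ⟨U, hU, hxU, hfin.subset ?_⟩
  rintro ξ ⟨hξ, y, hy, hyU⟩
  exact ⟨hUt ((specializes_iff_mem_closure.mpr hy).mem_open hU hyU), hξ⟩

theorem LFSupp.neg {α : X → ℤ} (h : LFSupp α) : LFSupp (-α) := fun x => by
  obtain ⟨U, hU, hx, hfin⟩ := h x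
  exact ⟨U, hU, hx, hfin.subset fun ξ hξ => ⟨fun h0 => hξ.1 (by simp [h0]), hξ.2⟩⟩

theorem LFSupp.pos {α : X → ℤ} (h : LFSupp α) (x : X) :
    ∃ U : Set X, IsOpen U ∧ x ∈ U ∧ {ξ | 0 < α ξ ∧ (closure {ξ} ∩ U).Nonempty}.Finite := by
  obtain ⟨U, hU, hx, hfin⟩ := h x
  exact ⟨U, hU, hx, hfin.subset fun ξ hξ => ⟨hξ.1.ne', hξ.2⟩⟩

theorem sheafFun_eq_zero_of_ne {k : ℤ} {F : X.Modules} {x : X} (h : δ x ≠ k) :
    Cyc.sheafFun δ k F x = 0 := if_neg h

variable [IsLocallyNoetherian X]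

theorem sheafFun_add (hX : Cyc.IsSetup X δ) {k : ℤ} (S : ShortComplex X.Modules) (hS : S.ShortExact)
    (h₁ : Cyc.CohLe δ k S.X₁) (h₂ : Cyc.CohLe δ k S.X₂) (h₃ : Cyc.CohLe δ k S.X₃) (x : X) :
    Cyc.sheafFun δ k S.X₂ x = Cyc.sheafFun δ k S.X₁ x + Cyc.sheafFun δ k S.X₃ x := by
  unfold Cyc.sheafFun
  split_ifs with h
  · have hinj : Function.Injective (stalkₗ S.f x) := by
      have := hS.mono_f
      exact (mono_iff_stalk S.f).mp inferInstance x
    have hsur : Function.Surjective (stalkₗ S.g x) := by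
      have := hS.epi_g
      exact (epi_iff_stalk S.g).mp inferInstance x
    have hex : Function.Exact (stalkₗ S.f x) (stalkₗ S.g x) := by
      have h' := hS.exact.map (stalk x)
      rw [ShortComplex.ab_exact_iff] at h'
      intro t
      refine ⟨fun ht => h' t ht, ?_⟩
      rintro ⟨u, rfl⟩
      exact congr($((S.map (stalk x)).zero) u)
    rw [Module.length_eq_add_of_exact _ _ hinj hsur hex,
      ENat.toNat_add (Groth.Cycles.length_stalk_ne_top_of_le hX h₁.1 h₁.2 x h)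
        (Groth.Cycles.length_stalk_ne_top_of_le hX h₃.1 h₃.2 x h), Nat.cast_add]
  · rfl

theorem lfSupp_sheafFun (hX : Cyc.IsSetup X δ) {k : ℤ} {F : X.Modules} (hF : Cyc.CohLe δ k F) :
    LFSupp (Cyc.sheafFun δ k F) := fun x => by
  obtain ⟨U, hU, hx, hfin⟩ := locallyFinite_top_points hX.2.2 hF x
  refine ⟨U, hU, hx, hfin.subset fun ξ hξ => ?_⟩
  obtain ⟨h1, h2⟩ := (sheafFun_pos_iff hX hF ξ).1 (lt_of_le_of_ne (sheafFun_nonneg ξ) hξ.1.symm)
  exact ⟨h1, h2, hξ.2⟩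

theorem sheafFun_biprod (hX : Cyc.IsSetup X δ) {k : ℤ} {M N : X.Modules} (hM : Cyc.CohLe δ k M)
    (hN : Cyc.CohLe δ k N) (x : X) :
    Cyc.sheafFun δ k (M ⊞ N) x = Cyc.sheafFun δ k M x + Cyc.sheafFun δ k N x :=
  sheafFun_add hX (ShortComplex.mk (biprod.inl : M ⟶ M ⊞ N) biprod.snd biprod.inl_snd)
    (ShortComplex.Splitting.ofHasBinaryBiproduct M N).shortExact hM (cohLe_biprod hM hN) hN x

/-- The cycle of a sum of structure sheaves is the positive part. -/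
theorem sheafFun_cycleSheafPos (hX : Cyc.IsSetup X δ) {k : ℤ} {α : X → ℤ} (hαk : ∀ ξ, α ξ ≠ 0 → δ ξ = k)
    (hα : LFSupp α) (x : X) : Cyc.sheafFun δ k (Cyc.cycleSheafPos α) x = max (α x) 0 := by
  classical
  by_cases hxk : δ x = k
  swap
  · rw [sheafFun_eq_zero_of_ne hxk]
    have : α x = 0 := by
      by_contra h
      exact hxk (hαk x h)
    simp [this]
  let M : PosIdx α → X.Modules := fun i => Cyc.closureStructureSheaf i.1.1
  have hMs : ∀ i, CohB1.support (M i) ⊆ closure {i.1.1} :=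
    fun i => Devissage.support_closureStructureSheaf_subset i.1.1
  have hz : ∀ i : PosIdx α, i.1.1 ≠ x → Module.length (X.presheaf.stalk x) ((M i).presheaf.stalk x) = 0 := by
    intro i hi
    refine Module.length_eq_zero_iff.2 ?_
    by_contra hne
    exact hi (Groth.Cycles.eq_of_specializes_of_delta_le hX.2.2 (specializes_of_mem_support (hMs i) hne)
      (by rw [hαk _ (ne_of_gt i.1.2), hxk]))
  have hone : ∀ i : PosIdx α, i.1.1 = x → Module.length (X.presheaf.stalk x) ((M i).presheaf.stalk x) = 1 := by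
    rintro i rfl
    exact Devissage.length_closureStructureSheaf i.1.1
  have hne : ∀ i : PosIdx α, Module.length (X.presheaf.stalk x) ((M i).presheaf.stalk x) ≠ ⊤ := fun i => by
    by_cases hi : i.1.1 = x
    · rw [hone i hi]; exact ENat.one_ne_top
    · rw [hz i hi]; exact ENat.zero_ne_top
  rw [Cyc.sheafFun, if_pos hxk, show Cyc.cycleSheafPos α = ∐ M from rfl,
    length_stalk_sigma (locFin_of_subset _ hMs (posIdx_locFin hα.pos)) x hne]
  by_cases hp : 0 < α x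
  · let T : Finset (PosIdx α) := Finset.univ.image (fun j : Fin (α x).toNat => (⟨⟨x, hp⟩, j⟩ : PosIdx α))
    rw [finsum_eq_sum_of_support_subset _ (s := T) ?_, Finset.sum_image (fun j _ j' _ h => by simpa using h)]
    · rw [Finset.sum_congr rfl fun j _ => by rw [hone ⟨⟨x, hp⟩, j⟩ rfl]]
      simp [max_eq_left hp.le, Int.toNat_of_nonneg hp.le]
    · rintro ⟨⟨ξ, hξ⟩, j⟩ hi
      have hξx : ξ = x := by
        by_contra h
        exact hi (by simp [hz ⟨⟨ξ, hξ⟩, j⟩ h])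
      subst hξx
      exact Finset.mem_coe.2 (Finset.mem_image.2 ⟨j, Finset.mem_univ _, rfl⟩)
  · rw [max_eq_right (not_lt.1 hp), finsum_eq_zero_of_forall_eq_zero]
    intro i
    rw [hz i fun h => hp (by have := i.1.2; rwa [h] at this)]
    rfl

theorem cohLe_pos (hX : Cyc.IsSetup X δ) {k : ℤ} {α : X → ℤ} (hαk : ∀ ξ, α ξ ≠ 0 → δ ξ = k) (hα : LFSupp α) :
    Cyc.CohLe δ k (Cyc.cycleSheafPos α) :=
  cohLe_cycleSheafPos hX.2.2 (fun ξ h => (hαk ξ h.ne').le) hα.pos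

theorem cohLe_neg (hX : Cyc.IsSetup X δ) {k : ℤ} {α : X → ℤ} (hαk : ∀ ξ, α ξ ≠ 0 → δ ξ = k) (hα : LFSupp α) :
    Cyc.CohLe δ k (Cyc.cycleSheafNeg α) :=
  cohLe_pos hX (fun ξ h => hαk ξ (by simpa using h)) hα.neg

theorem sheafFun_pos_sub_neg (hX : Cyc.IsSetup X δ) {k : ℤ} {α : X → ℤ} (hαk : ∀ ξ, α ξ ≠ 0 → δ ξ = k)
    (hα : LFSupp α) (x : X) :
    Cyc.sheafFun δ k (Cyc.cycleSheafPos α) x - Cyc.sheafFun δ k (Cyc.cycleSheafNeg α) x = α x := by
  rw [Cyc.cycleSheafNeg, sheafFun_cycleSheafPos hX hαk hα,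
    sheafFun_cycleSheafPos hX (fun ξ h => hαk ξ (by simpa using h)) hα.neg]
  simp only [Pi.neg_apply]
  omega

/-- A difference of classes of dimension `≤ k` is the class of the difference of the cycles. -/
theorem toQuot_sub_eq (hX : Cyc.IsSetup X δ) {k a b : ℤ} (hka : k ≤ a) (hkb : k - 1 ≤ b) (hba : b ≤ a)
    {M N : X.Modules} (hM : Cyc.CohLe δ k M) (hN : Cyc.CohLe δ k N) {γ : X → ℤ}
    (hγk : ∀ ξ, γ ξ ≠ 0 → δ ξ = k) (hγ : LFSupp γ)
    (h : ∀ x, δ x = k → Cyc.sheafFun δ k M x - Cyc.sheafFun δ k N x = γ x) :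
    Cyc.toK0CohQuot δ a b M - Cyc.toK0CohQuot δ a b N =
      Cyc.toK0CohQuot δ a b (Cyc.cycleSheafPos γ) - Cyc.toK0CohQuot δ a b (Cyc.cycleSheafNeg γ) := by
  have hp := cohLe_pos hX hγk hγ
  have hn := cohLe_neg hX hγk hγ
  rw [sub_eq_sub_iff_add_eq_add, ← toQuot_biprod (cohLe_mono hka hM) (cohLe_mono hka hn),
    ← toQuot_biprod (cohLe_mono hka hp) (cohLe_mono hka hN)]
  refine toQuot_eq_of_sheafFun_eq hX hka hkb hba (cohLe_biprod hM hn) (cohLe_biprod hp hN) fun x => ?_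
  rw [sheafFun_biprod hX hM hn, sheafFun_biprod hX hp hN]
  by_cases hxk : δ x = k
  · have := h x hxk
    have := sheafFun_pos_sub_neg hX hγk hγ x
    omega
  · simp only [sheafFun_eq_zero_of_ne hxk]

theorem exists_eq_sub (δ : X → ℤ) (a b : ℤ) (c : Cyc.K0CohQuot δ a b) :
    ∃ M N : X.Modules, Cyc.CohLe δ a M ∧ Cyc.CohLe δ a N ∧
      c = Cyc.toK0CohQuot δ a b M - Cyc.toK0CohQuot δ a b N := by
  induction c using QuotientAddGroup.induction_on with
  | H y =>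
    induction y using k0sub_induction with
    | h0 =>
      exact ⟨_, _, cohLe_of_isZero (isZero_zero X.Modules), cohLe_of_isZero (isZero_zero X.Modules),
        by simp⟩
    | hcl M hM =>
      refine ⟨M, _, hM, cohLe_of_isZero (isZero_zero X.Modules), ?_⟩
      rw [toQuot_isZero (isZero_zero X.Modules), sub_zero]
      rfl
    | hadd p q hp hq =>
      obtain ⟨M, N, hM, hN, e⟩ := hp
      obtain ⟨M', N', hM', hN', e'⟩ := hq
      refine ⟨M ⊞ M', N ⊞ N', cohLe_biprod hM hM', cohLe_biprod hN hN', ?_⟩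
      rw [QuotientAddGroup.mk_add, e, e', toQuot_biprod hM hM', toQuot_biprod hN hN']
      abel
    | hneg p hp =>
      obtain ⟨M, N, hM, hN, e⟩ := hp
      exact ⟨N, M, hN, hM, by rw [QuotientAddGroup.mk_neg, e, neg_sub]⟩

/-- The cycle map on `K₀(Coh_{≤k})/K₀(Coh_{≤k-1})` is bijective onto the cycles. -/
theorem exists_psi (hX : Cyc.IsSetup X δ) (k : ℤ) :
    ∃ ψ : Cyc.K0CohQuot δ k (k - 1) →+ (X → ℤ),
      (∀ F : X.Modules, Cyc.CohLe δ k F → ψ (Cyc.toK0CohQuot δ k (k - 1) F) = Cyc.sheafFun δ k F) ∧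
      Function.Injective ψ ∧
      Set.range ψ = {a | ∃ α : AlgebraicCycle X ℤ, α ∈ Cyc.Zk X δ k ∧ ⇑α = a} := by
  let f := liftSub (Cyc.CohLe δ k) (fun F => Cyc.sheafFun δ k F)
    fun S hS h₁ h₂ h₃ => funext fun x => sheafFun_add hX S hS h₁ h₂ h₃ x
  have hf : ∀ F, Cyc.CohLe δ k F → f (KZero.clSub (Cyc.CohLe δ k) F) = Cyc.sheafFun δ k F :=
    fun F hF => liftSub_clSub _ _ hF
  let ψ : Cyc.K0CohQuot δ k (k - 1) →+ (X → ℤ) := QuotientAddGroup.lift _ f (by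
    rw [AddSubgroup.closure_le]
    rintro c ⟨F, hF, rfl⟩
    rw [SetLike.mem_coe, AddMonoidHom.mem_ker, hf F (cohLe_mono (by omega) hF)]
    funext x
    unfold Cyc.sheafFun
    split_ifs with hx
    · rw [Module.length_eq_zero_iff.2 (not_nontrivial_iff_subsingleton.1 fun hn => by
        have := hF.2 x hn; omega)]
      rfl
    · rfl)
  have hψ : ∀ F, Cyc.CohLe δ k F → ψ (Cyc.toK0CohQuot δ k (k - 1) F) = Cyc.sheafFun δ k F :=
    fun F hF => hf F hF
  refine ⟨ψ, hψ, (injective_iff_map_eq_zero ψ).2 fun c hc => ?_, ?_⟩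
  · obtain ⟨M, N, hM, hN, rfl⟩ := exists_eq_sub δ k (k - 1) c
    rw [map_sub, hψ M hM, hψ N hN, sub_eq_zero] at hc
    rw [sub_eq_zero, toQuot_eq_of_sheafFun_eq hX le_rfl le_rfl (by omega) hM hN fun x => congrFun hc x]
  · refine Set.Subset.antisymm ?_ ?_
    · rintro _ ⟨c, rfl⟩
      obtain ⟨M, N, hM, hN, rfl⟩ := exists_eq_sub δ k (k - 1) c
      rw [map_sub, hψ M hM, hψ N hN]
      refine ⟨Function.locallyFinsuppWithin.mk (Cyc.sheafFun δ k M - Cyc.sheafFun δ k N)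
        (Set.subset_univ _) (fun x _ => ?_), fun x hx => ?_, rfl⟩
      · obtain ⟨U, hU, hxU, hfin⟩ := lfSupp_sheafFun hX hM x
        obtain ⟨V, hV, hxV, hfin'⟩ := lfSupp_sheafFun hX hN x
        refine ⟨U ∩ V, Filter.inter_mem (hU.mem_nhds hxU) (hV.mem_nhds hxV),
          (hfin.union hfin').subset fun ξ ⟨⟨hξU, hξV⟩, hξ⟩ => ?_⟩
        by_cases h0 : Cyc.sheafFun δ k M ξ = 0
        · refine Or.inr ⟨fun h1 => hξ (by simp [h0, h1]), ξ, subset_closure rfl, hξV⟩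
        · exact Or.inl ⟨h0, ξ, subset_closure rfl, hξU⟩
      · change Cyc.sheafFun δ k M x - Cyc.sheafFun δ k N x = 0
        rw [sheafFun_eq_zero_of_ne hx, sheafFun_eq_zero_of_ne hx, sub_zero]
    · rintro _ ⟨α, hα, rfl⟩
      have hαk : ∀ ξ, α ξ ≠ 0 → δ ξ = k := fun ξ h => by
        by_contra hne
        exact h (hα ξ hne)
      refine ⟨Cyc.toK0CohQuot δ k (k - 1) (Cyc.cycleSheafPos ⇑α) -
        Cyc.toK0CohQuot δ k (k - 1) (Cyc.cycleSheafNeg ⇑α), ?_⟩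
      rw [map_sub, hψ _ (cohLe_pos hX hαk (lfSupp_cycle α)), hψ _ (cohLe_neg hX hαk (lfSupp_cycle α))]
      exact funext fun x => sheafFun_pos_sub_neg hX hαk (lfSupp_cycle α) x

end Groth.ChowK
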