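import Groth.Agent.ChowK.DegFn
import Mathlib.LinearAlgebra.DFinsupp
import Mathlib.Algebra.BigOperators.Finprod

/-!
# Degree functions on direct sums with different primes
-/

set_option autoImplicit false
universe u

namespace Groth.ChowK

variable {R : Type u} [CommRing R] {ι : Type u} [DecidableEq ι] {V : ι → Type u}
  [∀ i, AddCommGroup (V i)] [∀ i, Module R (V i)] (p : ι → Ideal R)

/-- The component of a lattice. -/
noncomputable def cmp (L : Submodule R (Π₀ i, V i)) (i : ι) : Submodule R (V i) :=
  L.comap (DFinsupp.lsingle i)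

/-- The split part of a lattice. -/
noncomputable def splitPart (L : Submodule R (Π₀ i, V i)) : Submodule R (Π₀ i, V i) :=
  ⨆ i, (cmp L i).map (DFinsupp.lsingle i)

/-- The degree on a direct sum. -/
noncomputable def prodDeg (c : ∀ i, Submodule R (V i) → ℤ) (L : Submodule R (Π₀ i, V i)) : ℤ :=
  ∑ᶠ i, c i (cmp L i) + rlen (splitPart L) L

/-- The standing hypotheses on the summands. -/
structure SumData : Prop where
  supp : ∀ i, Supp {p i} (V i)
  prime : ∀ i, (p i).IsPrime
  incomp : ∀ i j, p j ≤ p i → j = i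
  fin : {i | ¬ Subsingleton (V i)}.Finite

variable {p}

theorem splitPart_le (L : Submodule R (Π₀ i, V i)) : splitPart L ≤ L :=
  iSup_le fun i => Submodule.map_comap_le (DFinsupp.lsingle i) L

theorem mem_splitPart (L : Submodule R (Π₀ i, V i)) {v : Π₀ i, V i}
    (h : ∀ i, DFinsupp.lsingle (R := R) i (v i) ∈ L) : v ∈ splitPart L := by
  classical
  rw [← DFinsupp.sum_single (f := v)]
  refine Submodule.sum_mem _ fun i _ => Submodule.mem_iSup_of_mem i ⟨v i, h i, rfl⟩

theorem mem_cmp_of_mem_splitPart {L : Submodule R (Π₀ i, V i)} {v : Π₀ i, V i} (h : v ∈ splitPart L) (i : ι) :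
    v i ∈ cmp L i := by
  induction h using Submodule.iSup_induction' with
  | mem j w hw =>
    obtain ⟨x, hx, rfl⟩ := hw
    rw [DFinsupp.lsingle_apply]
    by_cases hji : j = i
    · subst hji
      rw [DFinsupp.single_eq_same]
      exact hx
    · rw [DFinsupp.single_eq_of_ne (Ne.symm hji)]
      exact zero_mem _
  | zero => exact zero_mem _
  | add a b _ _ ha hb =>
    rw [DFinsupp.add_apply]
    exact add_mem ha hb

theorem cmp_splitPart (L : Submodule R (Π₀ i, V i)) (i : ι) : cmp (splitPart L) i = cmp L i := by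
  refine le_antisymm (Submodule.comap_mono (splitPart_le L)) fun x hx => ?_
  exact Submodule.mem_iSup_of_mem i ⟨x, hx, rfl⟩

theorem splitPart_idem (L : Submodule R (Π₀ i, V i)) : splitPart (splitPart L) = splitPart L :=
  iSup_congr fun i => by rw [cmp_splitPart]

theorem splitPart_mono {A B : Submodule R (Π₀ i, V i)} (h : A ≤ B) : splitPart A ≤ splitPart B :=
  iSup_mono fun _ => Submodule.map_mono (Submodule.comap_mono h)

theorem SumData.kill (hS : SumData p (V := V)) {i j : ι} (hij : j ≠ i) (w : V j) :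
    ∃ s, s ∉ p i ∧ s • w = 0 := by
  by_contra h
  push Not at h
  obtain ⟨q, hq, hqi⟩ := (hS.supp j).supp w (p i) (hS.prime i) fun r hr => by_contra fun hn => h r hn hr
  rw [Set.mem_singleton_iff] at hq
  subst hq
  exact hij (hS.incomp i j hqi)

theorem SumData.supp_prod (hS : SumData p (V := V)) : Supp (Set.range p) (Π₀ i, V i) := by
  classical
  refine ⟨?_, fun v q hq h => ?_⟩
  · rintro _ ⟨i, rfl⟩ q hq hle hne
    exact (hS.supp i).coht (p i) rfl q hq hle hne
  · have hle : v.support.inf (fun i => LinearMap.ker (LinearMap.toSpanSingleton R (V i) (v i))) ≤ q := by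
      intro r hr
      refine h r (DFinsupp.ext fun i => ?_)
      rw [DFinsupp.smul_apply, DFinsupp.zero_apply]
      by_cases hi : i ∈ v.support
      · have := Finset.inf_le (f := fun i => LinearMap.ker (LinearMap.toSpanSingleton R (V i) (v i))) hi hr
        simpa using this
      · rw [DFinsupp.notMem_support_iff.1 hi, smul_zero]
    obtain ⟨i, -, hi⟩ := hq.inf_le'.1 hle
    obtain ⟨q', hq', hqq⟩ := (hS.supp i).supp (v i) q hq fun r hr => hi (by simpa using hr)
    rw [Set.mem_singleton_iff] at hq'
    subst hq'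
    exact ⟨p i, ⟨i, rfl⟩, hqq⟩

theorem IsLat.mono {P Q : Set (Ideal R)} (h : Q ⊆ P) {W : Type u} [AddCommGroup W] [Module R W]
    {L : Submodule R W} (hL : IsLat P L) : IsLat Q L :=
  ⟨hL.1, fun v q hq => hL.2 v q (h hq)⟩

variable [IsNoetherianRing R]

theorem isLat_cmp {L : Submodule R (Π₀ i, V i)} (hL : IsLat (Set.range p) L) (i : ι) :
    IsLat {p i} (cmp L i) :=
  (hL.comap (i := DFinsupp.lsingle i) DFinsupp.single_injective).mono (by simp)

theorem isLat_splitPart (hS : SumData p (V := V)) {L : Submodule R (Π₀ i, V i)}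
    (hL : IsLat (Set.range p) L) : IsLat (Set.range p) (splitPart L) := by
  classical
  refine ⟨?_, fun v q hq => ?_⟩
  · have : Module.Finite R L := Module.Finite.iff_fg.2 hL.1
    have := (IsNoetherian.noetherian ((splitPart L).comap L.subtype)).map L.subtype
    rwa [Submodule.map_comap_subtype, inf_eq_right.2 (splitPart_le L)] at this
  · obtain ⟨i, rfl⟩ := hq
    obtain ⟨s, hs, hsL⟩ := hL.2 (DFinsupp.lsingle (R := R) i (v i)) (p i) ⟨i, rfl⟩
    have hk : ∀ j : ι, ∃ s, s ∉ p i ∧ (j = i ∨ s • v j = 0) := fun j => by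
      by_cases hj : j = i
      · exact ⟨1, fun h1 => (hS.prime i).ne_top ((Ideal.eq_top_iff_one _).2 h1), Or.inl hj⟩
      · obtain ⟨t, ht, htz⟩ := hS.kill hj (v j)
        exact ⟨t, ht, Or.inr htz⟩
    choose k hk hkz using hk
    refine ⟨s * ∏ j ∈ v.support, k j, (hS.prime i).mul_notMem hs fun hmem => ?_, mem_splitPart L fun j => ?_⟩
    · obtain ⟨j, -, hj⟩ := (hS.prime i).prod_mem_iff.1 hmem
      exact hk j hj
    · rw [DFinsupp.smul_apply]
      by_cases hj : j = i
      · subst hj
        rw [map_smul, mul_comm, mul_smul]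
        exact L.smul_mem _ hsL
      · have hz : (s * ∏ l ∈ v.support, k l) • v j = 0 := by
          by_cases hjs : j ∈ v.support
          · rw [← Finset.prod_erase_mul _ _ hjs, ← mul_assoc, mul_smul, (hkz j).resolve_left hj, smul_zero]
          · rw [DFinsupp.notMem_support_iff.1 hjs, smul_zero]
        rw [hz, map_zero]
        exact zero_mem L

theorem rlen_splitPart (hS : SumData p (V := V)) {A B : Submodule R (Π₀ i, V i)}
    (hA : IsLat (Set.range p) A) (hB : IsLat (Set.range p) B) (hAB : A ≤ B) :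
    rlen (splitPart A) (splitPart B) = ∑ᶠ i, rlen (cmp A i) (cmp B i) := by
  classical
  set T := hS.fin.toFinset with hT
  let Q : (i : T) → Type u := fun i => cmp B i.1 ⧸ (cmp A i.1).comap (cmp B i.1).subtype
  let Φ : splitPart B →ₗ[R] (i : T) → Q i := LinearMap.pi fun i =>
    (Submodule.mkQ _).comp (((DFinsupp.lapply i.1).comp (splitPart B).subtype).codRestrict (cmp B i.1)
      fun z => mem_cmp_of_mem_splitPart z.2 i.1)
  have hker : LinearMap.ker Φ = (splitPart A).comap (splitPart B).subtype := by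
    refine le_antisymm (fun z hz => ?_) fun z hz => ?_
    · refine mem_splitPart A fun i => ?_
      by_cases hi : i ∈ T
      · have h1 : Φ z ⟨i, hi⟩ = 0 := congrFun (LinearMap.mem_ker.1 hz) ⟨i, hi⟩
        exact (Submodule.Quotient.mk_eq_zero ((cmp A i).comap (cmp B i).subtype)).1 h1
      · have : Subsingleton (V i) := not_not.1 fun h => hi (hS.fin.mem_toFinset.2 h)
        rw [Subsingleton.elim ((splitPart B).subtype z i) 0, map_zero]
        exact zero_mem A
    · exact LinearMap.mem_ker.2 (funext fun i =>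
        (Submodule.Quotient.mk_eq_zero _).2 (mem_cmp_of_mem_splitPart hz i.1))
  have hsur : Function.Surjective Φ := by
    intro f
    choose g hg using fun i : T => Submodule.Quotient.mk_surjective _ (f i)
    let v : Π₀ i, V i := ∑ i : T, DFinsupp.single i.1 (g i).1
    have hv : ∀ i : T, v i.1 = (g i).1 := fun i => by
      rw [DFinsupp.finset_sum_apply, Finset.sum_eq_single i (fun j _ hj =>
        DFinsupp.single_eq_of_ne fun h => hj (Subtype.ext h).symm) (fun h => absurd (Finset.mem_univ i) h),
        DFinsupp.single_eq_same]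
    refine ⟨⟨v, Submodule.sum_mem _ fun i _ => Submodule.mem_iSup_of_mem i.1 ⟨_, (g i).2, rfl⟩⟩, funext fun i => ?_⟩
    rw [← hg i]
    exact congrArg Submodule.Quotient.mk (Subtype.ext (hv i))
  have e : Module.length R (splitPart B ⧸ (splitPart A).comap (splitPart B).subtype) =
      ∑ i : T, Module.length R (Q i) := by
    rw [← hker, (Φ.quotKerEquivOfSurjective hsur).length_eq, Module.length_pi_of_fintype]
  have hne : ∀ i : T, Module.length R (Q i) ≠ ⊤ := fun i =>
    length_rel_ne_top (hS.supp i.1) (isLat_cmp hA i.1) (isLat_cmp hB i.1)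
  have hsum : (∑ i : T, Module.length R (Q i)).toNat = ∑ i : T, (Module.length R (Q i)).toNat := by
    rw [Finset.sum_congr rfl fun i (_ : i ∈ Finset.univ) => (ENat.coe_toNat (hne i)).symm, ← Nat.cast_sum,
      ENat.toNat_coe]
  rw [rlen, e, hsum, Nat.cast_sum, finsum_eq_sum_of_support_subset _ (s := T) fun i hi => ?_]
  · exact Finset.sum_coe_sort T fun i => rlen (cmp A i) (cmp B i)
  · refine Finset.mem_coe.2 (hS.fin.mem_toFinset.2 fun hsub => hi ?_)
    show rlen (cmp A i) (cmp B i) = 0
    rw [rlen, Module.length_eq_zero_iff.2 inferInstance]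
    rfl

theorem finite_support_cmp (hS : SumData p (V := V)) {c : ∀ i, Submodule R (V i) → ℤ}
    (hc0 : ∀ i, Subsingleton (V i) → ∀ L, c i L = 0) (L : Submodule R (Π₀ i, V i)) :
    (Function.support fun i => c i (cmp L i)).Finite :=
  hS.fin.subset fun i hi hs => hi (hc0 i hs _)

theorem isDeg_prodDeg (hS : SumData p (V := V)) {c : ∀ i, Submodule R (V i) → ℤ}
    (hc : ∀ i, IsDeg {p i} (c i)) (hc0 : ∀ i, Subsingleton (V i) → ∀ L, c i L = 0) :
    IsDeg (Set.range p) (prodDeg c) := by
  intro A B hA hB hAB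
  have hV := hS.supp_prod
  have hsA := isLat_splitPart hS hA
  have hsB := isLat_splitPart hS hB
  have e1 := rlen_trans hV hsA hA hB (splitPart_le A) hAB
  have e2 := rlen_trans hV hsA hsB hB (splitPart_mono hAB) (splitPart_le B)
  have e3 := rlen_splitPart hS hA hB hAB
  have hfr : (Function.support fun i => rlen (cmp A i) (cmp B i)).Finite := hS.fin.subset fun i hi hs => hi (by
    have := hs
    show rlen (cmp A i) (cmp B i) = 0
    rw [rlen, Module.length_eq_zero_iff.2 inferInstance]
    rfl)
  have e4 : ∑ᶠ i, c i (cmp B i) = ∑ᶠ i, c i (cmp A i) + ∑ᶠ i, rlen (cmp A i) (cmp B i) := by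
    rw [← finsum_add_distrib (finite_support_cmp hS hc0 A) hfr]
    exact finsum_congr fun i => hc i _ _ (isLat_cmp hA i) (isLat_cmp hB i) (Submodule.comap_mono hAB)
  unfold prodDeg
  omega

theorem prodDeg_splitPart (c : ∀ i, Submodule R (V i) → ℤ) (L : Submodule R (Π₀ i, V i)) :
    prodDeg c (splitPart L) = ∑ᶠ i, c i (cmp L i) := by
  rw [prodDeg, splitPart_idem, rlen_self, add_zero]
  exact finsum_congr fun i => by rw [cmp_splitPart]

end Groth.ChowK
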