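import Groth.Agent.ChowK.Frame
import Groth.Agent.ChowK.DegProd
import Groth.Agent.ChowK.Cycle
import Groth.Agent.ChowK.Lattice
import Groth.Agent.Cycles.StalkPrimes
import Groth.Agent.Cycles.KeyScheme
import Groth.Agent.RefRank.Divisor
import Groth.Agent.FlatMor2.FibCrit.SchemeNoeth

/-!
# The local rings at points of dimension `k` and the generalisations of dimension `k + 1`
-/

set_option autoImplicit false
set_option linter.style.haveILetI false
universe u

open CategoryTheory CategoryTheory.Limits AlgebraicGeometry TopologicalSpace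

namespace Groth.ChowK

open Groth.QCohMod Groth.KTheory Groth.KTheory.LocFree

variable {X : Scheme.{u}}

theorem notMem_genPrime {ξ x : X} (h : ξ ⤳ x) {s : X.presheaf.stalk x} :
    s ∉ (Groth.Cycles.genPrime h).asIdeal ↔ IsUnit (spR h s) := by
  show ¬ spR h s ∈ IsLocalRing.maximalIdeal _ ↔ _
  rw [IsLocalRing.mem_maximalIdeal, mem_nonunits_iff, not_not]

/-- The stalk at a generalisation is a localisation: denominators. -/
theorem exists_sp_eq_smul {F : X.Modules} (hF : Coh.IsCoh F) {ξ x : X} (h : ξ ⤳ x) (w : F.presheaf.stalk ξ) :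
    ∃ s : X.presheaf.stalk x, s ∉ (Groth.Cycles.genPrime h).asIdeal ∧
      ∃ t : F.presheaf.stalk x, sp F h t = spR h s • w := by
  have := hF.1
  obtain ⟨V, hV, hxV⟩ := exists_affine_mem x
  have hξV : ξ ∈ V := h.mem_open V.2 hxV
  obtain ⟨a, m, ha, hm⟩ := exists_smul_germ_eq F hV ξ hξV w
  have e : spR h (X.presheaf.germ V x hxV a) = X.presheaf.germ V ξ hξV a :=
    TopCat.Presheaf.germ_stalkSpecializes_apply X.presheaf hxV h a
  refine ⟨X.presheaf.germ V x hxV a, (notMem_genPrime h).2 ?_, germ F x hxV m, ?_⟩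
  · rw [e]
    exact (Scheme.mem_basicOpen X a ξ hξV).mp ha
  · rw [e, sp_germ, hm]

/-- The stalk at a generalisation is a localisation: kernel. -/
theorem exists_smul_eq_zero_of_sp {F : X.Modules} (hF : Coh.IsCoh F) {ξ x : X} (h : ξ ⤳ x)
    {t : F.presheaf.stalk x} (ht : sp F h t = 0) :
    ∃ s : X.presheaf.stalk x, s ∉ (Groth.Cycles.genPrime h).asIdeal ∧ s • t = 0 := by
  have := hF.1
  obtain ⟨V, hV, hxV⟩ := exists_affine_mem x
  have hξV : ξ ∈ V := h.mem_open V.2 hxV
  obtain ⟨a, m, ha, hm⟩ := exists_smul_germ_eq F hV x hxV t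
  have hm0 : germ F ξ hξV m = 0 := by
    rw [← sp_germ F h hxV m, ← hm, sp_smul, ht, smul_zero]
  obtain ⟨c, hc, hcm⟩ := exists_smul_eq_zero_of_germ_eq_zero F hV ξ hξV m hm0
  refine ⟨X.presheaf.germ V x hxV c * X.presheaf.germ V x hxV a, (notMem_genPrime h).2 ?_, ?_⟩
  · rw [map_mul]
    refine IsUnit.mul ?_ ?_
    · rw [show spR h (X.presheaf.germ V x hxV c) = X.presheaf.germ V ξ hξV c from
        TopCat.Presheaf.germ_stalkSpecializes_apply X.presheaf hxV h c]
      exact (Scheme.mem_basicOpen X c ξ hξV).mp hc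
    · exact ((Scheme.mem_basicOpen X a x hxV).mp ha).map (spR h)
  · rw [mul_smul, hm, ← germ_smul, hcm, map_zero]

/-- A prime of the local ring containing the annihilator of a germ is a point of the support. -/
theorem nontrivial_of_ann_le {F : X.Modules} (hF : Coh.IsCoh F) {x : X} {t : F.presheaf.stalk x}
    {q : PrimeSpectrum (X.presheaf.stalk x)} (hq : ∀ r, r • t = 0 → r ∈ q.asIdeal) :
    ∃ (y : X) (h : y ⤳ x), Groth.Cycles.genPrime h = q ∧ sp F h t ≠ 0 := by
  have h : X.fromSpecStalk x q ⤳ x := Scheme.range_fromSpecStalk.le ⟨q, rfl⟩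
  refine ⟨_, h, Groth.Cycles.genPrime_fromSpecStalk q h, fun h0 => ?_⟩
  obtain ⟨s, hs, hst⟩ := exists_smul_eq_zero_of_sp hF h h0
  rw [Groth.Cycles.genPrime_fromSpecStalk q h] at hs
  exact hs (hq s hst)

theorem genPrime_rfl (x : X) :
    Groth.Cycles.genPrime (specializes_rfl (x := x)) = IsLocalRing.closedPoint (X.presheaf.stalk x) :=
  (X.fromSpecStalk x).isEmbedding.injective
    ((Groth.Cycles.fromSpecStalk_genPrime specializes_rfl).trans Scheme.fromSpecStalk_closedPoint.symm)

theorem specializes_of_genPrime_le {ξ ξ' x : X} (h : ξ ⤳ x) (h' : ξ' ⤳ x)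
    (hle : (Groth.Cycles.genPrime h').asIdeal ≤ (Groth.Cycles.genPrime h).asIdeal) : ξ' ⤳ ξ := by
  have := ((PrimeSpectrum.le_iff_specializes _ _).mp hle).map (X.fromSpecStalk x).continuous
  rwa [Groth.Cycles.fromSpecStalk_genPrime, Groth.Cycles.fromSpecStalk_genPrime] at this

variable (δ : X → ℤ) (k : ℤ)

/-- The points of dimension `k` in the closure of `ξ`. -/
abbrev Dn (ξ : X) : Type u := {x : X // δ x = k ∧ ξ ⤳ x}

/-- The points of dimension `k + 1` specialising to `x`. -/
abbrev Up (x : X) : Type u := {ξ : X // δ ξ = k + 1 ∧ ξ ⤳ x}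

/-- The local ring at a point of the closure. -/
def Rt (ξ : X) (t : Dn δ k ξ) : Type u := X.presheaf.stalk t.1

noncomputable instance instCommRingRt (ξ : X) (t : Dn δ k ξ) : CommRing (Rt δ k ξ t) :=
  inferInstanceAs (CommRing (X.presheaf.stalk t.1))

noncomputable instance instAlgebraRt (ξ : X) (t : Dn δ k ξ) : Algebra (Rt δ k ξ t) (X.presheaf.stalk ξ) :=
  (spR t.2.2).toAlgebra

variable {δ k}

theorem isDivPt_dn {ξ : X} (hξ : δ ξ = k + 1) (t : Dn δ k ξ) : Groth.Cycles.IsDivPt δ ξ t.1 :=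
  ⟨t.2.2, by rw [t.2.1, hξ]⟩

variable [IsLocallyNoetherian X]

theorem locData (hX : Cyc.IsSetup X δ) {ξ : X} (hξ : δ ξ = k + 1) :
    LocData (X.presheaf.stalk ξ) (Rt δ k ξ) where
  noeth t := inferInstanceAs (IsNoetherianRing (X.presheaf.stalk t.1))
  coht t := fun (q : Ideal (X.presheaf.stalk t.1)) hq hle hne => by
    have hd := isDivPt_dn hξ t
    have := Groth.Cycles.isDomain_locQuot hd.1
    have := Groth.Cycles.krullDimLE_one_of_isDivPt hX hd
    have hker : RingHom.ker (Cyc.specMap t.1 ξ hd.1) ≤ q := (Groth.Cycles.genPrime_asIdeal hd.1).ge.trans hle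
    let mk := Ideal.Quotient.mk (RingHom.ker (Cyc.specMap t.1 ξ hd.1))
    have hcm : (q.map mk).comap mk = q := by
      rw [Ideal.comap_map_of_surjective mk Ideal.Quotient.mk_surjective, ← RingHom.ker_eq_comap_bot,
        Ideal.mk_ker, sup_eq_left.2 hker]
    haveI hq' : Ideal.IsPrime (α := X.presheaf.stalk t.1) q := hq
    have hp : (q.map mk).IsPrime := Ideal.map_isPrime_of_surjective Ideal.Quotient.mk_surjective (by
      rw [Ideal.mk_ker]; exact hker)
    have hbot : q.map mk ≠ ⊥ := fun hb => hne (by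
      have h1 : q = (Groth.Cycles.genPrime hd.1).asIdeal := by
        rw [← hcm, hb, ← RingHom.ker_eq_comap_bot, Ideal.mk_ker, Groth.Cycles.genPrime_asIdeal]
      exact h1)
    have := hp.isMaximal_of_ne_bot hbot
    rw [← hcm]
    exact Ideal.comap_isMaximal_of_surjective mk Ideal.Quotient.mk_surjective
  loc t a := by
    letI := (X.presheaf.stalkSpecializes t.2.2).hom.toAlgebra
    have := Groth.Cycles.isLocalization_stalkSpecializes t.2.2
    obtain ⟨⟨r, s⟩, hrs⟩ := IsLocalization.surj (Groth.Cycles.genPrime t.2.2).asIdeal.primeCompl a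
    exact ⟨(s.1 : X.presheaf.stalk t.1), (r : X.presheaf.stalk t.1), s.2, (mul_comm _ _).trans hrs⟩

/-- The divisor of an element in the abstract setting is minus the order. -/
theorem dv_eq (hX : Cyc.IsSetup X δ) {ξ : X} (hξ : δ ξ = k + 1) (t : Dn δ k ξ) {f : X.residueField ξ}
    (hf : f ≠ 0) :
    dv (A := X.presheaf.stalk ξ) (R := Rt δ k ξ) t f = - Cyc.ordAt t.1 ξ t.2.2 f := by
  have hd := isDivPt_dn hξ t
  have := Groth.Cycles.isDomain_locQuot hd.1
  have := Groth.Cycles.krullDimLE_one_of_isDivPt hX hd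
  have := Groth.Cycles.isFractionRing_locQuot hd.1
  letI algK : Algebra (Rt δ k ξ t) (X.residueField ξ) := (Cyc.specMap t.1 ξ hd.1).toAlgebra
  letI algD : Algebra (Rt δ k ξ t) (Cyc.LocQuot t.1 ξ hd.1) :=
    (Ideal.Quotient.mk (RingHom.ker (Cyc.specMap t.1 ξ hd.1))).toAlgebra
  have : IsScalarTower (Rt δ k ξ t) (Cyc.LocQuot t.1 ξ hd.1) (X.residueField ξ) :=
    IsScalarTower.of_algebraMap_eq fun _ => rfl
  let K := Res0 (X.presheaf.stalk ξ)
  let A₀ := stdLat (X.presheaf.stalk ξ) (Rt δ k ξ) t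
  let B₀ := A₀.map (rmap t (LinearMap.mulLeft (X.presheaf.stalk ξ) (show K from f)))
  let J := A₀ ⊔ B₀
  let Φ : J →ₗ[Rt δ k ξ t] X.residueField ξ :=
    { toFun := fun z => z.1
      map_add' := fun a b => rfl
      map_smul' := fun r z => by
        rw [RingHom.id_apply, Algebra.smul_def]
        exact Algebra.smul_def (spR t.2.2 r) (show K from z.1) }
  have hone : (A₀.comap J.subtype).map Φ = Submodule.span (Rt δ k ξ t) {(1 : X.residueField ξ)} := by
    refine le_antisymm ?_ (Submodule.span_le.2 ?_)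
    · rintro _ ⟨z, hz, rfl⟩
      obtain ⟨r, hr⟩ := Submodule.mem_span_singleton.1 hz
      refine Submodule.mem_span_singleton.2 ⟨r, ?_⟩
      rw [Algebra.smul_def]
      exact (Algebra.smul_def (spR t.2.2 r) (show K from 1)).symm.trans hr
    · rintro _ rfl
      exact ⟨⟨_, Submodule.mem_sup_left (Submodule.mem_span_singleton_self _)⟩,
        Submodule.mem_span_singleton_self _, rfl⟩
  have hf' : (B₀.comap J.subtype).map Φ = Submodule.span (Rt δ k ξ t) {f} := by
    refine le_antisymm ?_ (Submodule.span_le.2 ?_)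
    · rintro _ ⟨z, hz, rfl⟩
      obtain ⟨w, hw, hwz⟩ := hz
      obtain ⟨r, hr⟩ := Submodule.mem_span_singleton.1 hw
      refine Submodule.mem_span_singleton.2 ⟨r, ?_⟩
      have e2 : (show K from w) = algebraMap (X.presheaf.stalk ξ) K (spR t.2.2 r) * 1 := by
        rw [← Algebra.smul_def]; exact hr.symm
      have e1 : Φ z = (show K from f) * (show K from w) := hwz.symm
      rw [e1, Algebra.smul_def, e2, mul_one]
      exact mul_comm _ _
    · intro z hz
      rw [Set.mem_singleton_iff.1 hz]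
      have hmem := Submodule.mem_map_of_mem (f := rmap t (LinearMap.mulLeft (X.presheaf.stalk ξ) (show K from f)))
        (Submodule.mem_span_singleton_self (R := Rt δ k ξ t)
          (show Res (X.presheaf.stalk ξ) (Rt δ k ξ) t K from (1 : K)))
      exact ⟨⟨_, Submodule.mem_sup_right hmem⟩, hmem, mul_one (show K from f)⟩
  have hsup : A₀.comap J.subtype ⊔ B₀.comap J.subtype = ⊤ := by
    refine eq_top_iff.2 fun z _ => ?_
    obtain ⟨a, ha, b, hb, e⟩ := Submodule.mem_sup.1 z.2
    refine Submodule.mem_sup.2 ⟨⟨a, Submodule.mem_sup_left ha⟩, ha, ⟨b, Submodule.mem_sup_right hb⟩, hb, ?_⟩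
    exact Subtype.ext e
  have key := (length_sub_length (D := Cyc.LocQuot t.1 ξ hd.1) (R := Rt δ k ξ t) Ideal.Quotient.mk_surjective
    (Φ := Φ) (fun a b h => Subtype.ext h) one_ne_zero hf hone hf' hsup).2.2
  rw [div_one] at key
  show rlen A₀ J - rlen B₀ J = _
  rw [rlen, rlen, Cyc.ordAt, ← key, neg_sub]

end Groth.ChowK
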