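import Groth.Agent.ChowK.KDev
import Groth.Agent.ChowK.RatLocal
import Groth.Agent.ChowK.DegExt
import Groth.Agent.ChowK.Divisor
import Groth.Agent.Cycles.C1Comm

/-!
# Weil divisors and the coniveau filtration of `K₀(Coh X)` for integral schemes
-/

set_option autoImplicit false
set_option linter.style.haveILetI false
universe u

open CategoryTheory CategoryTheory.Limits AlgebraicGeometry TopologicalSpace

namespace Groth.ChowK.CodimOne

open Groth.QCohMod Groth.KTheory Groth.KTheory.LocFree Groth.ChowK Groth.ChowK.KDev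

variable (X : Scheme.{u})

/-- The points of codimension one. -/
abbrev C1 : Type u := {x : X // ringKrullDim (X.presheaf.stalk x) = 1}

variable {X} [IsNoetherian X] [IsIntegral X]

/-- The generic point. -/
noncomputable abbrev gpt (X : Scheme.{u}) [IsIntegral X] : X := genericPoint X

theorem gsp (x : X) : gpt X ⤳ x := genericPoint_specializes x

theorem dim_gpt : ringKrullDim (X.presheaf.stalk (gpt X)) = 0 :=
  dim_stalk_eq_zero_iff.2 fun z hz => (hz.antisymm (gsp z)).eq

theorem ne_gpt (x : C1 X) : x.1 ≠ gpt X := fun h => by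
  have h1 := x.2
  rw [h, dim_gpt] at h1
  exact zero_ne_one h1

theorem eq_gpt_of_specializes {x : X} (hx : ringKrullDim (X.presheaf.stalk x) = 1) {z : X} (hz : z ⤳ x)
    (hne : z ≠ x) : z = gpt X := by
  rw [ringKrullDim_stalk_eq_coheight, WithBot.coe_eq_one] at hx
  have hlt : x < z := lt_of_le_not_ge (AlgebraicGeometry.Scheme.le_iff_specializes.2 hz) fun h =>
    hne (hz.antisymm (AlgebraicGeometry.Scheme.le_iff_specializes.1 h)).eq
  have h0 := Order.coheight_add_one_le hlt
  rw [hx] at h0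
  have h1 : Order.coheight z = 0 := by
    have : Order.coheight z + 1 ≤ 0 + 1 := by simpa using h0
    exact nonpos_iff_eq_zero.1 ((ENat.addLECancellable_of_ne_top ENat.one_ne_top).add_le_add_iff_right.1 this)
  refine ((dim_stalk_eq_zero_iff (x := z)).1 (by rw [ringKrullDim_stalk_eq_coheight, h1]; rfl) _ (gsp z)).symm

theorem krullDimLE_locQuot (x : C1 X) : Ring.KrullDimLE 1 (Cyc.LocQuot x.1 (gpt X) (gsp x.1)) :=
  Ring.krullDimLE_iff.mpr ((ringKrullDim_quotient_le _).trans x.2.le)

theorem genPrime_eq_bot (x : X) : (Groth.Cycles.genPrime (gsp x)).asIdeal = ⊥ := by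
  refine eq_bot_iff.2 fun a ha => ?_
  rw [Groth.Cycles.genPrime_asIdeal, RingHom.mem_ker] at ha
  change IsLocalRing.residue (X.presheaf.stalk (gpt X)) (spR (gsp x) a) = 0 at ha
  have hz : spR (gsp x) a = 0 := by
    rw [IsLocalRing.residue_eq_zero_iff, IsLocalRing.mem_maximalIdeal, mem_nonunits_iff] at ha
    by_contra hne
    exact ha (isUnit_iff_ne_zero.2 hne)
  exact IsFractionRing.injective (X.presheaf.stalk x) X.functionField (hz.trans (map_zero _).symm)

/-- The local ring at a point of codimension one. -/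
def R1 (t : C1 X) : Type u := X.presheaf.stalk t.1

noncomputable instance instCommRingR1 (t : C1 X) : CommRing (R1 t) :=
  inferInstanceAs (CommRing (X.presheaf.stalk t.1))

noncomputable instance instAlgebraR1 (t : C1 X) : Algebra (R1 t) (X.presheaf.stalk (gpt X)) :=
  (spR (gsp t.1)).toAlgebra

theorem locData : LocData (X.presheaf.stalk (gpt X)) (R1 (X := X)) where
  noeth t := inferInstanceAs (IsNoetherianRing (X.presheaf.stalk t.1))
  coht t := fun (q : Ideal (X.presheaf.stalk t.1)) hq hle hne => by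
    haveI hq' : Ideal.IsPrime (α := X.presheaf.stalk t.1) q := hq
    have hd : Ring.KrullDimLE 1 (X.presheaf.stalk t.1) := Ring.krullDimLE_iff.mpr t.2.le
    rcases Ring.krullDimLE_one_iff.1 hd q hq' with h | h
    · exact absurd (le_antisymm ((h.2 ⟨(Groth.Cycles.genPrime (gsp t.1)).2, bot_le⟩ hle)) hle) hne
    · exact h
  loc t a := by
    letI := (X.presheaf.stalkSpecializes (gsp t.1)).hom.toAlgebra
    have := Groth.Cycles.isLocalization_stalkSpecializes (gsp t.1)
    obtain ⟨⟨r, s⟩, hrs⟩ := IsLocalization.surj (Groth.Cycles.genPrime (gsp t.1)).asIdeal.primeCompl a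
    exact ⟨(s.1 : X.presheaf.stalk t.1), (r : X.presheaf.stalk t.1), s.2, (mul_comm _ _).trans hrs⟩

theorem dv_eq (t : C1 X) {f : X.residueField (gpt X)} (hf : f ≠ 0) :
    dv (A := X.presheaf.stalk (gpt X)) (R := R1 (X := X)) t f = - Cyc.ordAt t.1 (gpt X) (gsp t.1) f := by
  have := Groth.Cycles.isDomain_locQuot (gsp t.1)
  have := krullDimLE_locQuot t
  have := Groth.Cycles.isFractionRing_locQuot (gsp t.1)
  letI algK : Algebra (R1 t) (X.residueField (gpt X)) := (Cyc.specMap t.1 (gpt X) (gsp t.1)).toAlgebra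
  letI algD : Algebra (R1 t) (Cyc.LocQuot t.1 (gpt X) (gsp t.1)) :=
    (Ideal.Quotient.mk (RingHom.ker (Cyc.specMap t.1 (gpt X) (gsp t.1)))).toAlgebra
  have : IsScalarTower (R1 t) (Cyc.LocQuot t.1 (gpt X) (gsp t.1)) (X.residueField (gpt X)) :=
    IsScalarTower.of_algebraMap_eq fun _ => rfl
  let K := Res0 (X.presheaf.stalk (gpt X))
  let A₀ := stdLat (X.presheaf.stalk (gpt X)) (R1 (X := X)) t
  let B₀ := A₀.map (rmap t (LinearMap.mulLeft (X.presheaf.stalk (gpt X)) (show K from f)))
  let J := A₀ ⊔ B₀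
  let Φ : J →ₗ[R1 t] X.residueField (gpt X) :=
    { toFun := fun z => z.1
      map_add' := fun a b => rfl
      map_smul' := fun r z => by
        rw [RingHom.id_apply, Algebra.smul_def]
        exact Algebra.smul_def (spR (gsp t.1) r) (show K from z.1) }
  have hone : (A₀.comap J.subtype).map Φ = Submodule.span (R1 t) {(1 : X.residueField (gpt X))} := by
    refine le_antisymm ?_ (Submodule.span_le.2 ?_)
    · rintro _ ⟨z, hz, rfl⟩
      obtain ⟨r, hr⟩ := Submodule.mem_span_singleton.1 hz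
      refine Submodule.mem_span_singleton.2 ⟨r, ?_⟩
      rw [Algebra.smul_def]
      exact (Algebra.smul_def (spR (gsp t.1) r) (show K from 1)).symm.trans hr
    · rintro _ rfl
      exact ⟨⟨_, Submodule.mem_sup_left (Submodule.mem_span_singleton_self _)⟩,
        Submodule.mem_span_singleton_self _, rfl⟩
  have hf' : (B₀.comap J.subtype).map Φ = Submodule.span (R1 t) {f} := by
    refine le_antisymm ?_ (Submodule.span_le.2 ?_)
    · rintro _ ⟨z, hz, rfl⟩
      obtain ⟨w, hw, hwz⟩ := hz
      obtain ⟨r, hr⟩ := Submodule.mem_span_singleton.1 hw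
      refine Submodule.mem_span_singleton.2 ⟨r, ?_⟩
      have e2 : (show K from w) = algebraMap (X.presheaf.stalk (gpt X)) K (spR (gsp t.1) r) * 1 := by
        rw [← Algebra.smul_def]; exact hr.symm
      have e1 : Φ z = (show K from f) * (show K from w) := hwz.symm
      rw [e1, Algebra.smul_def, e2, mul_one]
      exact mul_comm _ _
    · intro z hz
      rw [Set.mem_singleton_iff.1 hz]
      have hmem := Submodule.mem_map_of_mem
        (f := rmap t (LinearMap.mulLeft (X.presheaf.stalk (gpt X)) (show K from f)))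
        (Submodule.mem_span_singleton_self (R := R1 t)
          (show Res (X.presheaf.stalk (gpt X)) (R1 (X := X)) t K from (1 : K)))
      exact ⟨⟨_, Submodule.mem_sup_right hmem⟩, hmem, mul_one (show K from f)⟩
  have hsup : A₀.comap J.subtype ⊔ B₀.comap J.subtype = ⊤ := by
    refine eq_top_iff.2 fun z _ => ?_
    obtain ⟨a, ha, b, hb, e⟩ := Submodule.mem_sup.1 z.2
    refine Submodule.mem_sup.2 ⟨⟨a, Submodule.mem_sup_left ha⟩, ha, ⟨b, Submodule.mem_sup_right hb⟩, hb, ?_⟩
    exact Subtype.ext e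
  have key := (length_sub_length (D := Cyc.LocQuot t.1 (gpt X) (gsp t.1)) (R := R1 t) Ideal.Quotient.mk_surjective
    (Φ := Φ) (fun a b h => Subtype.ext h) one_ne_zero hf hone hf' hsup).2.2
  rw [div_one] at key
  show rlen A₀ J - rlen B₀ J = _
  rw [rlen, rlen, Cyc.ordAt, ← key, neg_sub]

theorem ordAt_mul (t : C1 X) {f g : X.residueField (gpt X)} (hf : f ≠ 0) (hg : g ≠ 0) :
    Cyc.ordAt t.1 (gpt X) (gsp t.1) (f * g) =
      Cyc.ordAt t.1 (gpt X) (gsp t.1) f + Cyc.ordAt t.1 (gpt X) (gsp t.1) g := by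
  have := Groth.Cycles.isDomain_locQuot (gsp t.1)
  have := krullDimLE_locQuot t
  have := Groth.Cycles.isFractionRing_locQuot (gsp t.1)
  exact Groth.RefRank.ordFrac_mul' hf hg

theorem ordAt_one (t : C1 X) : Cyc.ordAt t.1 (gpt X) (gsp t.1) 1 = 0 := by
  have h := ordAt_mul t (one_ne_zero (α := X.residueField (gpt X))) one_ne_zero
  rw [one_mul] at h
  omega

variable (X) in
/-- Principal divisors. -/
def principal : AddSubgroup (C1 X → ℤ) where
  carrier := {g | ∃ f : X.residueField (gpt X), f ≠ 0 ∧ ∀ t, g t = Cyc.ordAt t.1 (gpt X) (gsp t.1) f}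
  add_mem' := by
    rintro g g' ⟨f, hf, h⟩ ⟨f', hf', h'⟩
    exact ⟨f * f', mul_ne_zero hf hf', fun t => by rw [Pi.add_apply, h, h', ordAt_mul t hf hf']⟩
  zero_mem' := ⟨1, one_ne_zero, fun t => by rw [ordAt_one]; rfl⟩
  neg_mem' := by
    rintro g ⟨f, hf, h⟩
    refine ⟨f⁻¹, inv_ne_zero hf, fun t => ?_⟩
    have e := ordAt_mul t hf (inv_ne_zero hf)
    rw [mul_inv_cancel₀ hf, ordAt_one] at e
    rw [Pi.neg_apply, h]
    omega

theorem len_gpt_ne_top {F : X.Modules} (hF : Coh.IsCoh F) :
    Module.length (X.presheaf.stalk (gpt X)) (F.presheaf.stalk (gpt X)) ≠ ⊤ :=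
  Devissage.length_stalk_ne_top hF _ fun z _ hz => (hz.antisymm (gsp z)).eq

/-- The stalk at the generic point over the local ring at `t`. -/
abbrev Vg (t : C1 X) (F : X.Modules) : Type u :=
  Res (X.presheaf.stalk (gpt X)) (R1 (X := X)) t (F.presheaf.stalk (gpt X))

noncomputable instance instModuleR1Stalk (t : C1 X) (F : X.Modules) : Module (R1 t) (F.presheaf.stalk t.1) :=
  inferInstanceAs (Module (X.presheaf.stalk t.1) (F.presheaf.stalk t.1))

/-- The map to the generic stalk. -/
noncomputable def muG (t : C1 X) (F : X.Modules) : F.presheaf.stalk t.1 →ₗ[R1 t] Vg t F where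
  toFun m := sp F (gsp t.1) m
  map_add' := map_add (sp F (gsp t.1))
  map_smul' r m := sp_smul F (gsp t.1) r m

theorem finite_R1 {F : X.Modules} (hF : Coh.IsCoh F) (t : C1 X) : Module.Finite (R1 t) (F.presheaf.stalk t.1) :=
  Groth.FlatMor2.FibCrit.finite_stalk_of_isCoh F hF t.1

theorem supp_Vg {F : X.Modules} (hF : Coh.IsCoh F) (t : C1 X) :
    Supp {pr (X.presheaf.stalk (gpt X)) (R1 (X := X)) t} (Vg t F) :=
  supp_fl locData (len_gpt_ne_top hF) t

theorem length_ker_muG_ne_top {F : X.Modules} (hF : Coh.IsCoh F) (t : C1 X) :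
    Module.length (R1 t) (LinearMap.ker (muG t F)) ≠ ⊤ := by
  have := finite_R1 hF t
  have := (locData (X := X)).noeth t
  refine length_ker_ne_top (supp_Vg hF t) (fun m q hq h => ⟨_, rfl, ?_⟩) fun m hm p hp => ?_
  · exact (le_of_eq (genPrime_eq_bot t.1)).trans bot_le
  · rw [Set.mem_singleton_iff] at hp
    subst hp
    obtain ⟨s, hs, hst⟩ := exists_smul_eq_zero_of_sp hF (gsp t.1) (t := m) hm
    exact ⟨s, hs, hst⟩

theorem isLat_range_muG {F : X.Modules} (hF : Coh.IsCoh F) (t : C1 X) :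
    IsLat {pr (X.presheaf.stalk (gpt X)) (R1 (X := X)) t} (LinearMap.range (muG t F)) := by
  have := finite_R1 hF t
  refine ⟨Module.Finite.iff_fg.1 (Module.Finite.range _), fun v p hp => ?_⟩
  rw [Set.mem_singleton_iff] at hp
  subst hp
  obtain ⟨s, hs, m, hm⟩ := exists_sp_eq_smul hF (gsp t.1) (show F.presheaf.stalk (gpt X) from v)
  exact ⟨s, hs, m, hm⟩

/-- A chosen degree function. -/
noncomputable def cG {F : X.Modules} (hF : Coh.IsCoh F) :
    Fns (X.presheaf.stalk (gpt X)) (R1 (X := X)) (F.presheaf.stalk (gpt X)) :=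
  Classical.choose (exists_fd (R1 (X := X)) _ (ENat.coe_toNat (len_gpt_ne_top hF)).symm)

theorem fd_cG {F : X.Modules} (hF : Coh.IsCoh F) : FD (F.presheaf.stalk (gpt X)) (cG hF) :=
  Classical.choose_spec (exists_fd (R1 (X := X)) _ (ENat.coe_toNat (len_gpt_ne_top hF)).symm)

/-- The invariant. -/
noncomputable def thetaG (t : C1 X) (F : X.Modules)
    (c : Fns (X.presheaf.stalk (gpt X)) (R1 (X := X)) (F.presheaf.stalk (gpt X))) : ℤ :=
  ((Module.length (R1 t) (LinearMap.ker (muG t F))).toNat : ℤ) + c t (LinearMap.range (muG t F))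

theorem thetaG_concat (t : C1 X) {S : ShortComplex X.Modules} (hS : S.ShortExact)
    (h₂ : Coh.IsCoh S.X₂) (h₁ : Coh.IsCoh S.X₁) (h₃ : Coh.IsCoh S.X₃)
    {c₁ : Fns (X.presheaf.stalk (gpt X)) (R1 (X := X)) (S.X₁.presheaf.stalk (gpt X))}
    (hc₁ : FD (S.X₁.presheaf.stalk (gpt X)) c₁)
    (c₃ : Fns (X.presheaf.stalk (gpt X)) (R1 (X := X)) (S.X₃.presheaf.stalk (gpt X))) :
    thetaG t S.X₂ (fun t L => c₁ t (L.comap (rmap t (stalkₗ S.f (gpt X)))) +
      c₃ t (L.map (rmap t (stalkₗ S.g (gpt X))))) = thetaG t S.X₁ c₁ + thetaG t S.X₃ c₃ := by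
  obtain ⟨hi, hx, hs⟩ := Groth.KTheory.LocFree.stalk_exact hS t.1
  obtain ⟨gi, gx, gs⟩ := Groth.KTheory.LocFree.stalk_exact hS (gpt X)
  let f : S.X₁.presheaf.stalk t.1 →ₗ[R1 t] S.X₂.presheaf.stalk t.1 :=
    { toFun := stalkₗ S.f t.1, map_add' := map_add _, map_smul' := fun r m => (stalkₗ S.f t.1).map_smul r m }
  let g : S.X₂.presheaf.stalk t.1 →ₗ[R1 t] S.X₃.presheaf.stalk t.1 :=
    { toFun := stalkₗ S.g t.1, map_add' := map_add _, map_smul' := fun r m => (stalkₗ S.g t.1).map_smul r m }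
  have := (locData (X := X)).noeth t
  have e1 : ∀ m, muG t S.X₂ (f m) = rmap t (stalkₗ S.f (gpt X)) (muG t S.X₁ m) :=
    fun m => sp_natural S.f (gsp t.1) m
  have e2 : ∀ m, muG t S.X₃ (g m) = rmap t (stalkₗ S.g (gpt X)) (muG t S.X₂ m) :=
    fun m => sp_natural S.g (gsp t.1) m
  have hlen := length_ker_snake (f := f) (g := g) hi hs hx (I := rmap t (stalkₗ S.f (gpt X)))
    (Q := rmap t (stalkₗ S.g (gpt X))) gi (rmap_exact t gx) e1 e2
    (length_ker_muG_ne_top h₂ t) (length_ker_muG_ne_top h₃ t)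
  have hmap : (LinearMap.range (muG t S.X₂)).map (rmap t (stalkₗ S.g (gpt X))) = LinearMap.range (muG t S.X₃) := by
    refine le_antisymm ?_ ?_
    · rintro _ ⟨_, ⟨m, rfl⟩, rfl⟩
      exact ⟨_, e2 m⟩
    · rintro _ ⟨m, rfl⟩
      obtain ⟨n, rfl⟩ := hs m
      exact ⟨_, ⟨n, rfl⟩, (e2 n).symm⟩
  have hle : LinearMap.range (muG t S.X₁) ≤
      (LinearMap.range (muG t S.X₂)).comap (rmap t (stalkₗ S.f (gpt X))) := by
    rintro _ ⟨m, rfl⟩
    exact ⟨_, e1 m⟩
  have hdeg := hc₁.isDeg locData t _ _ (isLat_range_muG h₁ t) ((isLat_range_muG h₂ t).comap gi) hle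
  unfold thetaG
  simp only
  rw [hmap]
  omega

open Classical in
/-- The invariant as a function. -/
noncomputable def ThetaG (F : X.Modules) : C1 X → ℤ :=
  if h : Coh.IsCoh F then fun t => thetaG t F (cG h) else 0

theorem thetaG_add {S : ShortComplex X.Modules} (hS : S.ShortExact) (h₁ : Coh.IsCoh S.X₁)
    (h₂ : Coh.IsCoh S.X₂) (h₃ : Coh.IsCoh S.X₃) :
    ThetaG S.X₂ - (ThetaG S.X₁ + ThetaG S.X₃) ∈ principal X := by
  obtain ⟨gi, gx, gs⟩ := Groth.KTheory.LocFree.stalk_exact hS (gpt X)
  have hd := FD.ext (locData (X := X)) (fd_cG h₃) (stalkₗ S.f (gpt X)) (stalkₗ S.g (gpt X)) gi gs gx (fd_cG h₁)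
  obtain ⟨n, hn⟩ := exists_length_eq (len_gpt_ne_top h₂)
  obtain ⟨z, hz, hze⟩ := FD.equivd (locData (X := X)) n _ _ hn (fd_cG h₂) hd
  have key : (fun t : C1 X => (z.map fun p => p.2 * dv (R := R1 (X := X)) t p.1).sum) ∈ principal X := by
    clear hze hn
    induction z with
    | nil => exact (principal X).zero_mem
    | cons p l ih =>
      have h1 : (fun t : C1 X => dv (R := R1 (X := X)) t p.1) ∈ principal X := by
        have h0 : (fun t : C1 X => Cyc.ordAt t.1 (gpt X) (gsp t.1) (show X.residueField (gpt X) from p.1)) ∈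
            principal X := ⟨_, hz p List.mem_cons_self, fun t => rfl⟩
        convert (principal X).neg_mem h0 using 1
        exact funext fun t => dv_eq t (hz p List.mem_cons_self)
      convert (principal X).add_mem ((principal X).zsmul_mem h1 p.2)
        (ih fun q hq => hz q (List.mem_cons_of_mem _ hq)) using 1
      exact funext fun t => by simp
  convert key using 1
  funext t
  simp only [ThetaG, dif_pos h₁, dif_pos h₂, dif_pos h₃, Pi.sub_apply, Pi.add_apply]
  rw [← hze t _ (isLat_range_muG h₂ t), ← thetaG_concat t hS h₂ h₁ h₃ (fd_cG h₁) (cG h₃)]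
  unfold thetaG
  ring

theorem ThetaG_of_gpt {F : X.Modules} (hF : Coh.IsCoh F) [Subsingleton (F.presheaf.stalk (gpt X))] (t : C1 X) :
    ThetaG F t = ((Module.length (X.presheaf.stalk t.1) (F.presheaf.stalk t.1)).toNat : ℤ) := by
  have hc : ∀ L, cG hF t L = 0 := fun L => by
    rcases (fd_cG hF).normal with ⟨-, h0⟩ | ⟨q, -, hq, -, -⟩
    · exact h0 t L
    · obtain ⟨v, hv⟩ := hq 1
      rw [Subsingleton.elim v 0, map_zero] at hv
      exact absurd hv zero_ne_one
  have hk : LinearMap.ker (muG t F) = ⊤ := eq_top_iff.2 fun m _ =>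
    LinearMap.mem_ker.2 (Subsingleton.elim (α := F.presheaf.stalk (gpt X)) _ _)
  simp only [ThetaG, dif_pos hF, thetaG, hc, add_zero]
  rw [hk, Module.length_top]
  rfl

variable (X) in
/-- Classes of modules of codimension at least two. -/
noncomputable abbrev F2 : AddSubgroup (KZero.K0sub (CohP X)) :=
  AddSubgroup.closure {c : KZero.K0sub (CohP X) | ∃ F : X.Modules, Coh.IsCoh F ∧
          (∀ x ∈ CohB1.support F, (2 : WithBot ℕ∞) ≤ ringKrullDim (X.presheaf.stalk x)) ∧
          c = KZero.clSub (CohP X) F}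

theorem cl_mem_F2 {G : X.Modules} (hG : Coh.IsCoh G) (h0 : Subsingleton (G.presheaf.stalk (gpt X)))
    (h1 : ∀ t : C1 X, Subsingleton (G.presheaf.stalk t.1)) : KZero.clSub (CohP X) G ∈ F2 X := by
  refine AddSubgroup.subset_closure ⟨G, hG, fun x hx => ?_, rfl⟩
  have hne1 : ringKrullDim (X.presheaf.stalk x) ≠ 1 := fun h => hx (h1 ⟨x, h⟩)
  have hne0 : ringKrullDim (X.presheaf.stalk x) ≠ 0 := fun h => hx (by
    rw [show x = gpt X from (dim_stalk_eq_zero_iff.1 h _ (gsp x)).symm]
    exact h0)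
  rw [ringKrullDim_stalk_eq_coheight] at hne1 hne0 ⊢
  generalize Order.coheight x = m at hne1 hne0
  induction m with
  | top => exact WithBot.coe_le_coe.2 le_top
  | coe m =>
    have : 2 ≤ m := by
      by_contra h
      have : m = 0 ∨ m = 1 := by omega
      rcases this with rfl | rfl
      · exact hne0 rfl
      · exact hne1 rfl
    exact WithBot.coe_le_coe.2 (by exact_mod_cast this)

theorem lenC1_ne_top {G : X.Modules} (hG : Coh.IsCoh G) [h0 : Subsingleton (G.presheaf.stalk (gpt X))] (t : C1 X) :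
    Module.length (X.presheaf.stalk t.1) (G.presheaf.stalk t.1) ≠ ⊤ :=
  Devissage.length_stalk_ne_top hG _ fun z hz hzt => by
    by_contra hne
    rw [eq_gpt_of_specializes t.2 hzt hne] at hz
    exact hz h0

open Classical in
/-- Modules of codimension one with the same lengths have the same class modulo codimension two. -/
theorem cl_sub_mem_of_length : ∀ (n : ℕ) (A B : X.Modules), Coh.IsCoh A → Coh.IsCoh B →
    Subsingleton (A.presheaf.stalk (gpt X)) → Subsingleton (B.presheaf.stalk (gpt X)) →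
    (∀ t : C1 X, Module.length (X.presheaf.stalk t.1) (A.presheaf.stalk t.1) =
      Module.length (X.presheaf.stalk t.1) (B.presheaf.stalk t.1)) →
    (∑ᶠ t : C1 X, (Module.length (X.presheaf.stalk t.1) (A.presheaf.stalk t.1)).toNat) = n →
    KZero.clSub (CohP X) A - KZero.clSub (CohP X) B ∈ F2 X := by
  intro n
  induction n using Nat.strong_induction_on with
  | _ n ih =>
  intro A B hA hB hA0 hB0 hAB hn
  have hfin : (Function.support fun t : C1 X =>
      (Module.length (X.presheaf.stalk t.1) (A.presheaf.stalk t.1)).toNat).Finite := by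
    refine Set.Finite.subset (Set.Finite.of_finite_image ((finite_maximal (X := X)
      (Groth.CohTwo.isClosed_support A hA)).subset ?_) Subtype.val_injective.injOn) subset_rfl
    rintro _ ⟨t, ht, rfl⟩
    refine ⟨fun hs => ht (by simp only; rw [Module.length_eq_zero_iff.2 hs]; rfl), fun z hz hzt => ?_⟩
    by_contra hne
    rw [eq_gpt_of_specializes t.2 hzt hne] at hz
    exact hz hA0
  by_cases hall : ∀ t : C1 X, Module.length (X.presheaf.stalk t.1) (A.presheaf.stalk t.1) = 0
  · exact sub_mem (cl_mem_F2 hA hA0 fun t => Module.length_eq_zero_iff.1 (hall t))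
      (cl_mem_F2 hB hB0 fun t => Module.length_eq_zero_iff.1 ((hAB t).symm.trans (hall t)))
  push Not at hall
  obtain ⟨t, ht⟩ := hall
  have step : ∀ (M : X.Modules), Coh.IsCoh M → Subsingleton (M.presheaf.stalk (gpt X)) →
      Module.length (X.presheaf.stalk t.1) (M.presheaf.stalk t.1) ≠ 0 →
      ∃ M' Q : X.Modules, Coh.IsCoh M' ∧ Coh.IsCoh Q ∧ Subsingleton (M'.presheaf.stalk (gpt X)) ∧
        CohB1.support Q ⊆ closure {t.1} ∧ Module.length (X.presheaf.stalk t.1) (Q.presheaf.stalk t.1) = 1 ∧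
        KZero.clSub (CohP X) M = KZero.clSub (CohP X) M' + KZero.clSub (CohP X) Q ∧
        ∀ s : C1 X, Module.length (X.presheaf.stalk s.1) (M.presheaf.stalk s.1) =
          Module.length (X.presheaf.stalk s.1) (M'.presheaf.stalk s.1) + if s = t then 1 else 0 := by
    classical
    intro M hM hM0 hne
    have hl := lenC1_ne_top hM t
    have := hM.1
    have := Groth.QCohMod.finite_stalk M hM.2 t.1
    have : Nontrivial (M.presheaf.stalk t.1) := not_subsingleton_iff_nontrivial.1 fun h =>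
      hne (Module.length_eq_zero_iff.2 h)
    obtain ⟨σ, hσ⟩ := Groth.KTheory.Devissage.exists_surjective_of_length_eq_one
      (M := M.presheaf.stalk t.1) (length_res0 (A := X.presheaf.stalk t.1))
    have hkill : ∃ m : ℕ, ∀ a ∈ IsLocalRing.maximalIdeal (X.presheaf.stalk t.1) ^ m,
        ∀ v : M.presheaf.stalk t.1, a • v ∈ LinearMap.ker σ :=
      (exists_pow_smul_eq_zero_of_length hl).imp fun m hm a ha v => by rw [hm a ha v]; exact zero_mem _
    have hmono : Mono (germSub M t.1 (LinearMap.ker σ)).ι :=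
      (Groth.CohTwo.mono_iff_app_injective _).2 fun W => SubMod.ι_app_injective _ W
    have hM'0 : Subsingleton ((germSub M t.1 (LinearMap.ker σ)).toMod.presheaf.stalk (gpt X)) :=
      @Function.Injective.subsingleton _ _ _ ((mono_iff_stalk _).1 hmono (gpt X)) hM0
    have hQ1 : Module.length (X.presheaf.stalk t.1) ((quo M t.1 (LinearMap.ker σ)).presheaf.stalk t.1) = 1 := by
      rw [length_quo, (σ.quotKerEquivOfSurjective hσ).length_eq, length_res0]
    have hses : (ShortComplex.mk (germSub M t.1 (LinearMap.ker σ)).ι (quoπ M t.1 (LinearMap.ker σ))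
        (cokernel.condition _)).ShortExact :=
      { exact := ShortComplex.exact_of_g_is_cokernel _ (cokernelIsCokernel _)
        mono_f := hmono
        epi_g := inferInstanceAs (Epi (cokernel.π _)) }
    refine ⟨_, _, isCoh_germSub M t.1 _ hM hkill, isCoh_quo hM hkill, hM'0, support_quo_subset, hQ1,
      cl_rel' _ hses (isCoh_germSub M t.1 _ hM hkill) hM (isCoh_quo hM hkill), fun s => ?_⟩
    obtain ⟨i1, i2, i3⟩ := Groth.KTheory.LocFree.stalk_exact hses s.1
    rw [Module.length_eq_add_of_exact _ _ i1 i3 i2]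
    split_ifs with hst
    · subst hst
      rw [← hQ1]
    · have : Subsingleton ((quo M t.1 (LinearMap.ker σ)).presheaf.stalk s.1) := subsingleton_quo_of_not fun h => by
        have := eq_gpt_of_specializes s.2 h (fun e => hst (Subtype.ext e.symm))
        exact ne_gpt t this
      rw [Module.length_eq_zero_iff.2 this]
  obtain ⟨A', QA, hA', hQA, hA'0, hQAs, hQA1, eA, lA⟩ := step A hA hA0 ht
  obtain ⟨B', QB, hB', hQB, hB'0, hQBs, hQB1, eB, lB⟩ := step B hB hB0 ((hAB t) ▸ ht)
  have hQ : KZero.clSub (CohP X) QA - KZero.clSub (CohP X) QB ∈ F2 X := by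
    have hmaxcl : ∀ y ∈ closure ({t.1} : Set X), (∀ z ∈ closure ({t.1} : Set X), z ⤳ y → z = y) → y = t.1 :=
      fun y hy hm => (hm t.1 (subset_closure rfl) (specializes_iff_mem_closure.2 hy)).symm
    refine cl_sub_mem isClosed_closure _ ?_ 1 {t.1} (Finset.card_singleton _) QA QB hQA hQB hQAs hQBs ?_ ?_
    · intro G hG hGs hG0
      refine cl_mem_F2 hG (not_not.1 fun h => ?_) fun s => not_not.1 fun h => ?_
      · exact ne_gpt t ((gsp t.1).antisymm (specializes_iff_mem_closure.2 (hGs h))).eq.symm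
      · have hs := specializes_iff_mem_closure.2 (hGs h)
        by_cases he : t.1 = s.1
        · refine h (hG0 s.1 (hGs h) fun z hz hzs => ?_)
          exact (hzs.antisymm (he ▸ specializes_iff_mem_closure.2 hz)).eq
        · exact ne_gpt t (eq_gpt_of_specializes s.2 hs he)
    · intro y hy hm hyS
      exact absurd (Finset.mem_singleton.2 (hmaxcl y hy hm)) hyS
    · intro y hy
      rw [Finset.mem_singleton] at hy
      subst hy
      refine ⟨⟨subset_closure rfl, fun z hz hzt => (hzt.antisymm (specializes_iff_mem_closure.2 hz)).eq⟩, ?_⟩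
      have := Module.length_eq_one_iff.1 hQA1
      have := Module.length_eq_one_iff.1 hQB1
      obtain ⟨m, hm, ⟨e⟩⟩ := (isSimpleModule_iff_quot_maximal (R := X.presheaf.stalk t.1)
        (M := QA.presheaf.stalk t.1)).mp inferInstance
      obtain ⟨m', hm', ⟨e'⟩⟩ := (isSimpleModule_iff_quot_maximal (R := X.presheaf.stalk t.1)
        (M := QB.presheaf.stalk t.1)).mp inferInstance
      have hmm : m = m' := (IsLocalRing.eq_maximalIdeal hm).trans (IsLocalRing.eq_maximalIdeal hm').symm
      subst hmm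
      exact ⟨e.trans e'.symm⟩
  have hrec : KZero.clSub (CohP X) A' - KZero.clSub (CohP X) B' ∈ F2 X := by
    refine ih _ ?_ A' B' hA' hB' hA'0 hB'0 (fun s => ?_) rfl
    · classical
      have hfin' : (Function.support fun s : C1 X =>
          (Module.length (X.presheaf.stalk s.1) (A'.presheaf.stalk s.1)).toNat).Finite :=
        hfin.subset fun s hs h => hs (by
          simp only at h ⊢
          rw [lA s] at h
          rcases ENat.toNat_eq_zero.1 h with h' | h'
          · rw [(add_eq_zero.1 h').1]; rfl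
          · exact absurd ((lA s).trans h') (lenC1_ne_top hA s))
      have e : ∀ s : C1 X, (Module.length (X.presheaf.stalk s.1) (A.presheaf.stalk s.1)).toNat =
          (Module.length (X.presheaf.stalk s.1) (A'.presheaf.stalk s.1)).toNat + if s = t then 1 else 0 := fun s => by
        rw [lA s, ENat.toNat_add (lenC1_ne_top hA' s) (by split_ifs <;> simp)]
        split_ifs <;> simp
      have h1 : (Function.support fun s : C1 X => if s = t then 1 else 0).Finite :=
        (Set.finite_singleton t).subset fun s hs => by by_contra h; exact hs (if_neg h)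
      have := hn
      rw [finsum_congr e, finsum_add_distrib hfin' h1, finsum_eq_single _ t (fun s hs => if_neg hs), if_pos rfl] at this
      omega
    · have := hAB s
      rw [lA s, lB s] at this
      exact (ENat.addLECancellable_of_ne_top (by split_ifs <;> simp)).inj_left.1 this
  rw [eA, eB]
  have := add_mem hrec hQ
  convert this using 1
  abel

/-- The subgroup of pairs (class, lengths) of codimension one modules. -/
noncomputable def pairs : AddSubgroup (KZero.K0sub (CohP X) × (C1 X → ℤ)) :=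
  AddSubgroup.closure {p | ∃ M : X.Modules, Coh.IsCoh M ∧ Subsingleton (M.presheaf.stalk (gpt X)) ∧
    p = (KZero.clSub (CohP X) M, fun t => ((Module.length (X.presheaf.stalk t.1) (M.presheaf.stalk t.1)).toNat : ℤ))}

theorem exists_of_pairs {p : KZero.K0sub (CohP X) × (C1 X → ℤ)} (hp : p ∈ pairs (X := X)) :
    ∃ M N : X.Modules, Coh.IsCoh M ∧ Coh.IsCoh N ∧ Subsingleton (M.presheaf.stalk (gpt X)) ∧
      Subsingleton (N.presheaf.stalk (gpt X)) ∧ p.1 = KZero.clSub (CohP X) M - KZero.clSub (CohP X) N ∧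
      ∀ t : C1 X, p.2 t = ((Module.length (X.presheaf.stalk t.1) (M.presheaf.stalk t.1)).toNat : ℤ) -
        ((Module.length (X.presheaf.stalk t.1) (N.presheaf.stalk t.1)).toNat : ℤ) := by
  obtain ⟨Z, hZ⟩ : ∃ Z : X.Modules, IsZero Z := ⟨_, isZero_zero X.Modules⟩
  have hZs : ∀ x : X, Subsingleton (Z.presheaf.stalk x) := fun x => not_not.1 fun h =>
    Set.eq_empty_iff_forall_notMem.1 ((isZero_iff_support_eq_empty Z).1 hZ) x h
  have hbi : ∀ {M N : X.Modules}, Coh.IsCoh M → Coh.IsCoh N → Subsingleton (M.presheaf.stalk (gpt X)) →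
      Subsingleton (N.presheaf.stalk (gpt X)) → Coh.IsCoh (M ⊞ N) ∧ Subsingleton ((M ⊞ N).presheaf.stalk (gpt X)) ∧
        ∀ t : C1 X, ((Module.length (X.presheaf.stalk t.1) ((M ⊞ N).presheaf.stalk t.1)).toNat : ℤ) =
          ((Module.length (X.presheaf.stalk t.1) (M.presheaf.stalk t.1)).toNat : ℤ) +
          ((Module.length (X.presheaf.stalk t.1) (N.presheaf.stalk t.1)).toNat : ℤ) := by
    intro M N hM hN hM0 hN0
    have hses := (ShortComplex.Splitting.ofHasBinaryBiproduct M N).shortExact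
    refine ⟨isCoh_biprod hM hN, ?_, fun t => ?_⟩
    · obtain ⟨i1, i2, i3⟩ := Groth.KTheory.LocFree.stalk_exact hses (gpt X)
      refine subsingleton_of_forall_eq 0 fun v => ?_
      obtain ⟨w, hw⟩ := (i2 v).1 (Subsingleton.elim (α := N.presheaf.stalk (gpt X)) _ _)
      rw [← hw, Subsingleton.elim (α := M.presheaf.stalk (gpt X)) w 0, map_zero]
    · obtain ⟨i1, i2, i3⟩ := Groth.KTheory.LocFree.stalk_exact hses t.1
      rw [Module.length_eq_add_of_exact _ _ i1 i3 i2,
        ENat.toNat_add (lenC1_ne_top hM t) (lenC1_ne_top hN t), Nat.cast_add]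
  induction hp using AddSubgroup.closure_induction with
  | mem p hp =>
    obtain ⟨M, hM, hM0, rfl⟩ := hp
    refine ⟨M, Z, hM, isCoh_of_isZero hZ, hM0, hZs _, by rw [clSub_zero hZ (isCoh_of_isZero hZ), sub_zero],
      fun t => ?_⟩
    rw [Module.length_eq_zero_iff.2 (hZs t.1)]
    simp
  | zero =>
    exact ⟨Z, Z, isCoh_of_isZero hZ, isCoh_of_isZero hZ, hZs _, hZs _, (sub_self _).symm,
      fun t => (sub_self _).symm⟩
  | add p q _ _ hp hq =>
    obtain ⟨M, N, hM, hN, hM0, hN0, e, l⟩ := hp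
    obtain ⟨M', N', hM', hN', hM'0, hN'0, e', l'⟩ := hq
    obtain ⟨a1, a2, a3⟩ := hbi hM hM' hM0 hM'0
    obtain ⟨b1, b2, b3⟩ := hbi hN hN' hN0 hN'0
    refine ⟨M ⊞ M', N ⊞ N', a1, b1, a2, b2, ?_, fun t => ?_⟩
    · rw [Prod.fst_add, e, e', cl_biprod hM hM', cl_biprod hN hN']; abel
    · rw [Prod.snd_add, Pi.add_apply, l, l', a3, b3]; ring
  | neg p _ hp =>
    obtain ⟨M, N, hM, hN, hM0, hN0, e, l⟩ := hp
    exact ⟨N, M, hN, hM, hN0, hM0, by rw [Prod.fst_neg, e, neg_sub],
      fun t => by rw [Prod.snd_neg, Pi.neg_apply, l, neg_sub]⟩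

theorem mem_F2_of_pairs {c : KZero.K0sub (CohP X)} (h : (c, (0 : C1 X → ℤ)) ∈ pairs (X := X)) : c ∈ F2 X := by
  obtain ⟨M, N, hM, hN, hM0, hN0, e, l⟩ := exists_of_pairs h
  simp only at e
  rw [e]
  refine cl_sub_mem_of_length _ M N hM hN hM0 hN0 (fun t => ?_) rfl
  have := l t
  simp only [Pi.zero_apply] at this
  rw [← ENat.coe_toNat (lenC1_ne_top hM t), ← ENat.coe_toNat (lenC1_ne_top hN t)]
  norm_cast
  omega

/-- A rational function gives a pair with trivial class. -/
theorem principal_pairs {f : X.residueField (gpt X)} (hf : f ≠ 0) :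
    ((0 : KZero.K0sub (CohP X)), fun t : C1 X => Cyc.ordAt t.1 (gpt X) (gsp t.1) f) ∈ pairs (X := X) := by
  let O := Coh.structureModule X
  have hO : Coh.IsCoh O := Groth.QCohMod.isCoh_unit
  let t₀ := fun y : X => germ O y (U := ⊤) trivial (Groth.PicAux.oneSec X ⊤)
  let ε : ∀ y : X, O.presheaf.stalk y ≃ₗ[X.presheaf.stalk y] X.presheaf.stalk y := fun y =>
    (LinearEquiv.ofBijective (LinearMap.toSpanSingleton _ _ (t₀ y)) (Groth.Cycles.isStalkBasis_oneSec y)).symm
  have hε : ∀ y, ε y (t₀ y) = 1 := fun y => (LinearEquiv.symm_apply_eq _).2 (by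
    rw [LinearEquiv.ofBijective_apply, LinearMap.toSpanSingleton_apply, one_smul])
  let φ : O.presheaf.stalk (gpt X) →ₗ[X.presheaf.stalk (gpt X)] Kap (gpt X) :=
    (Algebra.linearMap (X.presheaf.stalk (gpt X)) (Kap (gpt X))).comp (ε (gpt X)).toLinearMap
  let ψ : O.presheaf.stalk (gpt X) →ₗ[X.presheaf.stalk (gpt X)] Kap (gpt X) :=
    (LinearMap.mulLeft (X.presheaf.stalk (gpt X)) (show Kap (gpt X) from f)).comp φ
  have hres : Function.Bijective (Algebra.linearMap (X.presheaf.stalk (gpt X)) (Kap (gpt X))) := by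
    refine ⟨(injective_iff_map_eq_zero _).2 fun a ha => ?_, IsLocalRing.residue_surjective⟩
    by_contra hne
    exact (IsLocalRing.mem_maximalIdeal a).1 ((IsLocalRing.residue_eq_zero_iff a).1 ha) (isUnit_iff_ne_zero.2 hne)
  have hφ : Function.Bijective φ := hres.comp (ε (gpt X)).bijective
  have hψ : Function.Bijective ψ := (mulLeft_bijective₀ (show Kap (gpt X) from f) hf).comp hφ
  have hJ : Coh.IsCoh (join φ ψ) := isCoh_join φ ψ hO hO (kap_killed (gpt X))
  have key : ∀ (a : O ⟶ join φ ψ), Function.Bijective (stalkₗ a (gpt X)) →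
      Coh.IsCoh (cokernel a) ∧ Subsingleton ((cokernel a).presheaf.stalk (gpt X)) ∧
        KZero.clSub (CohP X) (cokernel a) = KZero.clSub (CohP X) (join φ ψ) - KZero.clSub (CohP X) O := by
    intro a hbij
    obtain ⟨hK, hC, e⟩ := cl_ker_coker a hO hJ
    refine ⟨hC, not_not.1 (Devissage.subsingleton_cokernel_stalk a _ hbij.2), ?_⟩
    have hK0 : KZero.clSub (CohP X) (kernel a) = 0 := by
      refine clSub_zero ((isZero_iff_support_eq_empty _).2 (Set.eq_empty_iff_forall_notMem.2 fun y hy => hy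
        (subsingleton_kernel_stalk a y ((injective_iff_map_eq_zero _).2 fun m hm => ?_)))) hK
      have h1 : sp O (gsp y) m = 0 := hbij.1 (by rw [← sp_natural, hm, map_zero, map_zero])
      obtain ⟨s, hs, hsm⟩ := exists_smul_eq_zero_of_sp hO (gsp y) h1
      have hs0 : s ≠ 0 := fun h => hs (h ▸ zero_mem _)
      apply (ε y).injective
      rw [map_zero]
      have := congrArg (ε y) hsm
      rw [map_smul, map_zero, smul_eq_mul, mul_eq_zero] at this
      exact this.resolve_left hs0
    rw [hK0, zero_add] at e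
    rw [← e]; abel
  obtain ⟨hR, hR0, eR⟩ := key (joinR φ ψ) (bijective_joinR φ ψ hψ)
  obtain ⟨hL, hL0, eL⟩ := key (joinL φ ψ) (bijective_joinL φ ψ hφ)
  have m := sub_mem (AddSubgroup.subset_closure ⟨_, hR, hR0, rfl⟩ :
      (KZero.clSub (CohP X) (cokernel (joinR φ ψ)), fun t : C1 X =>
        ((Module.length (X.presheaf.stalk t.1) ((cokernel (joinR φ ψ)).presheaf.stalk t.1)).toNat : ℤ)) ∈
        pairs (X := X))
    (AddSubgroup.subset_closure ⟨_, hL, hL0, rfl⟩ :
      (KZero.clSub (CohP X) (cokernel (joinL φ ψ)), fun t : C1 X =>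
        ((Module.length (X.presheaf.stalk t.1) ((cokernel (joinL φ ψ)).presheaf.stalk t.1)).toNat : ℤ)) ∈
        pairs (X := X))
  rw [Prod.mk_sub_mk, eR, eL, sub_self] at m
  change _ ∈ pairs (X := X) at m
  convert m using 1
  refine Prod.ext rfl ?_
  funext t
  simp only [Pi.sub_apply]
  have := Groth.Cycles.isDomain_locQuot (gsp t.1)
  have := krullDimLE_locQuot t
  have := Groth.Cycles.isFractionRing_locQuot (gsp t.1)
  letI : Algebra (X.presheaf.stalk t.1) (X.residueField (gpt X)) := (Cyc.specMap t.1 (gpt X) (gsp t.1)).toAlgebra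
  have : IsScalarTower (X.presheaf.stalk t.1) (Cyc.LocQuot t.1 (gpt X) (gsp t.1)) (X.residueField (gpt X)) :=
    IsScalarTower.of_algebraMap_eq fun _ => rfl
  let Φ : (join φ ψ).presheaf.stalk t.1 →ₗ[X.presheaf.stalk t.1] X.residueField (gpt X) :=
    { toFun := coordAt (gsp t.1) (joinVal φ ψ)
      map_add' := map_add _
      map_smul' := fun r m => by
        rw [RingHom.id_apply, Algebra.smul_def]
        exact coordAt_smul (gsp t.1) (joinVal φ ψ) r m }
  have hΦ : Function.Injective Φ := fun a b e => sp_quo_injective (gsp t.1) (joinVal_injective φ ψ e)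
  have hspε : ∀ m : O.presheaf.stalk t.1,
      coordAt (gsp t.1) φ m = Cyc.specMap t.1 (gpt X) (gsp t.1) (ε t.1 m) := fun m => by
    change IsLocalRing.residue (X.presheaf.stalk (gpt X)) (ε (gpt X) (sp O (gsp t.1) m)) = _
    obtain ⟨a, rfl⟩ := (ε t.1).symm.surjective m
    rw [LinearEquiv.apply_symm_apply]
    show IsLocalRing.residue (X.presheaf.stalk (gpt X)) (ε (gpt X) (sp O (gsp t.1) (a • t₀ t.1))) = _
    rw [sp_smul, sp_germ, map_smul, hε, smul_eq_mul, mul_one]
    rfl
  have hmap : ∀ (χ : O.presheaf.stalk (gpt X) →ₗ[X.presheaf.stalk (gpt X)] Kap (gpt X)) (a : O ⟶ join φ ψ)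
      (u : X.residueField (gpt X)), (∀ m, joinVal φ ψ (stalkₗ a (gpt X) m) = χ m) →
      (∀ m : O.presheaf.stalk t.1, coordAt (gsp t.1) χ m = Cyc.specMap t.1 (gpt X) (gsp t.1) (ε t.1 m) * u) →
      (LinearMap.range (stalkₗ a t.1)).map Φ = Submodule.span (X.presheaf.stalk t.1) {u} := by
    intro χ a u ha hχ
    have hL' : ∀ m, Φ (stalkₗ a t.1 m) = Cyc.specMap t.1 (gpt X) (gsp t.1) (ε t.1 m) * u := fun m => by
      rw [← hχ]
      change joinVal φ ψ (sp _ (gsp t.1) (stalkₗ a t.1 m)) = _
      rw [sp_natural, ha]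
      rfl
    refine le_antisymm ?_ (Submodule.span_le.2 ?_)
    · rintro _ ⟨_, ⟨m, rfl⟩, rfl⟩
      rw [hL']
      exact Submodule.mem_span_singleton.2 ⟨ε t.1 m, Algebra.smul_def _ _⟩
    · intro z hz
      rw [Set.mem_singleton_iff.1 hz]
      refine ⟨_, ⟨(ε t.1).symm 1, rfl⟩, ?_⟩
      rw [hL', LinearEquiv.apply_symm_apply, map_one, one_mul]
  have hsup : LinearMap.range (stalkₗ (joinL φ ψ) t.1) ⊔ LinearMap.range (stalkₗ (joinR φ ψ) t.1) = ⊤ := by
    refine eq_top_iff.2 fun s _ => ?_
    obtain ⟨g, l, rfl⟩ := exists_join_decomp φ ψ s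
    exact Submodule.add_mem_sup (LinearMap.mem_range_self _ g) (LinearMap.mem_range_self _ l)
  have e := (length_sub_length (D := Cyc.LocQuot t.1 (gpt X) (gsp t.1)) Ideal.Quotient.mk_surjective hΦ
    one_ne_zero hf (hmap φ (joinL φ ψ) 1 (joinVal_L φ ψ) fun m => by rw [hspε, mul_one])
    (hmap ψ (joinR φ ψ) f (joinVal_R φ ψ) fun m => by
      rw [← hspε, mul_comm]
      rfl) hsup).2.2
  rw [div_one] at e
  rw [length_stalk_cokernel, length_stalk_cokernel]
  exact e.symm

theorem main (D : X →₀ ℤ) (hD : ∀ x ∈ D.support, ringKrullDim (X.presheaf.stalk x) = 1) :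
    (D.sum fun x n => n • KZero.clSub (CohP X) (Cyc.closureStructureSheaf x)) ∈ F2 X ↔
      ∃ f : X.residueField (gpt X), f ≠ 0 ∧ ∀ t : C1 X, D t.1 = Cyc.ordAt t.1 (gpt X) (gsp t.1) f := by
  classical
  have hcs : ∀ x ∈ D.support, Coh.IsCoh (Cyc.closureStructureSheaf x) ∧
      Subsingleton ((Cyc.closureStructureSheaf x).presheaf.stalk (gpt X)) ∧
      ∀ t : C1 X, ((Module.length (X.presheaf.stalk t.1)
        ((Cyc.closureStructureSheaf x).presheaf.stalk t.1)).toNat : ℤ) = if t.1 = x then 1 else 0 := by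
    intro x hx
    refine ⟨Groth.KTheory.Devissage.isCoh_closureStructureSheaf x, not_not.1 fun h => ?_, fun t => ?_⟩
    · exact ne_gpt ⟨x, hD x hx⟩ ((gsp x).antisymm (specializes_iff_mem_closure.2
        (Groth.KTheory.Devissage.support_closureStructureSheaf_subset x h))).eq.symm
    · split_ifs with h
      · subst h
        rw [Groth.KTheory.Devissage.length_closureStructureSheaf]
        rfl
      · have : Subsingleton ((Cyc.closureStructureSheaf x).presheaf.stalk t.1) := not_not.1 fun hn =>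
          ne_gpt ⟨x, hD x hx⟩ (eq_gpt_of_specializes t.2 (specializes_iff_mem_closure.2
            (Groth.KTheory.Devissage.support_closureStructureSheaf_subset x hn)) (Ne.symm h))
        rw [Module.length_eq_zero_iff.2 this]
        rfl
  constructor
  · intro hmem
    let G := (C1 X → ℤ) ⧸ principal X
    let Θ : X.Modules → G := fun M => QuotientAddGroup.mk (ThetaG M)
    have hadd : ∀ S : ShortComplex X.Modules, S.ShortExact → CohP X S.X₁ → CohP X S.X₂ → CohP X S.X₃ →
        Θ S.X₂ = Θ S.X₁ + Θ S.X₃ := fun S hS h₁ h₂ h₃ =>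
      (QuotientAddGroup.eq_iff_sub_mem (N := principal X)).2 (thetaG_add hS h₁ h₂ h₃)
    let φ := liftSub (CohP X) Θ hadd
    have hφ : ∀ M, Coh.IsCoh M → φ (KZero.clSub (CohP X) M) = Θ M := fun M hM => liftSub_clSub _ _ hM
    have h0 : F2 X ≤ φ.ker := by
      rw [AddSubgroup.closure_le]
      rintro _ ⟨M, hM, hsupp, rfl⟩
      rw [SetLike.mem_coe, AddMonoidHom.mem_ker, hφ M hM]
      have hs : ∀ y : X, ringKrullDim (X.presheaf.stalk y) ≤ 1 → Subsingleton (M.presheaf.stalk y) := fun y hy =>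
        not_not.1 fun h => absurd ((hsupp y h).trans hy) (by decide)
      have := hs (gpt X) (dim_gpt.le.trans zero_le_one)
      show QuotientAddGroup.mk (ThetaG M) = 0
      rw [show ThetaG M = 0 from funext fun t => by
        rw [ThetaG_of_gpt hM, Module.length_eq_zero_iff.2 (hs t.1 t.2.le)]; rfl]
      rfl
    have h1 := AddMonoidHom.mem_ker.1 (h0 hmem)
    rw [map_finsuppSum] at h1
    simp only [map_zsmul] at h1
    have h2 : (D.sum fun x n => n • φ (KZero.clSub (CohP X) (Cyc.closureStructureSheaf x))) =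
        QuotientAddGroup.mk (fun t : C1 X => D t.1) := by
      rw [Finsupp.sum, show (fun t : C1 X => D t.1) = ∑ x ∈ D.support, D x • (fun t : C1 X =>
        if t.1 = x then (1 : ℤ) else 0) from funext fun t => by
          rw [Finset.sum_apply]
          simp]
      rw [← QuotientAddGroup.mk'_apply, map_sum]
      refine Finset.sum_congr rfl fun x hx => ?_
      obtain ⟨hc, hg, hl⟩ := hcs x hx
      rw [map_zsmul, hφ _ hc]
      show D x • (QuotientAddGroup.mk (ThetaG (Cyc.closureStructureSheaf x)) : G) = _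
      rw [show ThetaG (Cyc.closureStructureSheaf x) = fun t : C1 X => if t.1 = x then (1 : ℤ) else 0 from
        funext fun t => (ThetaG_of_gpt hc t).trans (hl t)]
      rfl
    rw [h2] at h1
    exact (QuotientAddGroup.eq_zero_iff _).1 h1
  · rintro ⟨f, hf, hDf⟩
    apply mem_F2_of_pairs
    have h1 : ((D.sum fun x n => n • KZero.clSub (CohP X) (Cyc.closureStructureSheaf x)),
        fun t : C1 X => D t.1) ∈ pairs (X := X) := by
      have h2 : ∀ x ∈ D.support, (D x • (KZero.clSub (CohP X) (Cyc.closureStructureSheaf x),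
          fun t : C1 X => if t.1 = x then (1 : ℤ) else 0)) ∈ pairs (X := X) := fun x hx => by
        obtain ⟨hc, hg, hl⟩ := hcs x hx
        refine zsmul_mem (AddSubgroup.subset_closure ?_) _
        exact ⟨Cyc.closureStructureSheaf x, hc, hg, by rw [funext hl]⟩
      convert sum_mem h2 using 1
      refine Prod.ext (by simp [Finsupp.sum, Prod.fst_sum]) (funext fun t => ?_)
      simp [Prod.snd_sum, Finset.sum_apply]
    have h3 := sub_mem h1 (principal_pairs hf)
    convert h3 using 1
    exact Prod.ext (sub_zero _).symm (funext fun t => by simp [hDf t])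

end Groth.ChowK.CodimOne
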