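import Mathlib.RingTheory.Length
import Mathlib.RingTheory.FiniteLength
import Mathlib.RingTheory.LocalRing.Basic
import Mathlib.RingTheory.Ideal.Maps
import Groth.Agent.KTheory.Devissage

/-!
# Degree functions on lattices

For a module `V` over a Noetherian ring `R` supported at a set `P` of primes of coheight one, a degree
function on lattices is one which changes by relative lengths; two of them differ by a constant.
-/

set_option autoImplicit false
universe u

namespace Groth.ChowK

variable {R : Type u} [CommRing R] {P : Set (Ideal R)}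
variable {V : Type u} [AddCommGroup V] [Module R V] {W : Type u} [AddCommGroup W] [Module R W]

/-- `V` is supported at the primes in `P`, whose proper overprimes are maximal. -/
structure Supp (P : Set (Ideal R)) (V : Type u) [AddCommGroup V] [Module R V] : Prop where
  coht : ∀ p ∈ P, ∀ q : Ideal R, q.IsPrime → p ≤ q → q ≠ p → q.IsMaximal
  supp : ∀ (v : V) (q : Ideal R), q.IsPrime → (∀ r : R, r • v = 0 → r ∈ q) → ∃ p ∈ P, p ≤ q

/-- `L` is a lattice for `P`. -/
def IsLat (P : Set (Ideal R)) (L : Submodule R V) : Prop :=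
  L.FG ∧ ∀ v : V, ∀ p ∈ P, ∃ s, s ∉ p ∧ s • v ∈ L

/-- Relative length. -/
noncomputable def rlen (A B : Submodule R V) : ℤ :=
  ((Module.length R (B ⧸ A.comap B.subtype)).toNat : ℤ)

/-- A function changing by relative lengths on lattices. -/
def IsDeg (P : Set (Ideal R)) (c : Submodule R V → ℤ) : Prop :=
  ∀ A B, IsLat P A → IsLat P B → A ≤ B → c B = c A + rlen A B

theorem Supp.of_injective (hV : Supp P V) {i : W →ₗ[R] V} (hi : Function.Injective i) : Supp P W :=
  ⟨hV.coht, fun w q hq h => hV.supp (i w) q hq fun r hr => h r (hi (by rw [map_smul, hr, map_zero]))⟩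

theorem Supp.of_surjective (hV : Supp P V) {q : V →ₗ[R] W} (hq : Function.Surjective q) : Supp P W :=
  ⟨hV.coht, fun w p hp h => by
    obtain ⟨v, rfl⟩ := hq w
    exact hV.supp v p hp fun r hr => h r (by rw [← map_smul, hr, map_zero])⟩

variable [IsNoetherianRing R]

theorem length_ne_top_of_supp {M : Type u} [AddCommGroup M] [Module R M] [Module.Finite R M]
    (hcoht : ∀ p ∈ P, ∀ q : Ideal R, q.IsPrime → p ≤ q → q ≠ p → q.IsMaximal)
    (hsupp : ∀ (m : M) (q : Ideal R), q.IsPrime → (∀ r : R, r • m = 0 → r ∈ q) → ∃ p ∈ P, p ≤ q)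
    (hkill : ∀ m : M, ∀ p ∈ P, ∃ s, s ∉ p ∧ s • m = 0) : Module.length R M ≠ ⊤ := by
  refine Groth.KTheory.Devissage.length_ne_top_of_forall_isMaximal fun q hq hann => ?_
  obtain ⟨G, hG⟩ := Module.Finite.fg_top (R := R) (M := M)
  have hle : G.inf (fun g => LinearMap.ker (LinearMap.toSpanSingleton R M g)) ≤ q := by
    refine le_trans (fun r hr => ?_) hann
    rw [Module.mem_annihilator]
    intro m
    have hm : m ∈ Submodule.span R (G : Set M) := hG.symm ▸ Submodule.mem_top
    induction hm using Submodule.span_induction with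
    | mem g hg =>
      have := Finset.inf_le (f := fun g => LinearMap.ker (LinearMap.toSpanSingleton R M g)) hg hr
      simpa using this
    | zero => exact smul_zero r
    | add a b _ _ ha hb => rw [smul_add, ha, hb, add_zero]
    | smul a b _ hb => rw [smul_comm, hb, smul_zero]
  obtain ⟨g, -, hgq⟩ := hq.inf_le'.1 hle
  have hg : ∀ r : R, r • g = 0 → r ∈ q := fun r hr => hgq (by simpa using hr)
  obtain ⟨p, hp, hpq⟩ := hsupp g q hq hg
  refine hcoht p hp q hq hpq fun he => ?_
  obtain ⟨s, hs, hsg⟩ := hkill g p hp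
  exact hs (he ▸ hg s hsg)

theorem length_rel_ne_top (hV : Supp P V) {A B : Submodule R V} (hA : IsLat P A) (hB : IsLat P B) :
    Module.length R (B ⧸ A.comap B.subtype) ≠ ⊤ := by
  have : Module.Finite R B := Module.Finite.iff_fg.2 hB.1
  refine length_ne_top_of_supp (P := P) hV.coht (fun m q hq h => ?_) fun m p hp => ?_
  · obtain ⟨m, rfl⟩ := Submodule.Quotient.mk_surjective _ m
    exact hV.supp m.1 q hq fun r hr => h r (by
      rw [← Submodule.Quotient.mk_smul, Submodule.Quotient.mk_eq_zero, Submodule.mem_comap]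
      change r • m.1 ∈ A
      rw [hr]
      exact zero_mem A)
  · obtain ⟨m, rfl⟩ := Submodule.Quotient.mk_surjective _ m
    obtain ⟨s, hs, hsm⟩ := hA.2 m.1 p hp
    refine ⟨s, hs, ?_⟩
    rw [← Submodule.Quotient.mk_smul, Submodule.Quotient.mk_eq_zero]
    exact hsm

theorem length_ker_ne_top (hV : Supp P V) {M : Type u} [AddCommGroup M] [Module R M] [Module.Finite R M]
    (hM : ∀ (m : M) (q : Ideal R), q.IsPrime → (∀ r : R, r • m = 0 → r ∈ q) → ∃ p ∈ P, p ≤ q)
    {μ : M →ₗ[R] V} (hμ : ∀ m, μ m = 0 → ∀ p ∈ P, ∃ s, s ∉ p ∧ s • m = 0) :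
    Module.length R (LinearMap.ker μ) ≠ ⊤ := by
  have : Module.Finite R (LinearMap.ker μ) := Module.Finite.iff_fg.2 (IsNoetherian.noetherian _)
  refine length_ne_top_of_supp (P := P) hV.coht (fun m q hq h => hM m.1 q hq fun r hr => h r (Subtype.ext hr))
    fun m p hp => ?_
  obtain ⟨s, hs, hsm⟩ := hμ m.1 m.2 p hp
  exact ⟨s, hs, Subtype.ext hsm⟩

omit [IsNoetherianRing R] in
theorem length_quot_map {Φ : W →ₗ[R] V} (hΦ : Function.Injective Φ) (Q : Submodule R W) :
    Module.length R (V ⧸ Q.map Φ) = Module.length R (W ⧸ Q) + Module.length R (V ⧸ LinearMap.range Φ) := by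
  have hle : Q.map Φ ≤ LinearMap.range Φ := LinearMap.map_le_range
  refine Module.length_eq_add_of_exact (Submodule.mapQ Q (Q.map Φ) Φ (Submodule.le_comap_map _ _))
    (Submodule.factor hle) ?_ (Submodule.factor_surjective hle) ?_
  · refine (injective_iff_map_eq_zero _).2 fun x hx => ?_
    obtain ⟨x, rfl⟩ := Submodule.Quotient.mk_surjective Q x
    rw [Submodule.mapQ_apply, Submodule.Quotient.mk_eq_zero] at hx
    obtain ⟨y, hy, hxy⟩ := hx
    rw [Submodule.Quotient.mk_eq_zero, ← hΦ hxy]
    exact hy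
  · intro z
    obtain ⟨z, rfl⟩ := Submodule.Quotient.mk_surjective _ z
    constructor
    · intro hz
      change (Submodule.Quotient.mk z : V ⧸ LinearMap.range Φ) = 0 at hz
      rw [Submodule.Quotient.mk_eq_zero] at hz
      obtain ⟨x, rfl⟩ := hz
      exact ⟨Submodule.Quotient.mk x, rfl⟩
    · rintro ⟨w, hw⟩
      obtain ⟨w, rfl⟩ := Submodule.Quotient.mk_surjective _ w
      rw [← hw]
      change (Submodule.Quotient.mk (Φ w) : V ⧸ LinearMap.range Φ) = 0
      rw [Submodule.Quotient.mk_eq_zero]
      exact LinearMap.mem_range_self Φ w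

omit [IsNoetherianRing R] in
theorem rlen_self (A : Submodule R V) : rlen A A = 0 := by
  rw [rlen, Module.length_eq_zero_iff.2 (Submodule.Quotient.subsingleton_iff.2 ?_)]
  · rfl
  · exact Submodule.comap_subtype_self A

theorem rlen_trans (hV : Supp P V) {A B C : Submodule R V} (hA : IsLat P A) (hB : IsLat P B) (hC : IsLat P C)
    (hAB : A ≤ B) (hBC : B ≤ C) : rlen A C = rlen A B + rlen B C := by
  have e := length_quot_map (Φ := Submodule.inclusion hBC) (Submodule.inclusion_injective hBC)
    (A.comap B.subtype)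
  have h1 : (A.comap B.subtype).map (Submodule.inclusion hBC) = A.comap C.subtype := by
    ext z
    constructor
    · rintro ⟨y, hy, rfl⟩
      exact hy
    · intro hz
      exact ⟨⟨z.1, hAB hz⟩, hz, Subtype.ext rfl⟩
  rw [h1, Submodule.range_inclusion] at e
  rw [rlen, rlen, rlen, e, ENat.toNat_add (length_rel_ne_top hV hA hB) (length_rel_ne_top hV hB hC)]
  push_cast
  rfl

omit [IsNoetherianRing R] in
theorem IsLat.sup {A B : Submodule R V} (hA : IsLat P A) (hB : IsLat P B) : IsLat P (A ⊔ B) :=
  ⟨hA.1.sup hB.1, fun v p hp => let ⟨s, hs, h⟩ := hA.2 v p hp; ⟨s, hs, Submodule.mem_sup_left h⟩⟩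

omit [IsNoetherianRing R] in
theorem IsDeg.sub_eq {c d : Submodule R V → ℤ} (hc : IsDeg P c) (hd : IsDeg P d) {A B : Submodule R V}
    (hA : IsLat P A) (hB : IsLat P B) : c A - d A = c B - d B := by
  have hS := hA.sup hB
  have h1 := hc A _ hA hS le_sup_left
  have h2 := hd A _ hA hS le_sup_left
  have h3 := hc B _ hB hS le_sup_right
  have h4 := hd B _ hB hS le_sup_right
  omega

/-- The degree relative to a reference lattice. -/
noncomputable def relDeg (A₀ : Submodule R V) (A : Submodule R V) : ℤ := rlen A₀ (A₀ ⊔ A) - rlen A (A₀ ⊔ A)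

theorem isDeg_relDeg (hV : Supp P V) {A₀ : Submodule R V} (h₀ : IsLat P A₀) : IsDeg P (relDeg A₀) := by
  intro A B hA hB hAB
  have hle : A₀ ⊔ A ≤ A₀ ⊔ B := sup_le_sup_left hAB _
  have e1 := rlen_trans hV h₀ (h₀.sup hA) (h₀.sup hB) le_sup_left hle
  have e2 := rlen_trans hV hA (h₀.sup hA) (h₀.sup hB) le_sup_right hle
  have e3 := rlen_trans hV hA hB (h₀.sup hB) hAB le_sup_right
  unfold relDeg
  omega

omit [IsNoetherianRing R] in
theorem relDeg_self (A₀ : Submodule R V) : relDeg A₀ A₀ = 0 := by
  rw [relDeg, sup_idem, sub_self]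

section Ext

variable {V' V'' : Type u} [AddCommGroup V'] [Module R V'] [AddCommGroup V''] [Module R V'']
  {i : V' →ₗ[R] V} {q : V →ₗ[R] V''}

theorem IsLat.comap {A : Submodule R V} (hA : IsLat P A) (hi : Function.Injective i) :
    IsLat P (A.comap i) := by
  refine ⟨?_, fun v p hp => ?_⟩
  · have : Module.Finite R A := Module.Finite.iff_fg.2 hA.1
    have hn : IsNoetherian R A := inferInstance
    refine Submodule.fg_of_fg_map_injective i hi ?_
    have hle : (A.comap i).map i ≤ A := Submodule.map_comap_le i A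
    have := (IsNoetherian.noetherian (((A.comap i).map i).comap A.subtype)).map A.subtype
    rwa [Submodule.map_comap_subtype, inf_eq_right.2 hle] at this
  · obtain ⟨s, hs, h⟩ := hA.2 (i v) p hp
    exact ⟨s, hs, by rw [Submodule.mem_comap, map_smul]; exact h⟩

omit [IsNoetherianRing R] in
theorem IsLat.map {A : Submodule R V} (hA : IsLat P A) (hq : Function.Surjective q) : IsLat P (A.map q) := by
  refine ⟨hA.1.map q, fun w p hp => ?_⟩
  obtain ⟨v, rfl⟩ := hq w
  obtain ⟨s, hs, h⟩ := hA.2 v p hp
  exact ⟨s, hs, ⟨_, h, map_smul q s v⟩⟩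

theorem rlen_ext (hV : Supp P V) (hi : Function.Injective i) (hq : Function.Surjective q)
    (hex : Function.Exact i q) {A B : Submodule R V} (hA : IsLat P A) (hB : IsLat P B) (hAB : A ≤ B) :
    rlen A B = rlen (A.comap i) (B.comap i) + rlen (A.map q) (B.map q) := by
  let f : B.comap i →ₗ[R] B := (i.comp (B.comap i).subtype).codRestrict B fun z => z.2
  let g : B →ₗ[R] B.map q := (q.comp B.subtype).codRestrict _ fun z => Submodule.mem_map_of_mem z.2
  let F := Submodule.mapQ ((A.comap i).comap (B.comap i).subtype) (A.comap B.subtype) f fun z hz => hz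
  let G := Submodule.mapQ (A.comap B.subtype) ((A.map q).comap (B.map q).subtype) g
    fun z hz => Submodule.mem_map_of_mem hz
  have e : Module.length R (B ⧸ A.comap B.subtype) = Module.length R _ + Module.length R _ :=
    Module.length_eq_add_of_exact F G ?_ ?_ ?_
  · rw [rlen, rlen, rlen, e, ENat.toNat_add (length_rel_ne_top (hV.of_injective hi) (hA.comap hi) (hB.comap hi))
      (length_rel_ne_top (hV.of_surjective hq) (hA.map hq) (hB.map hq))]
    push_cast
    rfl
  · refine (injective_iff_map_eq_zero F).2 fun z hz => ?_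
    obtain ⟨z, rfl⟩ := Submodule.Quotient.mk_surjective _ z
    rw [Submodule.mapQ_apply, Submodule.Quotient.mk_eq_zero] at hz
    rw [Submodule.Quotient.mk_eq_zero]
    exact hz
  · intro z
    obtain ⟨⟨_, y, hy, rfl⟩, rfl⟩ := Submodule.Quotient.mk_surjective _ z
    exact ⟨Submodule.Quotient.mk ⟨y, hy⟩, rfl⟩
  · intro z
    obtain ⟨z, rfl⟩ := Submodule.Quotient.mk_surjective _ z
    constructor
    · intro hz
      rw [Submodule.mapQ_apply, Submodule.Quotient.mk_eq_zero] at hz
      obtain ⟨a, ha, hqa⟩ := hz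
      have hqa' : q a = q z.1 := hqa
      obtain ⟨w, hw⟩ := (hex (z.1 - a)).1 (by rw [map_sub, hqa', sub_self])
      refine ⟨Submodule.Quotient.mk ⟨w, ?_⟩, ?_⟩
      · rw [Submodule.mem_comap, hw]
        exact sub_mem z.2 (hAB ha)
      · rw [Submodule.mapQ_apply, Submodule.Quotient.eq, Submodule.mem_comap]
        change i w - z.1 ∈ A
        rw [hw, sub_sub_cancel_left]
        exact neg_mem ha
    · rintro ⟨w, hw⟩
      obtain ⟨w, rfl⟩ := Submodule.Quotient.mk_surjective _ w
      rw [← hw, Submodule.mapQ_apply, Submodule.mapQ_apply, Submodule.Quotient.mk_eq_zero]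
      change q (i w.1) ∈ A.map q
      rw [hex.apply_apply_eq_zero]
      exact zero_mem _

/-- Degree functions on a submodule and on the quotient combine. -/
theorem isDeg_ext (hV : Supp P V) (hi : Function.Injective i) (hq : Function.Surjective q)
    (hex : Function.Exact i q) {c : Submodule R V' → ℤ} {d : Submodule R V'' → ℤ}
    (hc : IsDeg P c) (hd : IsDeg P d) : IsDeg P fun A => c (A.comap i) + d (A.map q) := by
  intro A B hA hB hAB
  have h1 := hc _ _ (hA.comap hi) (hB.comap hi) (Submodule.comap_mono hAB)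
  have h2 := hd _ _ (hA.map hq) (hB.map hq) (Submodule.map_mono hAB)
  have h3 := rlen_ext hV hi hq hex hA hB hAB
  simp only
  omega

end Ext

theorem isDeg_of_subsingleton [Subsingleton V] : IsDeg P (fun _ : Submodule R V => (0 : ℤ)) := by
  intro A B _ _ _
  rw [rlen, Module.length_eq_zero_iff.2 inferInstance]
  rfl

end Groth.ChowK
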