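import Groth.Agent.ChowK.Classes

/-!
# Dévissage: the class of a coherent module of dimension `≤ k` modulo dimension `< k` is its cycle
-/

set_option autoImplicit false
universe u

open CategoryTheory CategoryTheory.Limits AlgebraicGeometry TopologicalSpace

namespace Groth.ChowK

open Groth.QCohMod Groth.KTheory Groth.KTheory.LocFree

section Algebra

variable {R M : Type u} [CommRing R] [IsLocalRing R] [AddCommGroup M] [Module R M]

/-- A module of finite length is killed by a power of the maximal ideal. -/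
theorem exists_pow_smul_eq_zero_of_length (h : Module.length R M ≠ ⊤) :
    ∃ n : ℕ, ∀ a ∈ IsLocalRing.maximalIdeal R ^ n, ∀ t : M, a • t = 0 := by
  have h' := isFiniteLength_iff_isNoetherian_isArtinian.1 (Module.length_ne_top_iff.1 h)
  have := h'.1
  have := h'.2
  let f : ℕ →o (Submodule R M)ᵒᵈ :=
    ⟨fun n => OrderDual.toDual ((IsLocalRing.maximalIdeal R ^ n) • (⊤ : Submodule R M)),
      fun i j hij => Submodule.smul_mono_left (Ideal.pow_le_pow_right hij)⟩
  obtain ⟨n, hn⟩ := IsArtinian.monotone_stabilizes f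
  refine ⟨n, fun a ha t => ?_⟩
  have e : (IsLocalRing.maximalIdeal R ^ n) • (⊤ : Submodule R M) =
      IsLocalRing.maximalIdeal R • ((IsLocalRing.maximalIdeal R ^ n) • (⊤ : Submodule R M)) := by
    rw [← Submodule.mul_smul, ← pow_succ']
    exact hn (n + 1) (Nat.le_succ n)
  have h0 := Submodule.eq_bot_of_le_smul_of_le_jacobson_bot (IsLocalRing.maximalIdeal R) _
    (IsNoetherian.noetherian _) e.le (by rw [IsLocalRing.jacobson_eq_maximalIdeal ⊥ bot_ne_top])
  have hmem : a • t ∈ (IsLocalRing.maximalIdeal R ^ n) • (⊤ : Submodule R M) :=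
    Submodule.smul_mem_smul ha Submodule.mem_top
  rwa [h0, Submodule.mem_bot] at hmem

omit [IsLocalRing R] in
/-- Consecutive members of a composition series differ in length by one. -/
theorem length_step (s : CompositionSeries (Submodule R M)) (j : Fin s.length) :
    Module.length R (s j.succ) = Module.length R (s j.castSucc) + 1 := by
  have hc : s j.castSucc ⋖ s j.succ := s.step j
  have := (covBy_iff_quot_is_simple hc.le).1 hc
  rw [Module.length_eq_add_of_exact (Submodule.comap (s j.succ).subtype (s j.castSucc)).subtype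
    (Submodule.mkQ _) (Submodule.subtype_injective _) (Submodule.mkQ_surjective _)
    (LinearMap.exact_subtype_mkQ _), Module.length_eq_one_iff.2 this,
    (Submodule.comapSubtypeEquivOfLe hc.le).length_eq]

end Algebra

variable {X : Scheme.{u}} {δ : X → ℤ}

theorem specializes_of_mem_support {M : X.Modules} {ξ x : X}
    (h : CohB1.support M ⊆ closure {ξ}) (hx : x ∈ CohB1.support M) : ξ ⤳ x :=
  specializes_iff_mem_closure.mpr (h hx)

/-- The range of the inclusion of a germ submodule at the point. -/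
theorem germSub_stalk {F : X.Modules} {ξ : X} (N : Submodule (X.presheaf.stalk ξ) (F.presheaf.stalk ξ)) :
    Function.Injective (stalkₗ (germSub F ξ N).ι ξ) ∧
      LinearMap.range (stalkₗ (germSub F ξ N).ι ξ) = N := by
  have : Mono (germSub F ξ N).ι := (Groth.CohTwo.mono_iff_app_injective _).2 fun W => SubMod.ι_app_injective _ W
  refine ⟨(mono_iff_stalk _).1 this ξ, Submodule.ext fun t => ?_⟩
  rw [LinearMap.mem_range, ← quoπ_eq_zero_iff_mem_range, quoπ_eq_zero_iff_self]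

theorem length_germSub {F : X.Modules} {ξ : X} (N : Submodule (X.presheaf.stalk ξ) (F.presheaf.stalk ξ)) :
    Module.length (X.presheaf.stalk ξ) ((germSub F ξ N).toMod.presheaf.stalk ξ) =
      Module.length (X.presheaf.stalk ξ) N := by
  obtain ⟨hinj, hr⟩ := germSub_stalk N
  exact ((LinearEquiv.ofInjective _ hinj).trans (LinearEquiv.ofEq _ _ hr)).length_eq

/-- The inclusion of germ submodules. -/
theorem exists_germSub_le {F : X.Modules} {ξ : X}
    {N N' : Submodule (X.presheaf.stalk ξ) (F.presheaf.stalk ξ)} (h : N ≤ N') :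
    ∃ i : (germSub F ξ N).toMod ⟶ (germSub F ξ N').toMod, Mono i ∧
      i ≫ (germSub F ξ N').ι = (germSub F ξ N).ι := by
  have : Mono (germSub F ξ N').ι := (Groth.CohTwo.mono_iff_app_injective _).2 fun W => SubMod.ι_app_injective _ W
  have : Mono (germSub F ξ N).ι := (Groth.CohTwo.mono_iff_app_injective _).2 fun W => SubMod.ι_app_injective _ W
  have h0 : (germSub F ξ N).ι ≫ quoπ F ξ N' = 0 := hom_eq_zero_of_stalk _ fun x t => by
    refine (congr($((stalk x).map_comp (germSub F ξ N).ι (quoπ F ξ N')) t)).trans ?_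
    change stalkₗ (quoπ F ξ N') x (stalkₗ (germSub F ξ N).ι x t) = 0
    by_cases hx : ξ ⤳ x
    · rw [quoπ_eq_zero_iff hx]
      refine h ((quoπ_eq_zero_iff hx _).1 ?_)
      exact quoπ_eq_zero_iff_mem_range _ |>.2 ⟨t, rfl⟩
    · exact quoπ_eq_zero_of_not hx _
  refine ⟨Abelian.monoLift (germSub F ξ N').ι (germSub F ξ N).ι h0, ?_, Abelian.monoLift_comp _ _ h0⟩
  exact mono_of_mono_fac (Abelian.monoLift_comp (germSub F ξ N').ι (germSub F ξ N).ι h0)

variable [IsLocallyNoetherian X]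

theorem cohLe_of_support_closure (hδ : Cyc.IsDimFun X δ) {M : X.Modules} (hM : Coh.IsCoh M) {ξ : X}
    (h : CohB1.support M ⊆ closure {ξ}) {k : ℤ} (hk : δ ξ ≤ k) : Cyc.CohLe δ k M :=
  cohLe_of_support hM fun _ hx =>
    (Groth.Cycles.delta_le_of_specializes hδ (specializes_of_mem_support h hx)).trans hk

theorem length_one_pow {R M : Type u} [CommRing R] [IsLocalRing R] [AddCommGroup M] [Module R M]
    (h : Module.length R M = 1) :
    ∃ n : ℕ, ∀ a ∈ IsLocalRing.maximalIdeal R ^ n, ∀ t : M, a • t = 0 :=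
  exists_pow_smul_eq_zero_of_length (by rw [h]; exact ENat.one_ne_top)

theorem bijective_of_subsingleton {M N : X.Modules} (f : M ⟶ N) (x : X)
    (hM : Subsingleton (M.presheaf.stalk x)) (hN : Subsingleton (N.presheaf.stalk x)) :
    Function.Bijective ((stalk x).map f) :=
  ⟨fun s t _ => @Subsingleton.elim _ hM s t, fun s => ⟨0, @Subsingleton.elim _ hN _ s⟩⟩

/-- Locally finite families with stalks of length one at their generic points have the same class. -/
theorem toQuot_sigma_eq_of_length_one (hδ : Cyc.IsDimFun X δ) {k a b : ℤ} (hka : k ≤ a) (hkb : k - 1 ≤ b)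
    (hba : b ≤ a) {ι : Type u} (ξ : ι → X) (hξ : ∀ i, δ (ξ i) = k)
    (hlf : ∀ x : X, ∃ U : Set X, IsOpen U ∧ x ∈ U ∧ {i | (closure {ξ i} ∩ U).Nonempty}.Finite)
    {A B : ι → X.Modules} (hA : ∀ i, Coh.IsCoh (A i)) (hB : ∀ i, Coh.IsCoh (B i))
    (hAs : ∀ i, CohB1.support (A i) ⊆ closure {ξ i}) (hBs : ∀ i, CohB1.support (B i) ⊆ closure {ξ i})
    (hA1 : ∀ i, Module.length (X.presheaf.stalk (ξ i)) ((A i).presheaf.stalk (ξ i)) = 1)
    (hB1 : ∀ i, Module.length (X.presheaf.stalk (ξ i)) ((B i).presheaf.stalk (ξ i)) = 1) :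
    Cyc.toK0CohQuot δ a b (∐ A) = Cyc.toK0CohQuot δ a b (∐ B) := by
  have hσ : ∀ i, ∃ σ : (A i).presheaf.stalk (ξ i) →ₗ[X.presheaf.stalk (ξ i)] (B i).presheaf.stalk (ξ i),
      Function.Bijective σ := by
    intro i
    have := (hA i).1
    have := Groth.QCohMod.finite_stalk (A i) (hA i).2 (ξ i)
    have : IsSimpleModule (X.presheaf.stalk (ξ i)) ((A i).presheaf.stalk (ξ i)) :=
      Module.length_eq_one_iff.mp (hA1 i)
    have : IsSimpleModule (X.presheaf.stalk (ξ i)) ((B i).presheaf.stalk (ξ i)) :=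
      Module.length_eq_one_iff.mp (hB1 i)
    have := IsSimpleModule.nontrivial (X.presheaf.stalk (ξ i)) ((A i).presheaf.stalk (ξ i))
    obtain ⟨σ, hσ⟩ := Devissage.exists_surjective_of_length_eq_one (M := (A i).presheaf.stalk (ξ i)) (hB1 i)
    refine ⟨σ, (LinearMap.bijective_or_eq_zero σ).resolve_right fun h0 => ?_⟩
    have := IsSimpleModule.nontrivial (X.presheaf.stalk (ξ i)) ((B i).presheaf.stalk (ξ i))
    obtain ⟨v, hv⟩ := exists_ne (0 : (B i).presheaf.stalk (ξ i))
    obtain ⟨t, rfl⟩ := hσ v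
    exact hv (by rw [h0]; rfl)
  choose σ hσ using hσ
  let J : ι → X.Modules := fun i => join (σ i) LinearMap.id
  have hJ : ∀ i, Coh.IsCoh (J i) := fun i => isCoh_join _ _ (hA i) (hB i) (length_one_pow (hB1 i))
  have hJs : ∀ i, CohB1.support (J i) ⊆ closure {ξ i} := fun i => support_quo_subset
  have hle : ∀ (M : ι → X.Modules), (∀ i, Coh.IsCoh (M i)) → (∀ i, CohB1.support (M i) ⊆ closure {ξ i}) →
      Cyc.CohLe δ a (∐ M) := fun M h1 h2 =>
    cohLe_sigma (locFin_of_subset _ h2 hlf) fun i =>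
      cohLe_of_support_closure hδ (h1 i) (h2 i) ((hξ i).trans_le hka)
  have hkey : ∀ (M N : ι → X.Modules) (f : ∀ i, M i ⟶ N i),
      (∀ i, CohB1.support (M i) ⊆ closure {ξ i}) → (∀ i, CohB1.support (N i) ⊆ closure {ξ i}) →
      (∀ i, Function.Bijective (stalkₗ (f i) (ξ i))) →
      ∀ x, b < δ x → Function.Bijective ((stalk x).map (Limits.Sigma.map f)) := by
    intro M N f hMs hNs hf x hx
    refine bijective_stalk_sigmaMap f x fun i => ?_
    by_cases he : ξ i = x
    · subst he; exact hf i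
    · have hsub : ∀ (P : X.Modules), CohB1.support P ⊆ closure {ξ i} → Subsingleton (P.presheaf.stalk x) := by
        intro P hP
        by_contra hne
        exact he (Groth.Cycles.eq_of_specializes_of_delta_le hδ (specializes_of_mem_support hP hne)
          (by rw [hξ i]; omega))
      exact bijective_of_subsingleton _ x (hsub _ (hMs i)) (hsub _ (hNs i))
  rw [toQuot_of_bijective hba (hle A hA hAs) (hle J hJ hJs)
      (Limits.Sigma.map fun i => joinL (σ i) LinearMap.id)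
      (hkey _ _ _ hAs hJs fun i => bijective_joinL _ _ (hσ i)),
    toQuot_of_bijective hba (hle B hB hBs) (hle J hJ hJs)
      (Limits.Sigma.map fun i => joinR (σ i) LinearMap.id)
      (hkey _ _ _ hBs hJs fun i => bijective_joinR _ _ Function.bijective_id)]

/-- The points of dimension `k` of a support of dimension `≤ k` are locally finite. -/
theorem locallyFinite_top_points (hδ : Cyc.IsDimFun X δ) {k : ℤ} {F : X.Modules}
    (hF : Cyc.CohLe δ k F) (x : X) :
    ∃ U : Set X, IsOpen U ∧ x ∈ U ∧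
      {ξ : X | δ ξ = k ∧ Nontrivial (F.presheaf.stalk ξ) ∧ (closure {ξ} ∩ U).Nonempty}.Finite := by
  have := hF.1.1
  obtain ⟨V, hV, hxV⟩ := exists_affine_mem x
  refine ⟨V, V.2, hxV, ?_⟩
  have := finite_sections F hF.1.2 hV
  have : IsNoetherianRing Γ(X, V) := IsLocallyNoetherian.component_noetherian ⟨V, hV⟩
  set I := Module.annihilator Γ(X, V) Γ(F, V)
  have hsupp : ∀ q : PrimeSpectrum Γ(X, V), q ∈ Module.support Γ(X, V) Γ(F, V) ↔ I ≤ q.asIdeal := fun q => by
    rw [Module.support_eq_zeroLocus, PrimeSpectrum.mem_zeroLocus]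
    exact Iff.rfl
  have hmem : ∀ {ξ : X}, (closure {ξ} ∩ (V : Set X)).Nonempty → ξ ∈ V := by
    rintro ξ ⟨y, hy, hyV⟩
    exact (specializes_iff_mem_closure.mpr hy).mem_open V.2 hyV
  have hmin : ∀ {ξ : X} (hξV : ξ ∈ V), δ ξ = k → Nontrivial (F.presheaf.stalk ξ) →
      (hV.primeIdealOf ⟨ξ, hξV⟩).asIdeal ∈ I.minimalPrimes := by
    intro ξ hξV hξ hnt
    have hξs : ξ ∈ CohB1.support F := not_subsingleton_iff_nontrivial.mpr hnt
    rw [mem_support_iff F hV ξ hξV, hsupp] at hξs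
    refine ⟨⟨(hV.primeIdealOf ⟨ξ, hξV⟩).2, hξs⟩, fun q ⟨hq, hIq⟩ hqp => ?_⟩
    let q' : PrimeSpectrum Γ(X, V) := ⟨q, hq⟩
    set z := hV.fromSpec q'
    have hzV : z ∈ V := by
      have : z ∈ Set.range hV.fromSpec := ⟨q', rfl⟩
      rwa [hV.range_fromSpec] at this
    have hzq : hV.primeIdealOf ⟨z, hzV⟩ = q' :=
      hV.fromSpec.isOpenEmbedding.injective (hV.fromSpec_primeIdealOf ⟨z, hzV⟩)
    have hzF : z ∈ CohB1.support F := by
      rw [mem_support_iff F hV z hzV, hzq, hsupp]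
      exact hIq
    have hspec : z ⤳ ξ := by
      have := ((PrimeSpectrum.le_iff_specializes q' (hV.primeIdealOf ⟨ξ, hξV⟩)).mp hqp).map
        hV.fromSpec.continuous
      rwa [hV.fromSpec_primeIdealOf ⟨ξ, hξV⟩] at this
    have e := Groth.Cycles.eq_of_specializes_of_delta_le hδ hspec (hξ ▸ CohLe.le hF hzF)
    have : hV.primeIdealOf ⟨ξ, hξV⟩ = q' := by
      rw [← hzq]; congr 1; exact Subtype.ext e.symm
    exact (congrArg PrimeSpectrum.asIdeal this).le
  classical
  refine Set.Finite.of_finite_image (f := fun ξ => if h : ξ ∈ V then (hV.primeIdealOf ⟨ξ, h⟩).asIdeal else ⊥)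
    ((Ideal.finite_minimalPrimes_of_isNoetherianRing Γ(X, V) I).subset ?_) ?_
  · rintro _ ⟨ξ, ⟨h1, h2, h3⟩, rfl⟩
    simp only [dif_pos (hmem h3)]
    exact hmin _ h1 h2
  · rintro ξ ⟨-, -, h3⟩ η ⟨-, -, h3'⟩ he
    simp only [dif_pos (hmem h3), dif_pos (hmem h3')] at he
    have := congrArg hV.fromSpec (PrimeSpectrum.ext he)
    rwa [hV.fromSpec_primeIdealOf, hV.fromSpec_primeIdealOf] at this

theorem sheafFun_pos_iff (hX : Cyc.IsSetup X δ) {k : ℤ} {F : X.Modules} (hF : Cyc.CohLe δ k F) (ξ : X) :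
    0 < Cyc.sheafFun δ k F ξ ↔ δ ξ = k ∧ Nontrivial (F.presheaf.stalk ξ) := by
  unfold Cyc.sheafFun
  split_ifs with h
  · have hne := Groth.Cycles.length_stalk_ne_top_of_le hX hF.1 hF.2 ξ h
    simp only [h, true_and, Nat.cast_pos]
    rw [pos_iff_ne_zero, Ne, ENat.toNat_eq_zero]
    simp only [hne, or_false, Module.length_eq_zero_iff, not_subsingleton_iff_nontrivial]
  · simp [h]

theorem sheafFun_nonneg {k : ℤ} {F : X.Modules} (ξ : X) : 0 ≤ Cyc.sheafFun δ k F ξ := by
  unfold Cyc.sheafFun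
  split_ifs <;> positivity

/-- The points indexing the positive part of a coefficient function. -/
abbrev PosPt (α : X → ℤ) : Type u := {ξ : X // 0 < α ξ}

/-- The index of the summands of `cycleSheafPos`. -/
abbrev PosIdx (α : X → ℤ) : Type u := Σ ξ : PosPt α, Fin (α ξ.1).toNat

omit [IsLocallyNoetherian X] in
theorem posIdx_locFin {α : X → ℤ}
    (hα : ∀ x : X, ∃ U : Set X, IsOpen U ∧ x ∈ U ∧ {ξ | 0 < α ξ ∧ (closure {ξ} ∩ U).Nonempty}.Finite)
    (x : X) : ∃ U : Set X, IsOpen U ∧ x ∈ U ∧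
      {i : PosIdx α | (closure {i.1.1} ∩ U).Nonempty}.Finite := by
  obtain ⟨U, hU, hx, hfin⟩ := hα x
  refine ⟨U, hU, hx, ?_⟩
  have h1 : {ξ : PosPt α | (closure {ξ.1} ∩ U).Nonempty}.Finite :=
    Set.Finite.of_finite_image (hfin.subset (by rintro _ ⟨ξ, hξ, rfl⟩; exact ⟨ξ.2, hξ⟩))
      Subtype.val_injective.injOn
  refine (h1.biUnion fun ξ _ => Set.finite_range (Sigma.mk ξ : _ → PosIdx α)).subset ?_
  rintro ⟨ξ, j⟩ h
  exact Set.mem_biUnion (x := ξ) h ⟨j, rfl⟩

theorem cohLe_cycleSheafPos (hδ : Cyc.IsDimFun X δ) {α : X → ℤ} {k : ℤ}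
    (hαk : ∀ ξ, 0 < α ξ → δ ξ ≤ k)
    (hα : ∀ x : X, ∃ U : Set X, IsOpen U ∧ x ∈ U ∧ {ξ | 0 < α ξ ∧ (closure {ξ} ∩ U).Nonempty}.Finite) :
    Cyc.CohLe δ k (Cyc.cycleSheafPos α) :=
  cohLe_sigma (locFin_of_subset (fun i : PosIdx α => closure {i.1.1})
      (fun i => Devissage.support_closureStructureSheaf_subset i.1.1) (posIdx_locFin hα))
    fun i => cohLe_of_support_closure hδ (Devissage.isCoh_closureStructureSheaf i.1.1)
      (Devissage.support_closureStructureSheaf_subset i.1.1) (hαk _ i.1.2)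

theorem finite_sigma_closures {ι : Type u} {p : ι → X} (n : ι → ℕ)
    (hlf : ∀ x : X, ∃ U : Set X, IsOpen U ∧ x ∈ U ∧ {i | (closure {p i} ∩ U).Nonempty}.Finite) (x : X) :
    ∃ U : Set X, IsOpen U ∧ x ∈ U ∧
      {j : (Σ i, Fin (n i)) | (closure {p j.1} ∩ U).Nonempty}.Finite := by
  obtain ⟨U, hU, hx, hfin⟩ := hlf x
  refine ⟨U, hU, hx, (hfin.biUnion fun i _ => Set.finite_range (Sigma.mk i : _ → Σ i, Fin (n i))).subset ?_⟩
  rintro ⟨i, j⟩ h
  exact Set.mem_biUnion (x := i) h ⟨j, rfl⟩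

/-- A locally finite family is, modulo lower dimension, a sum of structure sheaves of closures of points. -/
theorem toQuot_sigma_parts (hδ : Cyc.IsDimFun X δ) {k a b : ℤ} (hka : k ≤ a) (hkb : k - 1 ≤ b)
    (hba : b ≤ a) {ι : Type u} (p : ι → X) (hdim : ∀ ξ, δ (p ξ) = k)
    (hlfP : ∀ x : X, ∃ U : Set X, IsOpen U ∧ x ∈ U ∧ {i | (closure {p i} ∩ U).Nonempty}.Finite)
    {G : ι → X.Modules} (hG : ∀ ξ, Coh.IsCoh (G ξ)) (hGs : ∀ ξ, CohB1.support (G ξ) ⊆ closure {p ξ})
    (n : ι → ℕ) (hlen : ∀ ξ, Module.length (X.presheaf.stalk (p ξ)) ((G ξ).presheaf.stalk (p ξ)) = n ξ) :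
    Cyc.toK0CohQuot δ a b (∐ G) =
      Cyc.toK0CohQuot δ a b (∐ fun i : (Σ ξ, Fin (n ξ)) => Cyc.closureStructureSheaf (p i.1)) := by
  classical
  have hfinlen : ∀ ξ, Module.length (X.presheaf.stalk (p ξ)) ((G ξ).presheaf.stalk (p ξ)) ≠ ⊤ :=
    fun ξ => by rw [hlen ξ]; exact ENat.coe_ne_top _
  have hsubs : ∀ (P : X.Modules) (ξ : ι) (x : X), CohB1.support P ⊆ closure {p ξ} → b < δ x →
      p ξ ≠ x → Subsingleton (P.presheaf.stalk x) := by
    intro P ξ x hP hx he
    by_contra hne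
    exact he (Groth.Cycles.eq_of_specializes_of_delta_le hδ (specializes_of_mem_support hP hne)
      (by rw [hdim ξ]; omega))
  have hGle : Cyc.CohLe δ a (∐ G) := cohLe_sigma (locFin_of_subset _ hGs hlfP)
    fun ξ => cohLe_of_support_closure hδ (hG ξ) (hGs ξ) ((hdim ξ).trans_le hka)
  -- composition series
  have hser : ∀ ξ : ι, ∃ s : CompositionSeries (Submodule (X.presheaf.stalk (p ξ)) ((G ξ).presheaf.stalk (p ξ))),
      s.head = ⊥ ∧ s.last = ⊤ ∧ s.length = n ξ := by
    intro ξ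
    have hne := hfinlen ξ
    obtain ⟨s, hs₁, hs₂⟩ := isFiniteLength_iff_exists_compositionSeries.1 (Module.length_ne_top_iff.1 hne)
    refine ⟨s, hs₁, hs₂, ?_⟩
    exact_mod_cast (Module.length_compositionSeries s hs₁ hs₂).trans (hlen ξ)
  choose s hs0 hs1 hsl using hser
  let J := Σ ξ : ι, Fin ((s ξ).length + 1)
  let I := Σ ξ : ι, Fin (s ξ).length
  let P : J → X.Modules := fun j => (germSub (G j.1) (p j.1) (s j.1 j.2)).toMod
  have hP : ∀ j, Coh.IsCoh (P j) := fun j => by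
    have hne := hfinlen j.1
    exact isCoh_germSub _ _ _ (hG j.1) ((exists_pow_smul_eq_zero_of_length hne).imp
      fun n hn a ha t => by rw [hn a ha t]; exact zero_mem _)
  have hmonoP : ∀ j : J, Mono (germSub (G j.1) (p j.1) (s j.1 j.2)).ι := fun j =>
    (Groth.CohTwo.mono_iff_app_injective _).2 fun W => SubMod.ι_app_injective _ W
  have hPs : ∀ j, CohB1.support (P j) ⊆ closure {(p j.1)} := fun j => by
    have := hmonoP j
    exact (Devissage.support_subset_of_mono (germSub (G j.1) (p j.1) (s j.1 j.2)).ι).trans (hGs j.1)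
  have hlfJ : ∀ x : X, ∃ U : Set X, IsOpen U ∧ x ∈ U ∧
      {j : J | (closure {(p j.1)} ∩ U).Nonempty}.Finite := fun x => by
    obtain ⟨U, hU, hx, hfin⟩ := hlfP x
    refine ⟨U, hU, hx, (hfin.biUnion fun ξ _ => Set.finite_range (Sigma.mk ξ : _ → J)).subset ?_⟩
    rintro ⟨ξ, j⟩ h
    exact Set.mem_biUnion (x := ξ) h ⟨j, rfl⟩
  have hPle : ∀ j, Cyc.CohLe δ a (P j) := fun j =>
    cohLe_of_support_closure hδ (hP j) (hPs j) ((hdim j.1).trans_le hka)
  have hPlf : LocFin P := locFin_of_subset _ hPs hlfJ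
  -- one step
  have hstep : ∀ i : I, (s i.1 i.2.castSucc) ≤ (s i.1 i.2.succ) := fun i => ((s i.1).step i.2).le
  choose inc hinc hincι using fun i : I => exists_germSub_le (F := G i.1) (hstep i)
  let Q : I → X.Modules := fun i => cokernel (inc i)
  have hQc : ∀ i, Coh.IsCoh (Q i) := fun i =>
    haveI := (hP ⟨i.1, i.2.castSucc⟩).1
    isCoh_cokernel _ (hP ⟨i.1, i.2.succ⟩)
  have hQs : ∀ i, CohB1.support (Q i) ⊆ closure {(p i.1)} := fun i =>
    (Devissage.support_subset_of_epi (cokernel.π (inc i))).trans (hPs ⟨i.1, i.2.succ⟩)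
  have hlfI : ∀ x : X, ∃ U : Set X, IsOpen U ∧ x ∈ U ∧
      {i : I | (closure {(p i.1)} ∩ U).Nonempty}.Finite := fun x => by
    obtain ⟨U, hU, hx, hfin⟩ := hlfP x
    refine ⟨U, hU, hx, (hfin.biUnion fun ξ _ => Set.finite_range (Sigma.mk ξ : _ → I)).subset ?_⟩
    rintro ⟨ξ, j⟩ h
    exact Set.mem_biUnion (x := ξ) h ⟨j, rfl⟩
  let S : I → ShortComplex X.Modules := fun i =>
    ShortComplex.mk (inc i) (cokernel.π (inc i)) (cokernel.condition _)
  have hS : ∀ i, (S i).ShortExact := fun i =>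
    { exact := ShortComplex.exact_of_g_is_cokernel _ (cokernelIsCokernel (inc i))
      mono_f := hinc i
      epi_g := inferInstanceAs (Epi (cokernel.π (inc i))) }
  have hQ1 : ∀ i : I, Module.length (X.presheaf.stalk (p i.1)) ((Q i).presheaf.stalk (p i.1)) = 1 := by
    intro i
    have hinj : Function.Injective (stalkₗ (inc i) (p i.1)) := (mono_iff_stalk (inc i)).mp (hinc i) (p i.1)
    have hsur : Function.Surjective (stalkₗ (cokernel.π (inc i)) (p i.1)) :=
      (epi_iff_stalk (cokernel.π (inc i))).mp inferInstance (p i.1)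
    have hex : Function.Exact (stalkₗ (inc i) (p i.1)) (stalkₗ (cokernel.π (inc i)) (p i.1)) := by
      have h := (hS i).exact.map (stalk (p i.1))
      rw [ShortComplex.ab_exact_iff] at h
      intro t
      refine ⟨fun ht => h t ht, ?_⟩
      rintro ⟨u, rfl⟩
      exact congr($(((S i).map (stalk (p i.1))).zero) u)
    have hadd := Module.length_eq_add_of_exact _ _ hinj hsur hex
    rw [length_germSub, length_germSub, length_step (s i.1) i.2] at hadd
    have hfin : Module.length (X.presheaf.stalk (p i.1)) (s i.1 i.2.castSucc) ≠ ⊤ := fun htop => by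
      have hle := Module.length_le_of_injective (s i.1 i.2.castSucc).subtype (Submodule.subtype_injective _)
      rw [htop, top_le_iff] at hle
      exact hfinlen i.1 hle
    exact ((ENat.addLECancellable_of_ne_top hfin).inj.1 hadd).symm
  have hsum := toQuot_rel (δ := δ) (a := a) (b := b) (Groth.Misc6.DevissageSum.sumC S)
    (Groth.Misc6.DevissageSum.sumC_shortExact Groth.Misc6.DevissageSupp.mono_sigmaMap S hS)
    (cohLe_sigma (locFin_of_subset _ (fun i : I => hPs ⟨i.1, i.2.castSucc⟩) hlfI) fun i => hPle ⟨i.1, i.2.castSucc⟩)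
    (cohLe_sigma (locFin_of_subset _ (fun i : I => hPs ⟨i.1, i.2.succ⟩) hlfI) fun i => hPle ⟨i.1, i.2.succ⟩)
    (cohLe_sigma (locFin_of_subset _ hQs hlfI) fun i =>
      cohLe_of_support_closure hδ (hQc i) (hQs i) ((hdim i.1).trans_le hka))
  change Cyc.toK0CohQuot δ a b (∐ fun i : I => P ⟨i.1, i.2.succ⟩) =
    Cyc.toK0CohQuot δ a b (∐ fun i : I => P ⟨i.1, i.2.castSucc⟩) + Cyc.toK0CohQuot δ a b (∐ Q) at hsum
  -- the two ways of splitting off an end
  let e₀ : ι ⊕ I ≃ J :=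
    { toFun := Sum.elim (fun ξ => ⟨ξ, 0⟩) fun i => ⟨i.1, i.2.succ⟩
      invFun := fun j => Fin.cases (Sum.inl j.1) (fun l => Sum.inr ⟨j.1, l⟩) j.2
      left_inv := fun o => by cases o <;> simp
      right_inv := fun ⟨ξ, l⟩ => by induction l using Fin.cases <;> simp }
  let e₁ : ι ⊕ I ≃ J :=
    { toFun := Sum.elim (fun ξ => ⟨ξ, Fin.last _⟩) fun i => ⟨i.1, i.2.castSucc⟩
      invFun := fun j => Fin.lastCases (Sum.inl j.1) (fun l => Sum.inr ⟨j.1, l⟩) j.2
      left_inv := fun o => by cases o <;> simp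
      right_inv := fun ⟨ξ, l⟩ => by induction l using Fin.lastCases <;> simp }
  have heq : ∀ e : ι ⊕ I ≃ J, Cyc.toK0CohQuot δ a b (∐ P) =
      Cyc.toK0CohQuot δ a b (∐ fun ξ => P (e (Sum.inl ξ))) +
        Cyc.toK0CohQuot δ a b (∐ fun i => P (e (Sum.inr i))) := fun e =>
    (toQuot_sigma_reindex hPlf hPle e).symm.trans
      (toQuot_sigma_sum (hPlf.comp fun i => (Set.subsingleton_singleton.preimage e.injective).finite)
        fun o => hPle _)
  have h0 : Cyc.toK0CohQuot δ a b (∐ fun ξ => P (e₀ (Sum.inl ξ))) = 0 := by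
    refine toQuot_zero (cohLe_sigma (locFin_of_subset _ (fun ξ : ι => hPs ⟨ξ, 0⟩) hlfP) fun ξ => ?_)
    refine cohLe_of_support (hP _) fun x hx => ?_
    by_contra hlt
    have hxξ : (p ξ) = x := Groth.Cycles.eq_of_specializes_of_delta_le hδ
      (specializes_of_mem_support (hPs ⟨ξ, 0⟩) hx) (by rw [hdim ξ]; omega)
    subst hxξ
    refine hx (Module.length_eq_zero_iff (R := X.presheaf.stalk (p ξ)) |>.1 ?_)
    refine (length_germSub (F := G ξ) (ξ := p ξ) ((s ξ) 0)).trans ?_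
    rw [show (s ξ) 0 = ⊥ from hs0 ξ]
    exact Module.length_eq_zero_iff.2 inferInstance
  have hlast : Cyc.toK0CohQuot δ a b (∐ fun ξ => P (e₁ (Sum.inl ξ))) = Cyc.toK0CohQuot δ a b (∐ G) := by
    refine toQuot_of_bijective hba
      (cohLe_sigma (locFin_of_subset _ (fun ξ : ι => hPs ⟨ξ, Fin.last _⟩) hlfP) fun ξ => hPle _) hGle
      (Limits.Sigma.map fun ξ => (germSub (G ξ) (p ξ) (s ξ (Fin.last _))).ι) fun x hx =>
        bijective_stalk_sigmaMap _ x fun ξ => ?_
    by_cases he : (p ξ) = x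
    · subst he
      refine ⟨(germSub_stalk _).1, fun (t : (G ξ).presheaf.stalk (p ξ)) => ?_⟩
      have : t ∈ LinearMap.range (stalkₗ (germSub (G ξ) (p ξ) (s ξ (Fin.last _))).ι (p ξ)) := by
        rw [(germSub_stalk _).2, show (s ξ) (Fin.last _) = ⊤ from hs1 ξ]
        exact Submodule.mem_top
      exact this
    · exact bijective_of_subsingleton _ x (hsubs _ ξ x (hPs ⟨ξ, Fin.last _⟩) hx he)
        (hsubs _ ξ x (hGs ξ) hx he)
  have e0 := heq e₀
  have e1 := heq e₁
  rw [h0, zero_add] at e0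
  change Cyc.toK0CohQuot δ a b (∐ P) = Cyc.toK0CohQuot δ a b (∐ fun i : I => P ⟨i.1, i.2.succ⟩) at e0
  rw [hlast, e0] at e1
  change _ = _ + Cyc.toK0CohQuot δ a b (∐ fun i : I => P ⟨i.1, i.2.castSucc⟩) at e1
  rw [hsum] at e1
  have step2 : Cyc.toK0CohQuot δ a b (∐ Q) = Cyc.toK0CohQuot δ a b (∐ G) :=
    add_left_cancel (e1.trans (add_comm _ _))
  -- comparison with the structure sheaves
  let eI : I ≃ Σ ξ, Fin (n ξ) := Equiv.sigmaCongrRight fun ξ => finCongr (hsl ξ)
  rw [← step2, toQuot_sigma_eq_of_length_one hδ hka hkb hba (fun i : I => p i.1)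
    (fun i => hdim i.1) hlfI hQc (fun i => Devissage.isCoh_closureStructureSheaf (p i.1)) hQs
    (fun i => Devissage.support_closureStructureSheaf_subset (p i.1)) hQ1
    (fun i => Devissage.length_closureStructureSheaf (p i.1))]
  exact toQuot_sigma_reindex (M := fun i : (Σ ξ, Fin (n ξ)) => Cyc.closureStructureSheaf (p i.1))
    (locFin_of_subset _ (fun i => Devissage.support_closureStructureSheaf_subset (p i.1))
      (finite_sigma_closures n hlfP))
    (fun i => cohLe_of_support_closure hδ (Devissage.isCoh_closureStructureSheaf (p i.1))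
      (Devissage.support_closureStructureSheaf_subset (p i.1)) ((hdim i.1).trans_le hka)) eI

/-- Dévissage: a coherent module of dimension `≤ k` has the class of its cycle. -/
theorem toQuot_eq_cycleSheafPos (hX : Cyc.IsSetup X δ) {k a b : ℤ} (hka : k ≤ a) (hkb : k - 1 ≤ b)
    (hba : b ≤ a) {F : X.Modules} (hF : Cyc.CohLe δ k F) :
    Cyc.toK0CohQuot δ a b F = Cyc.toK0CohQuot δ a b (Cyc.cycleSheafPos (Cyc.sheafFun δ k F)) := by
  classical
  have hδ := hX.2.2
  let α := Cyc.sheafFun δ k F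
  have hpos : ∀ ξ, 0 < α ξ ↔ δ ξ = k ∧ Nontrivial (F.presheaf.stalk ξ) := sheafFun_pos_iff hX hF
  have hlfP : ∀ x : X, ∃ U : Set X, IsOpen U ∧ x ∈ U ∧
      {ξ : PosPt α | (closure {ξ.1} ∩ U).Nonempty}.Finite := fun x => by
    obtain ⟨U, hU, hx, hfin⟩ := locallyFinite_top_points hδ hF x
    exact ⟨U, hU, hx, Set.Finite.of_finite_image (hfin.subset (by
      rintro _ ⟨ξ, hξ, rfl⟩
      exact ⟨((hpos ξ.1).1 ξ.2).1, ((hpos ξ.1).1 ξ.2).2, hξ⟩)) Subtype.val_injective.injOn⟩
  have hdim : ∀ ξ : PosPt α, δ ξ.1 = k := fun ξ => ((hpos ξ.1).1 ξ.2).1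
  have hfinlen : ∀ ξ : PosPt α, Module.length (X.presheaf.stalk ξ.1) (F.presheaf.stalk ξ.1) ≠ ⊤ :=
    fun ξ => Groth.Cycles.length_stalk_ne_top_of_le hX hF.1 hF.2 ξ.1 (hdim ξ)
  let G : PosPt α → X.Modules := fun ξ => quo F ξ.1 ⊥
  have hG : ∀ ξ, Coh.IsCoh (G ξ) := fun ξ =>
    isCoh_quo hF.1 ((exists_pow_smul_eq_zero_of_length (hfinlen ξ)).imp fun n hn a ha t => by
      rw [Submodule.mem_bot]; exact hn a ha t)
  have hsubs : ∀ (P : X.Modules) (ξ : PosPt α) (x : X), CohB1.support P ⊆ closure {ξ.1} → b < δ x →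
      ξ.1 ≠ x → Subsingleton (P.presheaf.stalk x) := by
    intro P ξ x hP hx he
    by_contra hne
    exact he (Groth.Cycles.eq_of_specializes_of_delta_le hδ (specializes_of_mem_support hP hne)
      (by rw [hdim ξ]; omega))
  have hGs : ∀ ξ, CohB1.support (G ξ) ⊆ closure {ξ.1} := fun ξ => support_quo_subset
  have hlen : ∀ ξ : PosPt α, Module.length (X.presheaf.stalk ξ.1) ((G ξ).presheaf.stalk ξ.1) =
      ((α ξ.1).toNat : ℕ) := fun ξ => by
    rw [length_quo, (Submodule.quotEquivOfEqBot ⊥ rfl).length_eq]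
    change _ = (((Cyc.sheafFun δ k F ξ.1).toNat : ℕ) : ℕ∞)
    rw [Cyc.sheafFun, if_pos (hdim ξ), Int.toNat_natCast, ENat.coe_toNat (hfinlen ξ)]
  have hGle : Cyc.CohLe δ a (∐ G) := cohLe_sigma (locFin_of_subset _ hGs hlfP)
    fun ξ => cohLe_of_support_closure hδ (hG ξ) (hGs ξ) ((hdim ξ).trans_le hka)
  obtain ⟨φ, hφ⟩ := exists_sigma_lift (locFin_of_subset _ hGs hlfP) fun ξ : PosPt α => quoπ F ξ.1 ⊥
  refine Eq.trans ?_ (toQuot_sigma_parts hδ hka hkb hba Subtype.val hdim hlfP hG hGs _ hlen)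
  refine toQuot_of_bijective hba (cohLe_mono hka hF) hGle φ fun x hx => ?_
  by_cases hxα : 0 < α x
  · let ξ₀ : PosPt α := ⟨x, hxα⟩
    have hb1 : Function.Bijective (stalkₗ (quoπ F x ⊥) x) :=
      ⟨(injective_iff_map_eq_zero _).2 fun t ht => by
        rwa [quoπ_eq_zero_iff_self, Submodule.mem_bot] at ht, quoπ_surjective x⟩
    obtain ⟨e, he⟩ := exists_stalk_sigma_equiv G x {ξ₀} fun ξ hξ =>
      hsubs _ ξ x (hGs ξ) hx fun h => hξ (Finset.mem_singleton.2 (Subtype.ext h))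
    have hb2 : Function.Bijective (stalkₗ (proj G ξ₀) x) := by
      refine ⟨fun s t hst => ?_, fun t => ⟨stalkₗ (Sigma.ι G ξ₀) x t, proj_ι_self G ξ₀ x t⟩⟩
      obtain ⟨f, rfl⟩ := e.surjective s
      obtain ⟨g, rfl⟩ := e.surjective t
      have key : ∀ g, stalkₗ (proj G ξ₀) x (e g) = g ⟨ξ₀, Finset.mem_singleton_self _⟩ := fun g => by
        rw [he, map_sum, Finset.sum_eq_single (⟨ξ₀, Finset.mem_singleton_self _⟩ : ({ξ₀} : Finset _))
          (fun i _ hij => absurd (Subtype.ext (Finset.mem_singleton.1 i.2)) hij)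
          (fun h => absurd (Finset.mem_univ _) h), proj_ι_self]
      rw [key, key] at hst
      refine congrArg e (funext fun i => ?_)
      obtain ⟨i, hi⟩ := i
      obtain rfl := Finset.mem_singleton.1 hi
      exact hst
    have hc : stalkₗ (proj G ξ₀) x ∘ₗ stalkₗ φ x = stalkₗ (quoπ F x ⊥) x := LinearMap.ext fun t =>
      (congr($((stalk x).map_comp φ (proj G ξ₀)) t)).symm.trans
        (congr((stalk x).map $(hφ ξ₀) t))
    exact (Function.Bijective.of_comp_iff' hb2 _).1 (by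
      have := hb1
      rw [← hc] at this
      exact this)
  · refine bijective_of_subsingleton _ x (not_nontrivial_iff_subsingleton.1 fun hn => hxα ?_)
      (subsingleton_stalk_sigma G x fun ξ => hsubs _ ξ x (hGs ξ) hx fun h => hxα (h ▸ ξ.2))
    exact (hpos x).2 ⟨le_antisymm (hF.2 x hn) (by omega), hn⟩

theorem toQuot_eq_of_sheafFun_eq (hX : Cyc.IsSetup X δ) {k a b : ℤ} (hka : k ≤ a) (hkb : k - 1 ≤ b)
    (hba : b ≤ a) {M N : X.Modules} (hM : Cyc.CohLe δ k M) (hN : Cyc.CohLe δ k N)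
    (h : ∀ x, Cyc.sheafFun δ k M x = Cyc.sheafFun δ k N x) :
    Cyc.toK0CohQuot δ a b M = Cyc.toK0CohQuot δ a b N := by
  rw [toQuot_eq_cycleSheafPos hX hka hkb hba hM, toQuot_eq_cycleSheafPos hX hka hkb hba hN, funext h]

end Groth.ChowK
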