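import Groth.Agent.ChowK.DegFn
import Mathlib.Algebra.Algebra.Tower

/-!
# Degree functions of composition series with chosen bases

For a local ring `A` which is the localisation of a family of rings `R t` at primes `p t`, a composition
series of a finite length `A`-module with bases of its factors gives degree functions on lattices; any two
of them differ by the divisors of finitely many elements of the residue field.
-/

set_option autoImplicit false
universe u

namespace Groth.ChowK

variable {A : Type u} [CommRing A] [IsLocalRing A] {T : Type u} {R : T → Type u} [∀ t, CommRing (R t)]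
  [∀ t, Algebra (R t) A]

/-- Restriction of scalars to `R t`. -/
@[nolint unusedArguments]
def Res (A : Type u) [CommRing A] (R : T → Type u) [∀ t, CommRing (R t)] [∀ t, Algebra (R t) A]
    (_t : T) (V : Type u) : Type u := V

instance instAddCommGroupRes (t : T) (V : Type u) [I : AddCommGroup V] : AddCommGroup (Res A R t V) := I

instance instModuleRes (t : T) (V : Type u) [AddCommGroup V] [I : Module A V] : Module (R t) (Res A R t V) :=
  letI : Module A (Res A R t V) := I
  Module.compHom _ (algebraMap (R t) A)

/-- A linear map seen over `R t`. -/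
def rmap (t : T) {V W : Type u} [AddCommGroup V] [Module A V] [AddCommGroup W] [Module A W]
    (f : V →ₗ[A] W) : Res A R t V →ₗ[R t] Res A R t W where
  toFun := f
  map_add' := map_add f
  map_smul' r v := f.map_smul (algebraMap (R t) A r) v

/-- Families of functions on submodules. -/
abbrev Fns (A : Type u) [CommRing A] (R : T → Type u) [∀ t, CommRing (R t)] [∀ t, Algebra (R t) A]
    (V : Type u) [AddCommGroup V] [Module A V] : Type u :=
  ∀ t, Submodule (R t) (Res A R t V) → ℤ

/-- The prime of `R t` under the maximal ideal. -/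
abbrev pr (A : Type u) [CommRing A] [IsLocalRing A] (R : T → Type u) [∀ t, CommRing (R t)]
    [∀ t, Algebra (R t) A] (t : T) : Ideal (R t) :=
  (IsLocalRing.maximalIdeal A).comap (algebraMap (R t) A)

/-- The hypotheses: `A` is the localisation at a prime of coheight one. -/
structure LocData (A : Type u) [CommRing A] [IsLocalRing A] (R : T → Type u) [∀ t, CommRing (R t)]
    [∀ t, Algebra (R t) A] : Prop where
  noeth : ∀ t, IsNoetherianRing (R t)
  coht : ∀ t, ∀ q : Ideal (R t), q.IsPrime → pr A R t ≤ q → q ≠ pr A R t → q.IsMaximal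
  loc : ∀ t, ∀ a : A, ∃ s r : R t, s ∉ pr A R t ∧ algebraMap (R t) A s * a = algebraMap (R t) A r

/-- The residue field. -/
abbrev Res0 (A : Type u) [CommRing A] [IsLocalRing A] : Type u := IsLocalRing.ResidueField A

/-- The standard lattice of the residue field. -/
noncomputable def stdLat (A : Type u) [CommRing A] [IsLocalRing A] (R : T → Type u) [∀ t, CommRing (R t)]
    [∀ t, Algebra (R t) A] (t : T) : Submodule (R t) (Res A R t (Res0 A)) :=
  Submodule.span (R t) {(show Res A R t (Res0 A) from (1 : Res0 A))}

/-- The standard degree on lattices of the residue field. -/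
noncomputable def stdDeg (t : T) (L : Submodule (R t) (Res A R t (Res0 A))) : ℤ := relDeg (stdLat A R t) L

/-- The divisor of an element of the residue field, with its sign reversed. -/
noncomputable def dv (t : T) (f : Res0 A) : ℤ :=
  stdDeg (R := R) t ((stdLat A R t).map (rmap t (LinearMap.mulLeft A f)))

/-- The functions arising from composition series with bases. -/
inductive FD : ∀ (V : Type u) [AddCommGroup V] [Module A V], Fns A R V → Prop
  | zero {V : Type u} [AddCommGroup V] [Module A V] (h : Subsingleton V) : FD V fun _ _ => 0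
  | step {N V : Type u} [AddCommGroup N] [Module A N] [AddCommGroup V] [Module A V] (i : N →ₗ[A] V)
      (q : V →ₗ[A] Res0 A) (hi : Function.Injective i) (hq : Function.Surjective q) (hex : Function.Exact i q)
      {c : Fns A R N} (hc : FD N c) :
      FD V fun t L => c t (L.comap (rmap t i)) + stdDeg t (L.map (rmap t q))

variable {V : Type u} [AddCommGroup V] [Module A V]

theorem FD.congr {c d : Fns A R V} (h : FD V c) (e : ∀ t L, c t L = d t L) : FD V d :=
  (funext fun t => funext fun L => e t L : c = d) ▸ h

theorem FD.transport {c : Fns A R V} (h : FD V c) :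
    ∀ {W : Type u} [AddCommGroup W] [Module A W] (e : V ≃ₗ[A] W),
      FD W fun t L => c t (L.comap (rmap t e.toLinearMap)) := by
  induction h with
  | zero hV => exact fun e => FD.zero (haveI := hV; e.symm.toEquiv.subsingleton)
  | @step N V _ _ _ _ i q hi hq hex c hc _ =>
    intro W _ _ e
    refine (FD.step (e.toLinearMap.comp i) (q.comp e.symm.toLinearMap) (e.injective.comp hi)
      (hq.comp e.symm.surjective) (fun w => ?_) hc).congr fun t L => ?_
    · constructor
      · intro hw
        obtain ⟨n, hn⟩ := (hex _).1 hw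
        exact ⟨n, by simp [hn]⟩
      · rintro ⟨n, rfl⟩
        simp [hex.apply_apply_eq_zero]
    · congr 1
      congr 1
      ext z
      constructor
      · rintro ⟨w, hw, rfl⟩
        exact ⟨e.symm w, by rw [SetLike.mem_coe, Submodule.mem_comap]; exact (e.apply_symm_apply w).symm ▸ hw, rfl⟩
      · rintro ⟨v, hv, rfl⟩
        exact ⟨e v, hv, congrArg q (e.symm_apply_apply v)⟩

variable (hD : LocData A R)

include hD in
theorem supp_of_length {W : Type u} [AddCommGroup W] [Module A W] (h : Module.length A W ≠ ⊤) (t : T)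
    (hpow : ∃ n : ℕ, ∀ a ∈ IsLocalRing.maximalIdeal A ^ n, ∀ w : W, a • w = 0) :
    Supp {pr A R t} (Res A R t W) := by
  refine ⟨fun p hp => by rw [Set.mem_singleton_iff] at hp; subst hp; exact hD.coht t, fun w q hq hann => ?_⟩
  obtain ⟨n, hn⟩ := hpow
  refine ⟨_, rfl, fun r hr => hq.mem_of_pow_mem n (hann (r ^ n) ?_)⟩
  change algebraMap (R t) A (r ^ n) • (show W from w) = 0
  rw [map_pow]
  exact hn _ (Ideal.pow_mem_pow (show algebraMap (R t) A r ∈ IsLocalRing.maximalIdeal A from hr) n) _

omit [∀ t, CommRing (R t)] [∀ t, Algebra (R t) A] in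
theorem exists_kill {W : Type u} [AddCommGroup W] [Module A W] (h : Module.length A W ≠ ⊤) :
    ∃ n : ℕ, ∀ a ∈ IsLocalRing.maximalIdeal A ^ n, ∀ w : W, a • w = 0 := by
  have h' := isFiniteLength_iff_isNoetherian_isArtinian.1 (Module.length_ne_top_iff.1 h)
  have := h'.1
  have := h'.2
  let f : ℕ →o (Submodule A W)ᵒᵈ :=
    ⟨fun n => OrderDual.toDual ((IsLocalRing.maximalIdeal A ^ n) • (⊤ : Submodule A W)),
      fun i j hij => Submodule.smul_mono_left (Ideal.pow_le_pow_right hij)⟩
  obtain ⟨n, hn⟩ := IsArtinian.monotone_stabilizes f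
  refine ⟨n, fun a ha t => ?_⟩
  have e : (IsLocalRing.maximalIdeal A ^ n) • (⊤ : Submodule A W) =
      IsLocalRing.maximalIdeal A • ((IsLocalRing.maximalIdeal A ^ n) • (⊤ : Submodule A W)) := by
    rw [← Submodule.mul_smul, ← pow_succ']
    exact hn (n + 1) (Nat.le_succ n)
  have h0 := Submodule.eq_bot_of_le_smul_of_le_jacobson_bot (IsLocalRing.maximalIdeal A) _
    (IsNoetherian.noetherian _) e.le (by rw [IsLocalRing.jacobson_eq_maximalIdeal ⊥ bot_ne_top])
  have hmem : a • t ∈ (IsLocalRing.maximalIdeal A ^ n) • (⊤ : Submodule A W) :=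
    Submodule.smul_mem_smul ha Submodule.mem_top
  rwa [h0, Submodule.mem_bot] at hmem

omit [∀ t, CommRing (R t)] [∀ t, Algebra (R t) A] in
theorem length_res0 : Module.length A (Res0 A) = 1 :=
  Module.length_eq_one_iff.2
    (isSimpleModule_iff_quot_maximal.mpr ⟨_, IsLocalRing.maximalIdeal.isMaximal _, ⟨LinearEquiv.refl _ _⟩⟩)

include hD in
theorem supp_fl {W : Type u} [AddCommGroup W] [Module A W] (h : Module.length A W ≠ ⊤) (t : T) :
    Supp {pr A R t} (Res A R t W) :=
  supp_of_length hD h t (exists_kill h)

include hD in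
theorem isLat_stdLat (t : T) : IsLat {pr A R t} (stdLat A R t) := by
  refine ⟨Submodule.fg_span_singleton _, fun v p hp => ?_⟩
  rw [Set.mem_singleton_iff] at hp
  subst hp
  obtain ⟨a, ha⟩ := IsLocalRing.residue_surjective (show Res0 A from v)
  obtain ⟨s, r, hs, hsr⟩ := hD.loc t a
  refine ⟨s, hs, Submodule.mem_span_singleton.2 ⟨r, ?_⟩⟩
  change algebraMap (R t) A r • (1 : Res0 A) = algebraMap (R t) A s • (show Res0 A from v)
  rw [← ha, ← hsr, Algebra.smul_def, Algebra.smul_def, map_mul, mul_one]
  rfl

include hD in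
theorem isDeg_stdDeg (t : T) : IsDeg {pr A R t} (stdDeg (A := A) (R := R) t) :=
  haveI := hD.noeth t
  isDeg_relDeg (supp_fl hD (by rw [length_res0]; exact ENat.one_ne_top) t) (isLat_stdLat hD t)

omit [∀ t, CommRing (R t)] [∀ t, Algebra (R t) A] in
theorem length_exact {N W : Type u} [AddCommGroup N] [Module A N] [AddCommGroup W] [Module A W]
    {i : N →ₗ[A] V} {q : V →ₗ[A] W} (hi : Function.Injective i) (hq : Function.Surjective q)
    (hex : Function.Exact i q) : Module.length A V = Module.length A N + Module.length A W :=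
  Module.length_eq_add_of_exact i q hi hq hex

theorem rmap_exact (t : T) {N W : Type u} [AddCommGroup N] [Module A N] [AddCommGroup W] [Module A W]
    {i : N →ₗ[A] V} {q : V →ₗ[A] W} (hex : Function.Exact i q) :
    Function.Exact (rmap (R := R) t i) (rmap (R := R) t q) := hex

include hD in
theorem FD.length_ne_top {c : Fns A R V} (h : FD V c) : Module.length A V ≠ ⊤ := by
  clear hD
  induction h with
  | zero hV => rw [Module.length_eq_zero_iff.2 hV]; exact ENat.zero_ne_top
  | step i q hi hq hex hc ih =>
    rw [length_exact hi hq hex, length_res0]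
    exact WithTop.add_ne_top.2 ⟨ih, ENat.one_ne_top⟩

include hD in
theorem FD.isDeg {c : Fns A R V} (h : FD V c) (t : T) : IsDeg {pr A R t} (c t) := by
  induction h with
  | zero hV => exact haveI := hD.noeth t; haveI : Subsingleton (Res A R t _) := hV; isDeg_of_subsingleton
  | @step N W _ _ _ _ i q hi hq hex c hc ih =>
    have := hD.noeth t
    exact isDeg_ext (supp_fl hD ((FD.step i q hi hq hex hc).length_ne_top hD) t) hi hq (rmap_exact t hex) ih
      (isDeg_stdDeg hD t)

omit [∀ t, CommRing (R t)] [∀ t, Algebra (R t) A] in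
theorem exists_surjective_res0 (h : Module.length A V ≠ ⊤) [Nontrivial V] :
    ∃ q : V →ₗ[A] Res0 A, Function.Surjective q := by
  have h' := isFiniteLength_iff_isNoetherian_isArtinian.1 (Module.length_ne_top_iff.1 h)
  have := h'.1
  exact Groth.KTheory.Devissage.exists_surjective_of_length_eq_one length_res0

omit [∀ t, CommRing (R t)] [∀ t, Algebra (R t) A] in
theorem length_ker {q : V →ₗ[A] Res0 A} (hq : Function.Surjective q) :
    Module.length A V = Module.length A (LinearMap.ker q) + 1 := by
  rw [← length_res0 (A := A)]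
  exact length_exact (Submodule.subtype_injective _) hq (LinearMap.exact_subtype_ker_map q)

omit [∀ t, CommRing (R t)] [∀ t, Algebra (R t) A] in
theorem exists_length_eq (h : Module.length A V ≠ ⊤) : ∃ n : ℕ, Module.length A V = n :=
  ⟨_, (ENat.coe_toNat h).symm⟩

variable (R) in
theorem exists_fd : ∀ (n : ℕ) {V : Type u} [AddCommGroup V] [Module A V], Module.length A V = n →
    ∃ c : Fns A R V, FD V c := by
  intro n
  induction n with
  | zero => exact fun h => ⟨_, FD.zero (Module.length_eq_zero_iff.1 (by simpa using h))⟩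
  | succ n ih =>
    intro V _ _ h
    have hne : Module.length A V ≠ ⊤ := by rw [h]; exact ENat.coe_ne_top _
    have : Nontrivial V := not_subsingleton_iff_nontrivial.1 fun hs => by
      rw [Module.length_eq_zero_iff.2 hs] at h
      exact Nat.succ_ne_zero n (by exact_mod_cast h.symm)
    obtain ⟨q, hq⟩ := exists_surjective_res0 hne
    have hl := length_ker hq
    rw [h, Nat.cast_succ] at hl
    obtain ⟨c, hc⟩ := ih ((ENat.addLECancellable_of_ne_top ENat.one_ne_top).inj_left.1 hl.symm)
    exact ⟨_, FD.step _ q (Submodule.subtype_injective _) hq (LinearMap.exact_subtype_ker_map q) hc⟩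

omit [IsLocalRing A] [∀ t, CommRing (R t)] [∀ t, Algebra (R t) A] in
/-- A normal form of an extension. -/
theorem exists_ker_equiv {N W : Type u} [AddCommGroup N] [Module A N] [AddCommGroup W] [Module A W]
    {i : N →ₗ[A] V} {q : V →ₗ[A] W} (hi : Function.Injective i) (hex : Function.Exact i q) :
    ∃ e : N ≃ₗ[A] LinearMap.ker q, ∀ n, (e n : V) = i n :=
  ⟨(LinearEquiv.ofInjective i hi).trans (LinearEquiv.ofEq _ _ (LinearMap.exact_iff.1 hex).symm), fun _ => rfl⟩

theorem FD.normal {c : Fns A R V} (h : FD V c) :
    (Subsingleton V ∧ ∀ t L, c t L = 0) ∨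
      ∃ (q : V →ₗ[A] Res0 A) (d : Fns A R (LinearMap.ker q)), Function.Surjective q ∧ FD (LinearMap.ker q) d ∧
        ∀ t L, c t L = d t (L.comap (rmap t (LinearMap.ker q).subtype)) + stdDeg t (L.map (rmap t q)) := by
  cases h with
  | zero hV => exact Or.inl ⟨hV, fun _ _ => rfl⟩
  | step i q hi hq hex hc =>
    obtain ⟨e, he⟩ := exists_ker_equiv hi hex
    refine Or.inr ⟨q, _, hq, hc.transport e, fun t L => ?_⟩
    refine congrArg₂ (· + ·) (congrArg _ ?_) rfl
    ext z
    rw [Submodule.mem_comap, Submodule.mem_comap]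
    exact iff_of_eq (congrArg (fun v => v ∈ L) (he z).symm)

include hD in
theorem exists_isLat (h : Module.length A V ≠ ⊤) (t : T) :
    ∃ L : Submodule (R t) (Res A R t V), IsLat {pr A R t} L := by
  classical
  have h' := isFiniteLength_iff_isNoetherian_isArtinian.1 (Module.length_ne_top_iff.1 h)
  have := h'.1
  obtain ⟨G, hG⟩ := (IsNoetherian.noetherian (⊤ : Submodule A V))
  refine ⟨Submodule.span (R t) (show Set (Res A R t V) from (G : Set V)), Submodule.fg_span G.finite_toSet,
    fun v p hp => ?_⟩
  rw [Set.mem_singleton_iff] at hp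
  subst hp
  have hprime : (pr A R t).IsPrime := Ideal.comap_isPrime _ _
  suffices key : ∀ w : V, w ∈ Submodule.span A (G : Set V) →
      ∃ s, s ∉ pr A R t ∧ s • (show Res A R t V from w) ∈
        Submodule.span (R t) (show Set (Res A R t V) from (G : Set V)) from key v (hG.symm ▸ Submodule.mem_top)
  intro w hv
  induction hv using Submodule.span_induction with
  | mem g hg => exact ⟨1, fun h1 => hprime.ne_top ((Ideal.eq_top_iff_one _).2 h1), by
      rw [one_smul]; exact Submodule.subset_span hg⟩
  | zero => exact ⟨1, fun h1 => hprime.ne_top ((Ideal.eq_top_iff_one _).2 h1), by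
      rw [one_smul]; exact zero_mem _⟩
  | add a b _ _ ha hb =>
    obtain ⟨s, hs, h1⟩ := ha
    obtain ⟨s', hs', h2⟩ := hb
    refine ⟨s * s', hprime.mul_notMem hs hs', ?_⟩
    have e : (s * s') • (show Res A R t V from a + b) =
        s' • s • (show Res A R t V from a) + s • s' • (show Res A R t V from b) := by
      rw [← mul_smul, ← mul_smul, mul_comm s' s, ← smul_add]
      rfl
    exact e ▸ add_mem (Submodule.smul_mem _ s' h1) (Submodule.smul_mem _ s h2)
  | smul a b _ hb =>
    obtain ⟨s, hs, h1⟩ := hb
    obtain ⟨s', r, hs', he⟩ := hD.loc t a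
    refine ⟨s' * s, hprime.mul_notMem hs' hs, ?_⟩
    have e : (s' * s) • (show Res A R t V from a • b) = r • s • (show Res A R t V from b) := by
      change algebraMap (R t) A (s' * s) • a • b = algebraMap (R t) A r • algebraMap (R t) A s • b
      rw [map_mul, smul_smul, smul_smul, ← he, mul_right_comm]
    exact e ▸ Submodule.smul_mem _ r h1

/-- Equivalence up to divisors of finitely many elements. -/
def Equivd (c c' : Fns A R V) : Prop :=
  ∃ z : List (Res0 A × ℤ), (∀ p ∈ z, p.1 ≠ 0) ∧ ∀ (t : T) (L : Submodule (R t) (Res A R t V)),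
    IsLat {pr A R t} L → c t L - c' t L = (z.map fun p => p.2 * dv (R := R) t p.1).sum

theorem Equivd.refl (c : Fns A R V) : Equivd c c := ⟨[], by simp, fun t L _ => by simp⟩

theorem Equivd.symm {c c' : Fns A R V} (h : Equivd c c') : Equivd c' c := by
  obtain ⟨z, hz, he⟩ := h
  refine ⟨z.map fun p => (p.1, -p.2), by
    intro p hp
    obtain ⟨q, hq, rfl⟩ := List.mem_map.1 hp
    exact hz q hq, fun t L hL => ?_⟩
  have : ((z.map fun p => (p.1, -p.2)).map fun p => p.2 * dv (R := R) t p.1).sum =
      -((z.map fun p => p.2 * dv (R := R) t p.1).sum) := by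
    clear hz he
    induction z with
    | nil => simp
    | cons a l ih => simp only [List.map_cons, List.sum_cons, ih]; ring
  rw [this, ← he t L hL]
  omega

theorem Equivd.trans {c c' c'' : Fns A R V} (h : Equivd c c') (h' : Equivd c' c'') : Equivd c c'' := by
  obtain ⟨z, hz, he⟩ := h
  obtain ⟨z', hz', he'⟩ := h'
  refine ⟨z ++ z', fun p hp => (List.mem_append.1 hp).elim (hz p) (hz' p), fun t L hL => ?_⟩
  rw [List.map_append, List.sum_append, ← he t L hL, ← he' t L hL]
  omega

include hD in
/-- Changing the basis of the top factor. -/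
theorem stdDeg_scale (t : T) {f : Res0 A} (hf : f ≠ 0) {L : Submodule (R t) (Res A R t (Res0 A))}
    (hL : IsLat {pr A R t} L) :
    stdDeg t (L.map (rmap t (LinearMap.mulLeft A f))) - stdDeg t L = dv (R := R) t f := by
  have := hD.noeth t
  let m : Res A R t (Res0 A) →ₗ[R t] Res A R t (Res0 A) := rmap t (LinearMap.mulLeft A f)
  have hm : Function.Bijective m := mulLeft_bijective₀ f hf
  have h1 : IsDeg {pr A R t} fun L => (0 : ℤ) + stdDeg t (L.map m) :=
    isDeg_ext (V' := PUnit.{u + 1}) (i := 0) (c := fun _ => 0)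
      (supp_fl hD (by rw [length_res0]; exact ENat.one_ne_top) t)
      (Function.injective_of_subsingleton _) hm.2
      (fun z => ⟨fun hz => ⟨0, by rw [map_zero]; exact (hm.1 (hz.trans (map_zero m).symm)).symm⟩,
        fun ⟨_, hy⟩ => by rw [← hy, LinearMap.zero_apply, map_zero]⟩) isDeg_of_subsingleton (isDeg_stdDeg hD t)
  have := h1.sub_eq (isDeg_stdDeg hD t) hL (isLat_stdLat hD t)
  simp only [zero_add] at this
  rw [show stdDeg t (stdLat A R t) = 0 from relDeg_self _, sub_zero] at this
  exact this

include hD in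
/-- A composition series whose top factor is given by `q`, compared with any other. -/
theorem FD.equivd : ∀ (n : ℕ) {V : Type u} [AddCommGroup V] [Module A V] (c c' : Fns A R V),
    Module.length A V = n → FD V c → FD V c' → Equivd c c' := by
  intro n
  induction n with
  | zero =>
    intro V _ _ c c' h hc hc'
    have hs : Subsingleton V := Module.length_eq_zero_iff.1 (by simpa using h)
    have key : ∀ {d : Fns A R V}, FD V d → ∀ t L, d t L = 0 := fun {d} hd t L => by
      rcases hd.normal with ⟨-, h0⟩ | ⟨q, -, hq, -, -⟩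
      · exact h0 t L
      · obtain ⟨v, hv⟩ := hq 1
        rw [Subsingleton.elim v 0, map_zero] at hv
        exact absurd hv zero_ne_one
    exact ⟨[], by simp, fun t L _ => by simp [key hc, key hc']⟩
  | succ n ih =>
    intro V _ _ c c' h hc hc'
    have hne : Module.length A V ≠ ⊤ := by rw [h]; exact ENat.coe_ne_top _
    have hns : ¬ Subsingleton V := fun hs => by
      rw [Module.length_eq_zero_iff.2 hs] at h
      exact Nat.succ_ne_zero n (by exact_mod_cast h.symm)
    rcases hc.normal with ⟨hs, -⟩ | ⟨q, d, hq, hd, hcd⟩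
    · exact absurd hs hns
    rcases hc'.normal with ⟨hs, -⟩ | ⟨q', d', hq', hd', hcd'⟩
    · exact absurd hs hns
    have hlen : ∀ {p : V →ₗ[A] Res0 A}, Function.Surjective p → Module.length A (LinearMap.ker p) = n :=
      fun {p} hp => by
        have hl := length_ker hp
        rw [h, Nat.cast_succ] at hl
        exact (ENat.addLECancellable_of_ne_top ENat.one_ne_top).inj_left.1 hl.symm
    by_cases hker : LinearMap.ker q = LinearMap.ker q'
    · obtain ⟨v₀, hv₀⟩ := hq 1
      have hqq : q' = (LinearMap.mulLeft A (q' v₀)).comp q := by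
        refine LinearMap.ext fun v => ?_
        obtain ⟨a, ha⟩ := IsLocalRing.residue_surjective (q v)
        have hmem : v - a • v₀ ∈ LinearMap.ker q := by
          rw [LinearMap.mem_ker, map_sub, map_smul, hv₀, Algebra.smul_def, mul_one, ← ha]
          exact sub_self _
        rw [hker, LinearMap.mem_ker, map_sub, sub_eq_zero, map_smul, Algebra.smul_def] at hmem
        rw [hmem, LinearMap.comp_apply, LinearMap.mulLeft_apply, ← ha, mul_comm]
        rfl
      have hf : q' v₀ ≠ 0 := fun h0 => by
        have : v₀ ∈ LinearMap.ker q := hker.symm ▸ LinearMap.mem_ker.2 h0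
        rw [LinearMap.mem_ker, hv₀] at this
        exact one_ne_zero this
      let e : LinearMap.ker q' ≃ₗ[A] LinearMap.ker q := LinearEquiv.ofEq _ _ hker.symm
      obtain ⟨z, hz, hze⟩ := ih d _ (hlen hq) hd (hd'.transport e)
      refine ⟨(q' v₀, -1) :: z, fun p hp => (List.mem_cons.1 hp).elim (fun e => e ▸ hf) (hz p), fun t L hL => ?_⟩
      have := hD.noeth t
      rw [List.map_cons, List.sum_cons, ← hze t (L.comap (rmap t (LinearMap.ker q).subtype))
        (hL.comap (i := rmap t (LinearMap.ker q).subtype) (Submodule.subtype_injective _)),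
        ← stdDeg_scale hD t hf (hL.map (q := rmap t q) hq), hcd, hcd']
      have e1 : (L.map (rmap t q)).map (rmap t (LinearMap.mulLeft A (q' v₀))) = L.map (rmap t q') := by
        rw [← Submodule.map_comp]
        congr 1
        exact LinearMap.ext fun v => (congr($hqq v)).symm
      have e2 : (L.comap (rmap t (LinearMap.ker q).subtype)).comap (rmap t e.toLinearMap) =
          L.comap (rmap t (LinearMap.ker q').subtype) := by
        ext z
        exact Iff.rfl
      simp only
      rw [e1, e2]
      ring
    -- different kernels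
    have htop : ∀ {p p' : V →ₗ[A] Res0 A}, Function.Surjective p → Function.Surjective p' →
        LinearMap.ker p ≠ LinearMap.ker p' → ∃ w, p w = 0 ∧ p' w = 1 := by
      intro p p' hp hp' hne'
      have : IsSimpleModule A (Res0 A) := Module.length_eq_one_iff.1 length_res0
      have hnle : ¬ LinearMap.ker p ≤ LinearMap.ker p' := fun hle => hne'
        (((LinearMap.isCoatom_ker_of_surjective hp).le_iff.1 hle).resolve_left
          (LinearMap.isCoatom_ker_of_surjective hp').1).symm
      obtain ⟨w, hw, hw'⟩ := SetLike.not_le_iff_exists.1 hnle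
      obtain ⟨a, ha⟩ := IsLocalRing.residue_surjective (p' w)⁻¹
      refine ⟨a • w, by rw [map_smul, LinearMap.mem_ker.1 hw, smul_zero], ?_⟩
      rw [map_smul, Algebra.smul_def]
      change IsLocalRing.residue A a * p' w = 1
      rw [ha, inv_mul_cancel₀ hw']
    obtain ⟨w', hw'0, hw'1⟩ := htop hq hq' hker
    obtain ⟨w, hw0, hw1⟩ := htop hq' hq (Ne.symm hker)
    let Pm : Submodule A V := LinearMap.ker q ⊓ LinearMap.ker q'
    have hPne : Module.length A Pm ≠ ⊤ :=
      ne_top_of_le_ne_top hne (Module.length_le_of_injective Pm.subtype (Submodule.subtype_injective _))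
    obtain ⟨m, hm⟩ := exists_length_eq hPne
    obtain ⟨cP, hcP⟩ := exists_fd R m hm
    let p₁ : LinearMap.ker q →ₗ[A] Res0 A := q'.comp (LinearMap.ker q).subtype
    let p₂ : LinearMap.ker q' →ₗ[A] Res0 A := q.comp (LinearMap.ker q').subtype
    let i₁ : Pm →ₗ[A] LinearMap.ker q := Submodule.inclusion inf_le_left
    let i₂ : Pm →ₗ[A] LinearMap.ker q' := Submodule.inclusion inf_le_right
    have hp₁ : Function.Surjective p₁ := fun k => by
      obtain ⟨a, ha⟩ := IsLocalRing.residue_surjective k
      refine ⟨a • ⟨w', hw'0⟩, ?_⟩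
      change q' (a • w') = k
      rw [map_smul, hw'1, Algebra.smul_def, mul_one]
      exact ha
    have hp₂ : Function.Surjective p₂ := fun k => by
      obtain ⟨a, ha⟩ := IsLocalRing.residue_surjective k
      refine ⟨a • ⟨w, hw0⟩, ?_⟩
      change q (a • w) = k
      rw [map_smul, hw1, Algebra.smul_def, mul_one]
      exact ha
    have hx₁ : Function.Exact i₁ p₁ := fun z =>
      ⟨fun hz => ⟨⟨z.1, z.2, hz⟩, rfl⟩, fun ⟨y, hy⟩ => by rw [← hy]; exact y.2.2⟩
    have hx₂ : Function.Exact i₂ p₂ := fun z =>
      ⟨fun hz => ⟨⟨z.1, hz, z.2⟩, rfl⟩, fun ⟨y, hy⟩ => by rw [← hy]; exact y.2.1⟩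
    have hd₁ := FD.step i₁ p₁ (Submodule.inclusion_injective _) hp₁ hx₁ hcP
    have hd₂ := FD.step i₂ p₂ (Submodule.inclusion_injective _) hp₂ hx₂ hcP
    obtain ⟨z₁, hz₁, he₁⟩ := ih d _ (hlen hq) hd hd₁
    obtain ⟨z₂, hz₂, he₂⟩ := ih _ d' (hlen hq') hd₂ hd'
    have hX₁ := FD.step _ q (Submodule.subtype_injective _) hq (LinearMap.exact_subtype_ker_map q) hd₁
    have hX₂ := FD.step _ q' (Submodule.subtype_injective _) hq' (LinearMap.exact_subtype_ker_map q') hd₂
    refine ⟨z₁ ++ z₂, fun p hp => (List.mem_append.1 hp).elim (hz₁ p) (hz₂ p), fun t L hL => ?_⟩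
    have := hD.noeth t
    rw [List.map_append, List.sum_append,
      ← he₁ t (L.comap (rmap t (LinearMap.ker q).subtype))
        (hL.comap (i := rmap t (LinearMap.ker q).subtype) (Submodule.subtype_injective _)),
      ← he₂ t (L.comap (rmap t (LinearMap.ker q').subtype))
        (hL.comap (i := rmap t (LinearMap.ker q').subtype) (Submodule.subtype_injective _)), hcd, hcd']
    -- a lattice adapted to both series
    obtain ⟨LP, hLP⟩ := exists_isLat hD hPne t
    let iP : Res A R t Pm →ₗ[R t] Res A R t V := rmap t Pm.subtype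
    let L₀ : Submodule (R t) (Res A R t V) :=
      Submodule.span (R t) {(show Res A R t V from w)} ⊔ Submodule.span (R t) {(show Res A R t V from w')} ⊔
        LP.map iP
    have hprime : (pr A R t).IsPrime := Ideal.comap_isPrime _ _
    have hL₀ : IsLat {pr A R t} L₀ := by
      refine ⟨((Submodule.fg_span_singleton _).sup (Submodule.fg_span_singleton _)).sup (hLP.1.map iP),
        fun v p hp => ?_⟩
      rw [Set.mem_singleton_iff] at hp
      subst hp
      obtain ⟨s₁, hs₁, h₁⟩ := (isLat_stdLat hD t).2 (rmap t q v) _ rfl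
      obtain ⟨r₁, hr₁⟩ := Submodule.mem_span_singleton.1 h₁
      obtain ⟨s₂, hs₂, h₂⟩ := (isLat_stdLat hD t).2 (rmap t q' v) _ rfl
      obtain ⟨r₂, hr₂⟩ := Submodule.mem_span_singleton.1 h₂
      let y : Res A R t V := (s₁ * s₂) • v - (s₂ * r₁) • (show Res A R t V from w) -
        (s₁ * r₂) • (show Res A R t V from w')
      have hy1 : rmap t q y = 0 := by
        simp only [y, map_sub, map_smul]
        rw [show rmap (R := R) t q w = (1 : Res0 A) from hw1, show rmap (R := R) t q w' = (0 : Res0 A) from hw'0,
          mul_comm s₁ s₂, mul_smul, mul_smul, hr₁, sub_self, zero_sub, neg_eq_zero]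
        exact smul_zero _
      have hy2 : rmap t q' y = 0 := by
        simp only [y, map_sub, map_smul]
        rw [show rmap (R := R) t q' w = (0 : Res0 A) from hw0, show rmap (R := R) t q' w' = (1 : Res0 A) from hw'1,
          mul_smul, mul_smul s₁ r₂, hr₂]
        erw [smul_zero, sub_zero, sub_self]
      obtain ⟨s₃, hs₃, h₃⟩ := hLP.2 (show Res A R t Pm from ⟨(show V from y), hy1, hy2⟩) _ rfl
      refine ⟨s₃ * (s₁ * s₂), hprime.mul_notMem hs₃ (hprime.mul_notMem hs₁ hs₂), ?_⟩
      have e : (s₃ * (s₁ * s₂)) • v = s₃ • y + ((s₃ * (s₂ * r₁)) • (show Res A R t V from w) +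
          (s₃ * (s₁ * r₂)) • (show Res A R t V from w')) := by
        simp only [y, smul_sub, ← mul_smul]
        abel
      rw [e]
      refine add_mem (Submodule.mem_sup_right ⟨_, h₃, map_smul iP s₃ _⟩)
        (Submodule.mem_sup_left (add_mem (Submodule.mem_sup_left ?_) (Submodule.mem_sup_right ?_)))
      · exact Submodule.smul_mem _ _ (Submodule.mem_span_singleton_self _)
      · exact Submodule.smul_mem _ _ (Submodule.mem_span_singleton_self _)
    have hdec : ∀ {v}, v ∈ L₀ → ∃ r r' : R t, ∃ u : Res A R t Pm, u ∈ LP ∧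
        v = r • (show Res A R t V from w) + r' • (show Res A R t V from w') + iP u := by
      intro v hv
      obtain ⟨a, ha, b, ⟨u, hu, hub⟩, rfl⟩ := Submodule.mem_sup.1 hv
      obtain ⟨c, hc, e, he, rfl⟩ := Submodule.mem_sup.1 ha
      obtain ⟨r, rfl⟩ := Submodule.mem_span_singleton.1 hc
      obtain ⟨r', rfl⟩ := Submodule.mem_span_singleton.1 he
      exact ⟨r, r', u, hu, by rw [hub]⟩
    have hqv : ∀ (p : V →ₗ[A] Res0 A) (r r' : R t) (u : Res A R t Pm), (∀ z : Pm, p z = 0) →
        rmap t p (r • (show Res A R t V from w) + r' • (show Res A R t V from w') + iP u) =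
          r • (show Res A R t (Res0 A) from p w) + r' • (show Res A R t (Res0 A) from p w') := by
      intro p r r' u hp
      rw [map_add, map_add, map_smul, map_smul, show rmap t p (iP u) = 0 from hp u, add_zero]
      rfl
    have hmapq : L₀.map (rmap t q) = stdLat A R t := by
      refine le_antisymm ?_ (Submodule.span_le.2 ?_)
      · rintro _ ⟨v, hv, rfl⟩
        obtain ⟨r, r', u, hu, rfl⟩ := hdec hv
        rw [hqv q r r' u fun z => z.2.1, hw1, hw'0]
        refine add_mem (Submodule.smul_mem _ _ (Submodule.mem_span_singleton_self _)) ?_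
        rw [show r' • (show Res A R t (Res0 A) from (0 : Res0 A)) = 0 from smul_zero _]
        exact zero_mem _
      · rintro _ rfl
        exact ⟨_, Submodule.mem_sup_left (Submodule.mem_sup_left (Submodule.mem_span_singleton_self _)), hw1⟩
    have hmapq' : L₀.map (rmap t q') = stdLat A R t := by
      refine le_antisymm ?_ (Submodule.span_le.2 ?_)
      · rintro _ ⟨v, hv, rfl⟩
        obtain ⟨r, r', u, hu, rfl⟩ := hdec hv
        rw [hqv q' r r' u fun z => z.2.2, hw0, hw'1]
        refine add_mem ?_ (Submodule.smul_mem _ _ (Submodule.mem_span_singleton_self _))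
        rw [show r • (show Res A R t (Res0 A) from (0 : Res0 A)) = 0 from smul_zero _]
        exact zero_mem _
      · rintro _ rfl
        exact ⟨_, Submodule.mem_sup_left (Submodule.mem_sup_right (Submodule.mem_span_singleton_self _)), hw'1⟩
    have hmap₁ : (L₀.comap (rmap t (LinearMap.ker q).subtype)).map (rmap t p₁) = stdLat A R t := by
      refine le_antisymm ?_ (Submodule.span_le.2 ?_)
      · rintro _ ⟨v, hv, rfl⟩
        exact hmapq'.le ⟨_, hv, rfl⟩
      · rintro _ rfl
        exact ⟨(show Res A R t (LinearMap.ker q) from ⟨w', hw'0⟩),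
          Submodule.mem_sup_left (Submodule.mem_sup_right (Submodule.mem_span_singleton_self _)), hw'1⟩
    have hmap₂ : (L₀.comap (rmap t (LinearMap.ker q').subtype)).map (rmap t p₂) = stdLat A R t := by
      refine le_antisymm ?_ (Submodule.span_le.2 ?_)
      · rintro _ ⟨v, hv, rfl⟩
        exact hmapq.le ⟨_, hv, rfl⟩
      · rintro _ rfl
        exact ⟨(show Res A R t (LinearMap.ker q') from ⟨w, hw0⟩),
          Submodule.mem_sup_left (Submodule.mem_sup_left (Submodule.mem_span_singleton_self _)), hw1⟩
    have key := (hX₁.isDeg hD t).sub_eq (hX₂.isDeg hD t) hL hL₀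
    simp only [hmapq, hmapq', hmap₁, hmap₂] at key
    have hcc : (L₀.comap (rmap t (LinearMap.ker q).subtype)).comap (rmap t i₁) =
        (L₀.comap (rmap t (LinearMap.ker q').subtype)).comap (rmap t i₂) := by
      ext z
      exact Iff.rfl
    rw [hcc] at key
    simp only
    omega

include hD in
/-- Extensions of composition series. -/
theorem FD.ext {V'' : Type u} [AddCommGroup V''] [Module A V''] {c'' : Fns A R V''} (h'' : FD V'' c'') :
    ∀ {V' V : Type u} [AddCommGroup V'] [Module A V'] [AddCommGroup V] [Module A V] (i : V' →ₗ[A] V)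
      (q : V →ₗ[A] V'') {c' : Fns A R V'}, Function.Injective i → Function.Surjective q → Function.Exact i q →
      FD V' c' → FD V fun t L => c' t (L.comap (rmap t i)) + c'' t (L.map (rmap t q)) := by
  clear hD
  induction h'' with
  | @zero W _ _ hW =>
    intro V' V _ _ _ _ i q c' hi hq hex hc'
    have hsur : Function.Surjective i := fun v => (hex v).1 (@Subsingleton.elim _ hW _ _)
    refine (hc'.transport (LinearEquiv.ofBijective i ⟨hi, hsur⟩)).congr fun t L => ?_
    rw [add_zero]
    rfl
  | @step N W _ _ _ _ j p hj hp hjp c hc ih =>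
    intro V' V _ _ _ _ i q c' hi hq hex hc'
    let K := LinearMap.ker (p.comp q)
    obtain ⟨e, he⟩ := exists_ker_equiv hj hjp
    let i' : V' →ₗ[A] K := i.codRestrict K fun v => by
      rw [LinearMap.mem_ker, LinearMap.comp_apply, hex.apply_apply_eq_zero, map_zero]
    let q' : K →ₗ[A] N := e.symm.toLinearMap.comp
      ((q.comp K.subtype).codRestrict (LinearMap.ker p) fun z => z.2)
    have hjq : ∀ z : K, j (q' z) = q z.1 := fun z => by
      rw [← he]
      exact congrArg Subtype.val (e.apply_symm_apply _)
    have hq' : Function.Surjective q' := fun n => by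
      obtain ⟨v, hv⟩ := hq (j n)
      refine ⟨⟨v, by rw [LinearMap.mem_ker, LinearMap.comp_apply, hv, hjp.apply_apply_eq_zero]⟩, hj ?_⟩
      rw [hjq]
      exact hv
    have hex' : Function.Exact i' q' := fun z => by
      constructor
      · intro hz
        obtain ⟨v, hv⟩ := (hex z.1).1 (by rw [← hjq, hz, map_zero])
        exact ⟨v, Subtype.ext hv⟩
      · rintro ⟨v, rfl⟩
        exact hj (by rw [hjq, map_zero]; exact hex.apply_apply_eq_zero v)
    have hi' : Function.Injective i' := fun a b h => hi (congrArg Subtype.val h)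
    refine (FD.step K.subtype (p.comp q) (Submodule.subtype_injective _) (hp.comp hq)
      (LinearMap.exact_subtype_ker_map _) (ih i' q' hi' hq' hex' hc')).congr fun t L => ?_
    have e1 : (L.comap (rmap t K.subtype)).comap (rmap t i') = L.comap (rmap t i) := by
      ext z
      exact Iff.rfl
    have e2 : (L.comap (rmap t K.subtype)).map (rmap t q') = (L.map (rmap t q)).comap (rmap t j) := by
      ext z
      constructor
      · rintro ⟨y, hy, rfl⟩
        exact ⟨_, hy, (hjq y).symm⟩
      · rintro ⟨v, hv, hvz⟩
        have hvK : (show V from v) ∈ K := by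
          rw [LinearMap.mem_ker, LinearMap.comp_apply, show q v = j z from hvz, hjp.apply_apply_eq_zero]
        exact ⟨(show Res A R t K from ⟨v, hvK⟩), hv, hj ((hjq ⟨v, hvK⟩).trans hvz)⟩
    have e3 : L.map (rmap t (p.comp q)) = (L.map (rmap t q)).map (rmap t p) := by
      rw [← Submodule.map_comp]
      rfl
    rw [e1, e2, e3, add_assoc]

end Groth.ChowK
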