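import Groth.Agent.ChowK.Sums
import Groth.Agent.QCohMod.SubMod

/-!
# Submodules cut out by a condition on the germs at one point, and quotients by them
-/

set_option autoImplicit false
universe u

open CategoryTheory CategoryTheory.Limits AlgebraicGeometry TopologicalSpace

namespace Groth.ChowK

open Groth.QCohMod Groth.KTheory.LocFree

variable {X : Scheme.{u}}

/-- The map on local rings induced by a specialisation. -/
noncomputable abbrev spR {ξ x : X} (h : ξ ⤳ x) : X.presheaf.stalk x →+* X.presheaf.stalk ξ :=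
  (X.presheaf.stalkSpecializes h).hom

/-- The map on stalks induced by a specialisation. -/
noncomputable def sp (M : X.Modules) {ξ x : X} (h : ξ ⤳ x) : M.presheaf.stalk x →+ M.presheaf.stalk ξ :=
  (M.presheaf.stalkSpecializes h).hom

theorem sp_germ (M : X.Modules) {ξ x : X} (h : ξ ⤳ x) {U : X.Opens} (hx : x ∈ U) (m : Γ(M, U)) :
    sp M h (germ M x hx m) = germ M ξ (h.mem_open U.2 hx) m := by
  unfold sp
  exact TopCat.Presheaf.germ_stalkSpecializes_apply M.presheaf hx h m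

theorem sp_smul (M : X.Modules) {ξ x : X} (h : ξ ⤳ x) (r : X.presheaf.stalk x) (t : M.presheaf.stalk x) :
    sp M h (r • t) = spR h r • sp M h t := by
  obtain ⟨U, hxU, r, rfl⟩ := TopCat.Presheaf.exists_germ_eq X.presheaf r
  obtain ⟨V, hxV, m, rfl⟩ := exists_germ M x t
  have hxW : x ∈ U ⊓ V := ⟨hxU, hxV⟩
  rw [← TopCat.Presheaf.germ_res_apply X.presheaf (homOfLE (inf_le_left : U ⊓ V ≤ U)) x hxW r,
    ← germ_res M (inf_le_right : U ⊓ V ≤ V) x hxW m, ← germ_smul, sp_germ, sp_germ, germ_smul]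
  congr 1
  exact (TopCat.Presheaf.germ_stalkSpecializes_apply X.presheaf hxW h _).symm

theorem sp_natural {M N : X.Modules} (φ : M ⟶ N) {ξ x : X} (h : ξ ⤳ x) (t : M.presheaf.stalk x) :
    sp N h (stalkₗ φ x t) = stalkₗ φ ξ (sp M h t) := by
  obtain ⟨V, hxV, m, rfl⟩ := exists_germ M x t
  rw [sp_germ M h hxV m]
  refine ((congrArg (sp N h) (stalk_map_germ φ x hxV m)).trans (sp_germ N h hxV _)).trans ?_
  exact (stalk_map_germ φ ξ (h.mem_open V.2 hxV) m).symm

variable (F : X.Modules) (ξ : X) (N : Submodule (X.presheaf.stalk ξ) (F.presheaf.stalk ξ))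

/-- The sections whose germ at `ξ` lies in `N`. -/
noncomputable def germSub : SubMod F where
  mem W :=
    { carrier := {s | ∀ h : ξ ∈ W, germ F ξ h s ∈ N}
      add_mem' := fun {s t} hs ht h => by
        rw [map_add]; exact N.add_mem (hs h) (ht h)
      zero_mem' := fun h => by rw [map_zero]; exact N.zero_mem
      smul_mem' := fun r s hs h => by
        rw [germ_smul]; exact N.smul_mem _ (hs h) }
  res_mem {W W'} hle s hs h := by
    rw [germ_res F hle ξ h]; exact hs (hle h)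
  local_mem {W} s hs h := by
    obtain ⟨W', hle, hW', hmem⟩ := hs ξ h
    rw [← germ_res F hle ξ hW' s]; exact hmem hW'

/-- The quotient of `F` by the sections with germ in `N`. -/
noncomputable abbrev quo : X.Modules := cokernel (germSub F ξ N).ι

/-- The projection. -/
noncomputable abbrev quoπ : F ⟶ quo F ξ N := cokernel.π (germSub F ξ N).ι

theorem isCoh_germSub [IsLocallyNoetherian X] (hF : Coh.IsCoh F)
    (hN : ∃ n : ℕ, ∀ a ∈ IsLocalRing.maximalIdeal (X.presheaf.stalk ξ) ^ n, ∀ t, a • t ∈ N) :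
    Coh.IsCoh (germSub F ξ N).toMod := by
  have := hF.1
  refine SubMod.isQCoh_toMod (P := germSub F ξ N) fun x _ => ?_
  obtain ⟨A, hA, hx⟩ := exists_affine_mem x
  refine ⟨A, le_top, hx, hA, ?_, fun f s hs => ?_⟩
  · have := finite_sections F hF.2 hA
    have : IsNoetherianRing Γ(X, A) := IsLocallyNoetherian.component_noetherian ⟨A, hA⟩
    exact IsNoetherian.noetherian _
  · obtain ⟨n₀, t₀, ht₀⟩ := exists_pow_smul_eq_res F hA f s
    obtain ⟨k, hk⟩ := hN
    refine ⟨k + n₀, f ^ k • t₀, fun hξ => ?_, ?_⟩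
    · rw [germ_smul, map_pow]
      by_cases hf : ξ ∈ X.basicOpen f
      · refine N.smul_mem _ ?_
        rw [← germ_res F (X.basicOpen_le f) ξ hf t₀, ht₀, germ_smul]
        exact N.smul_mem _ (hs hf)
      · refine hk _ (Ideal.pow_mem_pow ?_ k) _
        rw [IsLocalRing.mem_maximalIdeal, mem_nonunits_iff]
        exact fun h => hf ((Scheme.mem_basicOpen X f ξ hξ).mpr h)
    · rw [res_smul, ht₀, map_pow, ← mul_smul, ← pow_add]

variable {F ξ N}

theorem quoπ_surjective (x : X) : Function.Surjective (stalkₗ (quoπ F ξ N) x) :=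
  (epi_iff_stalk (quoπ F ξ N)).mp inferInstance x

theorem quoπ_eq_zero_iff_mem_range {x : X} (t : F.presheaf.stalk x) :
    stalkₗ (quoπ F ξ N) x t = 0 ↔ ∃ u, stalkₗ (germSub F ξ N).ι x u = t := by
  have hex := (ShortComplex.exact_of_g_is_cokernel
    (ShortComplex.mk _ _ (cokernel.condition (germSub F ξ N).ι))
    (cokernelIsCokernel (germSub F ξ N).ι)).map (stalk x)
  rw [ShortComplex.ab_exact_iff] at hex
  refine ⟨fun ht => hex t ht, ?_⟩
  rintro ⟨u, rfl⟩
  have h := congr((stalk x).map $(cokernel.condition (germSub F ξ N).ι))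
  rw [(stalk x).map_comp, (stalk x).map_zero] at h
  exact congr($h u)

theorem quoπ_eq_zero_iff {x : X} (h : ξ ⤳ x) (t : F.presheaf.stalk x) :
    stalkₗ (quoπ F ξ N) x t = 0 ↔ sp F h t ∈ N := by
  rw [quoπ_eq_zero_iff_mem_range]
  constructor
  · rintro ⟨u, rfl⟩
    obtain ⟨V, hxV, m, rfl⟩ := exists_germ _ x u
    refine (congrArg (fun z => z ∈ N) (((congrArg (sp F h)
      (stalk_map_germ (germSub F ξ N).ι x hxV m))).trans (sp_germ F h hxV _))).mpr ?_
    exact SubMod.ι_app_mem (germSub F ξ N) m (h.mem_open V.2 hxV)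
  · intro ht
    obtain ⟨V, hxV, m, rfl⟩ := exists_germ F x t
    rw [sp_germ] at ht
    obtain ⟨m', hm'⟩ := SubMod.exists_ι_app_eq (germSub F ξ N) m fun _ => ht
    exact ⟨germ _ x hxV m', (stalk_map_germ _ x hxV m').trans (congrArg _ hm')⟩

theorem quoπ_eq_zero_of_not {x : X} (h : ¬ ξ ⤳ x) (t : F.presheaf.stalk x) :
    stalkₗ (quoπ F ξ N) x t = 0 := by
  rw [quoπ_eq_zero_iff_mem_range]
  obtain ⟨V, hxV, m, rfl⟩ := exists_germ F x t
  obtain ⟨O, hO, hxO, hξO⟩ : ∃ O : Set X, IsOpen O ∧ x ∈ O ∧ ξ ∉ O := by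
    rw [specializes_iff_forall_open] at h
    push Not at h
    exact h
  let W : X.Opens := V ⊓ ⟨O, hO⟩
  have hxW : x ∈ W := ⟨hxV, hxO⟩
  obtain ⟨m', hm'⟩ := SubMod.exists_ι_app_eq (germSub F ξ N) (res F (inf_le_left : W ≤ V) m)
    fun hξW => absurd hξW.2 hξO
  refine ⟨germ _ x hxW m', (stalk_map_germ _ x hxW m').trans ((congrArg _ hm').trans ?_)⟩
  exact germ_res F _ x hxW m

theorem subsingleton_quo_of_not {x : X} (h : ¬ ξ ⤳ x) : Subsingleton ((quo F ξ N).presheaf.stalk x) :=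
  subsingleton_of_forall_eq 0 fun s => by
    obtain ⟨t, rfl⟩ := quoπ_surjective (F := F) (ξ := ξ) (N := N) x s
    exact quoπ_eq_zero_of_not h t

theorem support_quo_subset : CohB1.support (quo F ξ N) ⊆ closure {ξ} := fun x hx => by
  by_contra hc
  exact hx (subsingleton_quo_of_not fun h => hc (specializes_iff_mem_closure.mp h))

theorem sp_quo_injective {x : X} (h : ξ ⤳ x) : Function.Injective (sp (quo F ξ N) h) := by
  refine (injective_iff_map_eq_zero _).2 fun s hs => ?_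
  obtain ⟨t, rfl⟩ := quoπ_surjective (F := F) (ξ := ξ) (N := N) x s
  rw [sp_natural, quoπ_eq_zero_iff specializes_rfl] at hs
  rw [quoπ_eq_zero_iff h]
  obtain ⟨V, hxV, m, rfl⟩ := exists_germ F x t
  rw [sp_germ] at hs ⊢
  rwa [sp_germ] at hs

theorem sp_rfl (t : F.presheaf.stalk ξ) : sp F (specializes_rfl (x := ξ)) t = t := by
  obtain ⟨V, hxV, m, rfl⟩ := exists_germ F ξ t
  exact sp_germ F specializes_rfl hxV m

theorem quoπ_eq_zero_iff_self (t : F.presheaf.stalk ξ) : stalkₗ (quoπ F ξ N) ξ t = 0 ↔ t ∈ N := by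
  rw [quoπ_eq_zero_iff specializes_rfl, sp_rfl]

variable (F ξ N) in
/-- The stalk at `ξ` of the quotient. -/
noncomputable def quoEquiv : (F.presheaf.stalk ξ ⧸ N) ≃ₗ[X.presheaf.stalk ξ] (quo F ξ N).presheaf.stalk ξ :=
  (Submodule.quotEquivOfEq N (LinearMap.ker (stalkₗ (quoπ F ξ N) ξ))
      (Submodule.ext fun t => (quoπ_eq_zero_iff_self t).symm)).trans
    ((stalkₗ (quoπ F ξ N) ξ).quotKerEquivOfSurjective (quoπ_surjective ξ))

theorem length_quo : Module.length (X.presheaf.stalk ξ) ((quo F ξ N).presheaf.stalk ξ) =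
    Module.length (X.presheaf.stalk ξ) (F.presheaf.stalk ξ ⧸ N) :=
  (quoEquiv F ξ N).length_eq.symm

theorem isCoh_quo [IsLocallyNoetherian X] (hF : Coh.IsCoh F)
    (hN : ∃ n : ℕ, ∀ a ∈ IsLocalRing.maximalIdeal (X.presheaf.stalk ξ) ^ n, ∀ t, a • t ∈ N) :
    Coh.IsCoh (quo F ξ N) := by
  have := (isCoh_germSub F ξ N hF hN).1
  exact isCoh_cokernel _ hF

section Join

variable {G H : X.Modules} {ξ : X} {V : Type u} [AddCommGroup V] [Module (X.presheaf.stalk ξ) V]
  (φ : G.presheaf.stalk ξ →ₗ[X.presheaf.stalk ξ] V) (ψ : H.presheaf.stalk ξ →ₗ[X.presheaf.stalk ξ] V)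

/-- The combination of `φ` and `ψ` on the stalk of the direct sum. -/
noncomputable def comb : (G ⊞ H).presheaf.stalk ξ →ₗ[X.presheaf.stalk ξ] V :=
  φ.comp (stalkₗ biprod.fst ξ) + ψ.comp (stalkₗ biprod.snd ξ)

/-- The join of two modules along maps of their stalks at `ξ` into `V`. -/
noncomputable abbrev join : X.Modules := quo (G ⊞ H) ξ (LinearMap.ker (comb φ ψ))

/-- The map of the first module to the join. -/
noncomputable abbrev joinL : G ⟶ join φ ψ := biprod.inl ≫ quoπ _ _ _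

/-- The map of the second module to the join. -/
noncomputable abbrev joinR : H ⟶ join φ ψ := biprod.inr ≫ quoπ _ _ _

theorem comb_inl (t : G.presheaf.stalk ξ) : comb φ ψ (stalkₗ biprod.inl ξ t) = φ t := by
  have h1 := congr((stalk ξ).map $(biprod.inl_fst (X := G) (Y := H)))
  have h2 := congr((stalk ξ).map $(biprod.inl_snd (X := G) (Y := H)))
  rw [(stalk ξ).map_comp, (stalk ξ).map_id] at h1
  rw [(stalk ξ).map_comp, (stalk ξ).map_zero] at h2
  have e1 : stalkₗ (biprod.fst : G ⊞ H ⟶ G) ξ (stalkₗ biprod.inl ξ t) = t := congr($h1 t)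
  have e2 : stalkₗ (biprod.snd : G ⊞ H ⟶ H) ξ (stalkₗ biprod.inl ξ t) = 0 := congr($h2 t)
  simp only [comb, LinearMap.add_apply, LinearMap.comp_apply, e1, e2, map_zero, add_zero]

theorem comb_inr (t : H.presheaf.stalk ξ) : comb φ ψ (stalkₗ biprod.inr ξ t) = ψ t := by
  have h1 := congr((stalk ξ).map $(biprod.inr_fst (X := G) (Y := H)))
  have h2 := congr((stalk ξ).map $(biprod.inr_snd (X := G) (Y := H)))
  rw [(stalk ξ).map_comp, (stalk ξ).map_zero] at h1
  rw [(stalk ξ).map_comp, (stalk ξ).map_id] at h2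
  have e1 : stalkₗ (biprod.fst : G ⊞ H ⟶ G) ξ (stalkₗ biprod.inr ξ t) = 0 := congr($h1 t)
  have e2 : stalkₗ (biprod.snd : G ⊞ H ⟶ H) ξ (stalkₗ biprod.inr ξ t) = t := congr($h2 t)
  simp only [comb, LinearMap.add_apply, LinearMap.comp_apply, e1, e2, map_zero, zero_add]

/-- The join embeds into `V` at `ξ`. -/
noncomputable def joinVal : (join φ ψ).presheaf.stalk ξ →ₗ[X.presheaf.stalk ξ] V :=
  ((LinearMap.ker (comb φ ψ)).liftQ (comb φ ψ) le_rfl).comp (quoEquiv _ _ _).symm.toLinearMap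

theorem joinVal_π (t : (G ⊞ H).presheaf.stalk ξ) :
    joinVal φ ψ (stalkₗ (quoπ (G ⊞ H) ξ (LinearMap.ker (comb φ ψ))) ξ t) = comb φ ψ t := by
  have : stalkₗ (quoπ (G ⊞ H) ξ (LinearMap.ker (comb φ ψ))) ξ t =
      quoEquiv (G ⊞ H) ξ (LinearMap.ker (comb φ ψ)) (Submodule.Quotient.mk t) := rfl
  rw [this, joinVal, LinearMap.comp_apply, LinearEquiv.coe_coe, LinearEquiv.symm_apply_apply,
    Submodule.liftQ_apply]

theorem joinVal_injective : Function.Injective (joinVal φ ψ) := by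
  have : Function.Injective ((LinearMap.ker (comb φ ψ)).liftQ (comb φ ψ) le_rfl) := by
    rw [← LinearMap.ker_eq_bot, Submodule.ker_liftQ_eq_bot]
    exact le_rfl
  exact this.comp (quoEquiv _ _ _).symm.injective

theorem joinVal_L (t : G.presheaf.stalk ξ) : joinVal φ ψ (stalkₗ (joinL φ ψ) ξ t) = φ t := by
  rw [← comb_inl φ ψ t, ← joinVal_π]
  exact congrArg _ (congr($((stalk ξ).map_comp biprod.inl (quoπ (G ⊞ H) ξ (LinearMap.ker (comb φ ψ)))) t))

theorem joinVal_R (t : H.presheaf.stalk ξ) : joinVal φ ψ (stalkₗ (joinR φ ψ) ξ t) = ψ t := by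
  rw [← comb_inr φ ψ t, ← joinVal_π]
  exact congrArg _ (congr($((stalk ξ).map_comp biprod.inr (quoπ (G ⊞ H) ξ (LinearMap.ker (comb φ ψ)))) t))

theorem bijective_joinL (hφ : Function.Bijective φ) : Function.Bijective (stalkₗ (joinL φ ψ) ξ) := by
  refine ⟨fun a b hab => hφ.1 ?_, fun s => ?_⟩
  · rw [← joinVal_L φ ψ, ← joinVal_L φ ψ b, hab]
  · obtain ⟨t, ht⟩ := hφ.2 (joinVal φ ψ s)
    exact ⟨t, joinVal_injective φ ψ ((joinVal_L φ ψ t).trans ht)⟩

theorem bijective_joinR (hψ : Function.Bijective ψ) : Function.Bijective (stalkₗ (joinR φ ψ) ξ) := by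
  refine ⟨fun a b hab => hψ.1 ?_, fun s => ?_⟩
  · rw [← joinVal_R φ ψ, ← joinVal_R φ ψ b, hab]
  · obtain ⟨t, ht⟩ := hψ.2 (joinVal φ ψ s)
    exact ⟨t, joinVal_injective φ ψ ((joinVal_R φ ψ t).trans ht)⟩

theorem isCoh_join [IsLocallyNoetherian X] (hG : Coh.IsCoh G) (hH : Coh.IsCoh H)
    (hV : ∃ n : ℕ, ∀ a ∈ IsLocalRing.maximalIdeal (X.presheaf.stalk ξ) ^ n, ∀ v : V, a • v = 0) :
    Coh.IsCoh (join φ ψ) := by
  obtain ⟨n, hn⟩ := hV
  refine isCoh_quo (isCoh_biprod hG hH) ⟨n, fun a ha t => ?_⟩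
  rw [LinearMap.mem_ker, map_smul, hn a ha]

theorem exists_join_decomp {x : X} (s : (join φ ψ).presheaf.stalk x) :
    ∃ (g : G.presheaf.stalk x) (k : H.presheaf.stalk x),
      s = stalkₗ (joinL φ ψ) x g + stalkₗ (joinR φ ψ) x k := by
  obtain ⟨t, rfl⟩ := quoπ_surjective (F := G ⊞ H) (ξ := ξ) (N := LinearMap.ker (comb φ ψ)) x s
  refine ⟨stalkₗ biprod.fst x t, stalkₗ biprod.snd x t, ?_⟩
  have h := congr((stalk x).map $(biprod.total (X := G) (Y := H)))
  rw [(stalk x).map_id, (stalk x).map_add, (stalk x).map_comp, (stalk x).map_comp] at h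
  have e : stalkₗ biprod.inl x (stalkₗ (biprod.fst : G ⊞ H ⟶ G) x t) +
      stalkₗ biprod.inr x (stalkₗ (biprod.snd : G ⊞ H ⟶ H) x t) = t := congr($h t)
  refine (congrArg _ e.symm).trans ((map_add _ _ _).trans (congrArg₂ (· + ·) ?_ ?_))
  · exact (congr($((stalk x).map_comp biprod.inl (quoπ (G ⊞ H) ξ (LinearMap.ker (comb φ ψ))))
      (stalkₗ biprod.fst x t))).symm
  · exact (congr($((stalk x).map_comp biprod.inr (quoπ (G ⊞ H) ξ (LinearMap.ker (comb φ ψ))))
      (stalkₗ biprod.snd x t))).symm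

end Join

end Groth.ChowK
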