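import Groth.Agent.ChowK.Devissage

/-!
# Dévissage in `K₀(Coh X)` at the maximal points of a closed set
-/

set_option autoImplicit false
universe u

open CategoryTheory CategoryTheory.Limits AlgebraicGeometry TopologicalSpace

namespace Groth.ChowK.KDev

open Groth.QCohMod Groth.KTheory Groth.KTheory.LocFree Groth.ChowK

variable {X : Scheme.{u}}

theorem finite_maximal [IsNoetherian X] {Z : Set X} (hZ : IsClosed Z) :
    {y | y ∈ Z ∧ ∀ z ∈ Z, z ⤳ y → z = y}.Finite := by
  have := hZ.isClosedEmbedding_subtypeVal.quasiSober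
  have hfin : (irreducibleComponents Z).Finite := NoetherianSpace.finite_irreducibleComponents
  refine (((hfin.image fun C => {y : Z | IsGenericPoint y C}).sUnion ?_).image Subtype.val).subset ?_
  · rintro _ ⟨C, hC, rfl⟩
    exact Set.Subsingleton.finite fun a ha b hb => ha.eq hb
  · rintro y ⟨hy, hmax⟩
    refine ⟨⟨y, hy⟩, ⟨_, ⟨irreducibleComponent (⟨y, hy⟩ : Z), irreducibleComponent_mem_irreducibleComponents _, rfl⟩,
      ?_⟩, rfl⟩
    obtain ⟨g, hg⟩ := QuasiSober.sober (isIrreducible_irreducibleComponent (x := (⟨y, hy⟩ : Z)))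
      isClosed_irreducibleComponent
    have hgy : g.1 = y := hmax g.1 g.2 ((subtype_specializes_iff g ⟨y, hy⟩).mp (hg.specializes mem_irreducibleComponent))
    rwa [show g = ⟨y, hy⟩ from Subtype.ext hgy] at hg

abbrev CohP (X : Scheme.{u}) : ObjectProperty X.Modules := fun M => Coh.IsCoh M

variable [IsNoetherian X]

theorem cl_rel' (S : ShortComplex X.Modules) (hS : S.ShortExact) (h₁ : Coh.IsCoh S.X₁) (h₂ : Coh.IsCoh S.X₂)
    (h₃ : Coh.IsCoh S.X₃) :
    KZero.clSub (CohP X) S.X₂ = KZero.clSub (CohP X) S.X₁ + KZero.clSub (CohP X) S.X₃ :=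
  clSub_rel (P := CohP X) S hS h₁ h₂ h₃

theorem cl_biprod {M N : X.Modules} (hM : Coh.IsCoh M) (hN : Coh.IsCoh N) :
    KZero.clSub (CohP X) (M ⊞ N) = KZero.clSub (CohP X) M + KZero.clSub (CohP X) N :=
  cl_rel' (ShortComplex.mk (biprod.inl : M ⟶ M ⊞ N) biprod.snd biprod.inl_snd)
    (ShortComplex.Splitting.ofHasBinaryBiproduct M N).shortExact hM (isCoh_biprod hM hN) hN

/-- A morphism of coherent modules: classes differ by kernel and cokernel. -/
theorem cl_ker_coker {A J : X.Modules} (f : A ⟶ J) (hA : Coh.IsCoh A) (hJ : Coh.IsCoh J) :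
    Coh.IsCoh (kernel f) ∧ Coh.IsCoh (cokernel f) ∧
    KZero.clSub (CohP X) A + KZero.clSub (CohP X) (cokernel f) =
      KZero.clSub (CohP X) (kernel f) + KZero.clSub (CohP X) J := by
  have := hA.1
  have := hJ.1
  have hK := Groth.QCohMod.isCoh_kernel f hA
  have hC := Groth.QCohMod.isCoh_cokernel f hJ
  have := hC.1
  have hI := Groth.QCohMod.isCoh_kernel (cokernel.π f) hJ
  refine ⟨hK, hC, ?_⟩
  have hf : (ShortComplex.mk (kernel.ι (cokernel.π f)) (cokernel.π f) (kernel.condition _)).ShortExact :=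
    { exact := ShortComplex.exact_of_f_is_kernel _ (kernelIsKernel _)
      mono_f := inferInstance
      epi_g := inferInstanceAs (Epi (cokernel.π f)) }
  have hk : (ShortComplex.mk (kernel.ι f) (Abelian.factorThruImage f) (by
      rw [← cancel_mono (Abelian.image.ι f)]; simp)).ShortExact :=
    { exact := by
        apply ShortComplex.exact_of_f_is_kernel
        refine KernelFork.IsLimit.ofι' _ _ fun {W'} k h => ⟨kernel.lift f k ?_, kernel.lift_ι _ _ _⟩
        have := h =≫ Abelian.image.ι f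
        simpa using this
      mono_f := inferInstance
      epi_g := inferInstance }
  have e2 := cl_rel' _ hf hI hJ hC
  have e3 := cl_rel' _ hk hK hA hI
  change KZero.clSub (CohP X) J = KZero.clSub (CohP X) (kernel (cokernel.π f)) +
    KZero.clSub (CohP X) (cokernel f) at e2
  change KZero.clSub (CohP X) A = KZero.clSub (CohP X) (kernel f) +
    KZero.clSub (CohP X) (kernel (cokernel.π f)) at e3
  rw [e2, e3]
  abel

theorem subsingleton_kernel_stalk {A J : X.Modules} (f : A ⟶ J) (x : X)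
    (h : Function.Injective (stalkₗ f x)) : Subsingleton ((kernel f).presheaf.stalk x) := by
  have hi : Function.Injective (stalkₗ (kernel.ι f) x) := (mono_iff_stalk (kernel.ι f)).mp inferInstance x
  refine ⟨fun s t => hi (h ?_)⟩
  have hc : (stalk x).map (kernel.ι f) ≫ (stalk x).map f = 0 := by
    rw [← (stalk x).map_comp, kernel.condition, (stalk x).map_zero]
  exact (congr($hc s)).trans (congr($hc t)).symm

theorem germSub_iso_away {A : X.Modules} {ξ y : X} (h : ¬ ξ ⤳ y) :
    Function.Bijective (stalkₗ (germSub A ξ ⊥).ι y) := by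
  have : Mono (germSub A ξ ⊥).ι :=
    (Groth.CohTwo.mono_iff_app_injective _).2 fun W => SubMod.ι_app_injective _ W
  refine ⟨(mono_iff_stalk _).1 this y, fun t => ?_⟩
  exact (quoπ_eq_zero_iff_mem_range t).1 (quoπ_eq_zero_of_not h t)

theorem exists_stalk_equiv_of_germSub {A B : X.Modules} {ξ y : X} (h : ¬ ξ ⤳ y)
    (e : Nonempty (A.presheaf.stalk y ≃ₗ[X.presheaf.stalk y] B.presheaf.stalk y)) :
    Nonempty ((germSub A ξ ⊥).toMod.presheaf.stalk y ≃ₗ[X.presheaf.stalk y]
      (germSub B ξ ⊥).toMod.presheaf.stalk y) :=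
  e.map fun e => (LinearEquiv.ofBijective _ (germSub_iso_away h)).trans
    (e.trans (LinearEquiv.ofBijective _ (germSub_iso_away h)).symm)

theorem cl_sub_mem {Z : Set X} (hZ : IsClosed Z) (H : AddSubgroup (KZero.K0sub (CohP X)))
    (hH : ∀ G : X.Modules, Coh.IsCoh G → CohB1.support G ⊆ Z →
      (∀ y ∈ Z, (∀ z ∈ Z, z ⤳ y → z = y) → Subsingleton (G.presheaf.stalk y)) → KZero.clSub (CohP X) G ∈ H)
    (n : ℕ) : ∀ (S : Finset X), S.card = n → ∀ A B : X.Modules, Coh.IsCoh A → Coh.IsCoh B →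
      CohB1.support A ⊆ Z → CohB1.support B ⊆ Z →
      (∀ y ∈ Z, (∀ z ∈ Z, z ⤳ y → z = y) → y ∉ S →
        Subsingleton (A.presheaf.stalk y) ∧ Subsingleton (B.presheaf.stalk y)) →
      (∀ y ∈ S, (y ∈ Z ∧ ∀ z ∈ Z, z ⤳ y → z = y) ∧
        Nonempty (A.presheaf.stalk y ≃ₗ[X.presheaf.stalk y] B.presheaf.stalk y)) →
      KZero.clSub (CohP X) A - KZero.clSub (CohP X) B ∈ H := by
  classical
  induction n with
  | zero =>
    intro S hS A B hA hB hAZ hBZ h0 _
    have hS' : S = ∅ := Finset.card_eq_zero.1 hS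
    exact sub_mem (hH _ hA hAZ fun y hy hm => (h0 y hy hm (by simp [hS'])).1)
      (hH _ hB hBZ fun y hy hm => (h0 y hy hm (by simp [hS'])).2)
  | succ n ih =>
    intro S hS A B hA hB hAZ hBZ h0 h1
    obtain ⟨ξ, hξ⟩ : S.Nonempty := Finset.card_pos.1 (by omega)
    obtain ⟨⟨hξZ, hξmax⟩, ⟨e⟩⟩ := h1 ξ hξ
    have hlen : ∀ {M : X.Modules}, Coh.IsCoh M → CohB1.support M ⊆ Z →
        Module.length (X.presheaf.stalk ξ) (M.presheaf.stalk ξ) ≠ ⊤ := fun {M} hM hMZ =>
      Devissage.length_stalk_ne_top hM ξ fun z hz hzξ => hξmax z (hMZ hz) hzξ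
    have hkill : ∀ {M : X.Modules}, Coh.IsCoh M → CohB1.support M ⊆ Z →
        ∃ m : ℕ, ∀ a ∈ IsLocalRing.maximalIdeal (X.presheaf.stalk ξ) ^ m, ∀ t : M.presheaf.stalk ξ,
          a • t ∈ (⊥ : Submodule (X.presheaf.stalk ξ) (M.presheaf.stalk ξ)) := fun hM hMZ =>
      (exists_pow_smul_eq_zero_of_length (hlen hM hMZ)).imp fun m hm a ha t => by
        rw [Submodule.mem_bot]; exact hm a ha t
    have hnot : ∀ y ∈ Z, (∀ z ∈ Z, z ⤳ y → z = y) → y ≠ ξ → ¬ ξ ⤳ y :=
      fun y hy hm hne hs => hne (hm ξ hξZ hs).symm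
    -- the sub and quotient of one module
    have split : ∀ {M : X.Modules}, Coh.IsCoh M → CohB1.support M ⊆ Z →
        Coh.IsCoh (germSub M ξ ⊥).toMod ∧ CohB1.support (germSub M ξ ⊥).toMod ⊆ Z ∧
          Subsingleton ((germSub M ξ ⊥).toMod.presheaf.stalk ξ) ∧ Coh.IsCoh (quo M ξ ⊥) ∧
          CohB1.support (quo M ξ ⊥) ⊆ Z ∧
          KZero.clSub (CohP X) M =
            KZero.clSub (CohP X) (germSub M ξ ⊥).toMod + KZero.clSub (CohP X) (quo M ξ ⊥) := by
      intro M hM hMZ
      have hsub := isCoh_germSub M ξ ⊥ hM (hkill hM hMZ)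
      have hquo := isCoh_quo hM (hkill hM hMZ)
      have : Mono (germSub M ξ ⊥).ι :=
        (Groth.CohTwo.mono_iff_app_injective _).2 fun W => SubMod.ι_app_injective _ W
      refine ⟨hsub, (Devissage.support_subset_of_mono (germSub M ξ ⊥).ι).trans hMZ, ⟨fun s t => ?_⟩, hquo,
        (Devissage.support_subset_of_epi (quoπ M ξ ⊥)).trans hMZ, ?_⟩
      · obtain ⟨hinj, hr⟩ := germSub_stalk (F := M) (ξ := ξ) ⊥
        rw [LinearMap.range_eq_bot] at hr
        exact hinj (by rw [hr]; rfl)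
      · exact cl_rel' (ShortComplex.mk (germSub M ξ ⊥).ι (quoπ M ξ ⊥) (cokernel.condition _))
          { exact := ShortComplex.exact_of_g_is_cokernel _ (cokernelIsCokernel _)
            mono_f := this
            epi_g := inferInstanceAs (Epi (cokernel.π _)) } hsub hM hquo
    obtain ⟨hA', hA'Z, hA'0, hQA, hQAZ, eA⟩ := split hA hAZ
    obtain ⟨hB', hB'Z, hB'0, hQB, hQBZ, eB⟩ := split hB hBZ
    have hrec : KZero.clSub (CohP X) (germSub A ξ ⊥).toMod - KZero.clSub (CohP X) (germSub B ξ ⊥).toMod ∈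
        H := by
      refine ih (S.erase ξ) (by rw [Finset.card_erase_of_mem hξ, hS]; rfl) _ _ hA' hB' hA'Z hB'Z ?_ ?_
      · intro y hy hm hyS
        by_cases hyξ : y = ξ
        · subst hyξ
          exact ⟨hA'0, hB'0⟩
        · obtain ⟨a, b⟩ := h0 y hy hm fun h => hyS (Finset.mem_erase.2 ⟨hyξ, h⟩)
          exact ⟨(LinearEquiv.ofBijective _ (germSub_iso_away (hnot y hy hm hyξ))).toEquiv.subsingleton,
            (LinearEquiv.ofBijective _ (germSub_iso_away (hnot y hy hm hyξ))).toEquiv.subsingleton⟩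
      · intro y hy
        obtain ⟨hne, hyS⟩ := Finset.mem_erase.1 hy
        obtain ⟨hyp, hye⟩ := h1 y hyS
        exact ⟨hyp, exists_stalk_equiv_of_germSub (hnot y hyp.1 hyp.2 hne) hye⟩
    -- the two quotients at `ξ`
    let φ : (quo A ξ ⊥).presheaf.stalk ξ →ₗ[X.presheaf.stalk ξ] B.presheaf.stalk ξ :=
      e.toLinearMap.comp (((quoEquiv A ξ ⊥).symm.trans (Submodule.quotEquivOfEqBot ⊥ rfl)).toLinearMap)
    let ψ : (quo B ξ ⊥).presheaf.stalk ξ →ₗ[X.presheaf.stalk ξ] B.presheaf.stalk ξ :=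
      ((quoEquiv B ξ ⊥).symm.trans (Submodule.quotEquivOfEqBot ⊥ rfl)).toLinearMap
    have hφ : Function.Bijective φ :=
      e.bijective.comp ((quoEquiv A ξ ⊥).symm.trans (Submodule.quotEquivOfEqBot ⊥ rfl)).bijective
    have hψ : Function.Bijective ψ := ((quoEquiv B ξ ⊥).symm.trans (Submodule.quotEquivOfEqBot ⊥ rfl)).bijective
    have hJ : Coh.IsCoh (join φ ψ) := isCoh_join φ ψ hQA hQB (exists_pow_smul_eq_zero_of_length (hlen hB hBZ))
    have hJs : ∀ y, y ≠ ξ → y ∈ Z → (∀ z ∈ Z, z ⤳ y → z = y) → Subsingleton ((join φ ψ).presheaf.stalk y) :=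
      fun y hne hy hm => subsingleton_quo_of_not (hnot y hy hm hne)
    have key : ∀ {M : X.Modules} (f : M ⟶ join φ ψ), Coh.IsCoh M → CohB1.support M ⊆ Z →
        (∀ y ∈ Z, (∀ z ∈ Z, z ⤳ y → z = y) → y ≠ ξ → Subsingleton (M.presheaf.stalk y)) →
        Function.Bijective (stalkₗ f ξ) →
        KZero.clSub (CohP X) M - KZero.clSub (CohP X) (join φ ψ) ∈ H := by
      intro M f hM hMZ hM0 hbij
      obtain ⟨hK, hC, e'⟩ := cl_ker_coker f hM hJ
      have hKm : KZero.clSub (CohP X) (kernel f) ∈ H :=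
        hH _ hK ((Devissage.support_subset_of_mono (kernel.ι f)).trans hMZ) fun y hy hm => by
          by_cases hne : y = ξ
          · subst hne; exact subsingleton_kernel_stalk f y hbij.1
          · have := hM0 y hy hm hne
            exact @Function.Injective.subsingleton _ _ _ ((mono_iff_stalk (kernel.ι f)).mp inferInstance y) this
      have hCm : KZero.clSub (CohP X) (cokernel f) ∈ H := by
        refine hH _ hC ((Devissage.support_subset_of_epi (cokernel.π f)).trans
          (support_quo_subset.trans (closure_minimal (Set.singleton_subset_iff.2 hξZ) hZ))) fun y hy hm => ?_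
        by_cases hne : y = ξ
        · subst hne; exact not_not.1 (Devissage.subsingleton_cokernel_stalk f y hbij.2)
        · have := hJs y hne hy hm
          exact @Function.Surjective.subsingleton _ _ _ this ((epi_iff_stalk (cokernel.π f)).mp inferInstance y)
      have e'' : KZero.clSub (CohP X) M - KZero.clSub (CohP X) (join φ ψ) =
          KZero.clSub (CohP X) (kernel f) - KZero.clSub (CohP X) (cokernel f) := by
        rw [sub_eq_sub_iff_add_eq_add, e']
      rw [e'']
      exact sub_mem hKm hCm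
    have q1 := key (joinL φ ψ) hQA hQAZ (fun y hy hm hne => subsingleton_quo_of_not (hnot y hy hm hne))
      (bijective_joinL φ ψ hφ)
    have q2 := key (joinR φ ψ) hQB hQBZ (fun y hy hm hne => subsingleton_quo_of_not (hnot y hy hm hne))
      (bijective_joinR φ ψ hψ)
    rw [eA, eB]
    have := add_mem hrec (sub_mem q1 q2)
    convert this using 1
    abel

end Groth.ChowK.KDev

namespace Groth.ChowK.KDev

open Groth.QCohMod Groth.KTheory Groth.KTheory.LocFree Groth.ChowK

variable {X : Scheme.{u}}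

theorem exists_eq_sub [IsNoetherian X] (c : KZero.K0sub (CohP X)) :
    ∃ M N : X.Modules, Coh.IsCoh M ∧ Coh.IsCoh N ∧
      c = KZero.clSub (CohP X) M - KZero.clSub (CohP X) N := by
  obtain ⟨Z, hZ⟩ : ∃ Z : X.Modules, IsZero Z := ⟨_, isZero_zero X.Modules⟩
  induction c using k0sub_induction with
  | h0 => exact ⟨Z, Z, isCoh_of_isZero hZ, isCoh_of_isZero hZ, (sub_self _).symm⟩
  | hcl M hM => exact ⟨M, Z, hM, isCoh_of_isZero hZ, by rw [clSub_zero hZ (isCoh_of_isZero hZ), sub_zero]⟩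
  | hadd p q hp hq =>
    obtain ⟨M, N, hM, hN, rfl⟩ := hp
    obtain ⟨M', N', hM', hN', rfl⟩ := hq
    exact ⟨M ⊞ M', N ⊞ N', isCoh_biprod hM hM', isCoh_biprod hN hN', by
      rw [cl_biprod hM hM', cl_biprod hN hN']; abel⟩
  | hneg p hp =>
    obtain ⟨M, N, hM, hN, rfl⟩ := hp
    exact ⟨N, M, hN, hM, by rw [neg_sub]⟩

theorem dim_stalk_eq_zero_iff {x : X} :
    ringKrullDim (X.presheaf.stalk x) = 0 ↔ ∀ z : X, z ⤳ x → z = x := by
  rw [ringKrullDim_stalk_eq_coheight, WithBot.coe_eq_zero, Order.coheight_eq_zero]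
  refine ⟨fun h z hz => ?_, fun h z hz => ?_⟩
  · exact (hz.antisymm (AlgebraicGeometry.Scheme.le_iff_specializes.1
      (h (AlgebraicGeometry.Scheme.le_iff_specializes.2 hz)))).eq
  · rw [h z (AlgebraicGeometry.Scheme.le_iff_specializes.1 hz)]

end Groth.ChowK.KDev
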