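import Groth.Agent.ChowK.Divisor
import Groth.Agent.EulerDeg.LineBundle

/-!
# Invertible modules on closures of points, with a coordinate given by a rational section
-/

set_option autoImplicit false
universe u

open CategoryTheory CategoryTheory.Limits AlgebraicGeometry TopologicalSpace TensorProduct

namespace Groth.ChowK

open Groth.QCohMod Groth.KTheory Groth.KTheory.LocFree Groth.RefRank

variable {X : Scheme.{u}}

theorem sp_eq_mspec (M : X.Modules) {ξ x : X} (h : ξ ⤳ x) (t : M.presheaf.stalk x) :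
    sp M h t = mspec M h t := by
  obtain ⟨U, hx, m, rfl⟩ := exists_germ M x t
  rw [sp_germ, mspec_germ]

theorem mspec_rfl {M : X.Modules} {x : X} (h : x ⤳ x) (t : M.presheaf.stalk x) : mspec M h t = t := by
  rw [← sp_eq_mspec]
  exact sp_rfl t

/-- The restriction of a module to the reduced closure of `ξ`, as the image in the fibre at `ξ`. -/
noncomputable abbrev lineQuo (L : X.Modules) (ξ : X) : X.Modules :=
  quo L ξ (IsLocalRing.maximalIdeal (X.presheaf.stalk ξ) •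
    (⊤ : Submodule (X.presheaf.stalk ξ) (L.presheaf.stalk ξ)))

theorem isCoh_lineQuo [IsLocallyNoetherian X] {L : X.Modules} (hL : Coh.IsCoh L) (ξ : X) :
    Coh.IsCoh (lineQuo L ξ) :=
  isCoh_quo hL ⟨1, fun a ha t => Submodule.smul_mem_smul (by rwa [pow_one] at ha) Submodule.mem_top⟩

theorem support_lineQuo (L : X.Modules) (ξ : X) : CohB1.support (lineQuo L ξ) ⊆ closure {ξ} :=
  support_quo_subset

/-- A coordinate on the fibre of `L` at `ξ` sending the section `s` to `1`. -/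
theorem exists_fibCoord {L : X.Modules} (hL : PicF.IsInvertible L) (ξ : X) {s : Cyc.secFibre L ξ}
    (hs : s ≠ 0) :
    ∃ e : Cyc.secFibre L ξ →ₗ[X.presheaf.stalk ξ] Kap ξ, Function.Bijective e ∧
      ∀ {x : X} (h : ξ ⤳ x) {t : L.presheaf.stalk x}, IsStalkBasis L x t →
        (e (Groth.Cycles.fmk (mspec L h t)) : X.residueField ξ) = (Groth.Cycles.ratCoef h t s)⁻¹ := by
  obtain ⟨t₀, ht₀⟩ := Groth.Cycles.exists_basis hL ξ
  let ρ : X.residueField ξ := Groth.Cycles.coef L ξ t₀ s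
  have hρ : ρ ≠ 0 := Groth.Cycles.coef_ne_zero ht₀ hs
  let b : X.presheaf.stalk ξ ≃ₗ[X.presheaf.stalk ξ] L.presheaf.stalk ξ :=
    LinearEquiv.ofBijective (LinearMap.toSpanSingleton _ _ t₀) ht₀
  let w : Kap ξ := ρ⁻¹
  let lam : L.presheaf.stalk ξ →ₗ[X.presheaf.stalk ξ] Kap ξ :=
    (LinearMap.toSpanSingleton (X.presheaf.stalk ξ) (Kap ξ) w).comp b.symm.toLinearMap
  have hlam : ∀ a : X.presheaf.stalk ξ, (lam (a • t₀) : X.residueField ξ) = X.residue ξ a * ρ⁻¹ := fun a => by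
    have : b.symm (a • t₀) = a := b.symm_apply_eq.2 rfl
    change (b.symm (a • t₀) • w : Kap ξ) = _
    rw [this, Algebra.smul_def]
    rfl
  have hle : IsLocalRing.maximalIdeal (X.presheaf.stalk ξ) • (⊤ : Submodule (X.presheaf.stalk ξ)
      (L.presheaf.stalk ξ)) ≤ LinearMap.ker lam := Submodule.smul_le.2 fun a ha v _ => by
    obtain ⟨n, hn⟩ := kap_killed ξ
    rw [LinearMap.mem_ker, map_smul, Algebra.smul_def, show algebraMap (X.presheaf.stalk ξ) (Kap ξ) a = 0 from
      (IsLocalRing.residue_eq_zero_iff a).2 ha, zero_mul]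
  let e : Cyc.secFibre L ξ →ₗ[X.presheaf.stalk ξ] Kap ξ := Submodule.liftQ _ lam hle
  have he : ∀ a : X.presheaf.stalk ξ, (e (a • Groth.Cycles.fmk t₀) : X.residueField ξ) =
      X.residue ξ a * ρ⁻¹ := fun a => by
    rw [← Submodule.Quotient.mk_smul]
    exact hlam a
  refine ⟨e, ⟨fun p q hpq => ?_, fun c => ?_⟩, fun {x} h {t} ht => ?_⟩
  · obtain ⟨a, rfl⟩ := Groth.Cycles.exists_coef ht₀ p
    obtain ⟨a', rfl⟩ := Groth.Cycles.exists_coef ht₀ q
    rw [Groth.Cycles.smul_fmk_eq_iff ht₀]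
    have hpq' : (e (a • Groth.Cycles.fmk t₀) : X.residueField ξ) = e (a' • Groth.Cycles.fmk t₀) := hpq
    rw [he, he] at hpq'
    exact mul_right_cancel₀ (inv_ne_zero hρ) hpq'
  · obtain ⟨a, ha⟩ := X.residue_surjective ξ ((show X.residueField ξ from c) * ρ)
    refine ⟨a • Groth.Cycles.fmk t₀, ?_⟩
    change (e (a • Groth.Cycles.fmk t₀) : X.residueField ξ) = c
    rw [he, ha, mul_assoc, mul_inv_cancel₀ hρ, mul_one]
  · have hb := Groth.Cycles.isStalkBasis_mspec hL h ht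
    obtain ⟨a, ha⟩ := ht₀.2 (mspec L h t)
    have hfm : Groth.Cycles.fmk (mspec L h t) = a • Groth.Cycles.fmk t₀ := by
      rw [← Submodule.Quotient.mk_smul]
      exact congrArg Groth.Cycles.fmk ha.symm
    obtain ⟨r, hr⟩ := Groth.Cycles.exists_coef hb s
    have hrat : Groth.Cycles.ratCoef h t s = X.residue ξ r := by
      rw [Groth.Cycles.ratCoef, hr, Groth.Cycles.coef_smul hb]
    have hρ' : ρ = X.residue ξ r * X.residue ξ a := by
      have : s = (r * a) • Groth.Cycles.fmk t₀ := by rw [hr, hfm, mul_smul]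
      change Groth.Cycles.coef L ξ t₀ s = _
      rw [this, Groth.Cycles.coef_smul ht₀, map_mul]
    rw [hfm, he, hrat]
    have hra := hρ
    rw [hρ'] at hra ⊢
    obtain ⟨h1, h2⟩ := mul_ne_zero_iff.1 hra
    field_simp

/-- A rational section gives a coordinate on `lineQuo L ξ` with value `1/ratCoef` at a basis. -/
theorem exists_lineQuo_coord {L : X.Modules} (hL : PicF.IsInvertible L) (ξ : X) {s : Cyc.secFibre L ξ}
    (hs : s ≠ 0) :
    ∃ φ : (lineQuo L ξ).presheaf.stalk ξ →ₗ[X.presheaf.stalk ξ] Kap ξ, Function.Bijective φ ∧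
      ∀ {x : X} (h : ξ ⤳ x) {t : L.presheaf.stalk x}, IsStalkBasis L x t →
        IsLine h φ ((Groth.Cycles.ratCoef h t s)⁻¹) := by
  obtain ⟨e, he, hev⟩ := exists_fibCoord hL ξ hs
  let Q := quoEquiv L ξ (IsLocalRing.maximalIdeal (X.presheaf.stalk ξ) •
    (⊤ : Submodule (X.presheaf.stalk ξ) (L.presheaf.stalk ξ)))
  refine ⟨e.comp Q.symm.toLinearMap, he.comp Q.symm.bijective, fun {x} h {t} ht => ?_⟩
  refine isLine_of_injective (g := stalkₗ (quoπ L ξ _) x t) ?_ (fun v => ?_)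
    (inv_ne_zero (Groth.Cycles.ratCoef_ne_zero hL h ht hs)) ?_
  · exact (he.1.comp Q.symm.injective).comp (sp_quo_injective h)
  · obtain ⟨v, rfl⟩ := quoπ_surjective (F := L) (ξ := ξ) x v
    obtain ⟨r, rfl⟩ := ht.2 v
    exact ⟨r, map_smul _ r t⟩
  · change e (Q.symm (sp _ h (stalkₗ (quoπ L ξ _) x t))) = _
    rw [sp_natural, sp_eq_mspec]
    have : Q.symm (stalkₗ (quoπ L ξ _) ξ (mspec L h t)) = Groth.Cycles.fmk (mspec L h t) :=
      Q.symm_apply_eq.2 rfl
    rw [this]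
    exact hev h ht

/-- Scaling a coordinate. -/
theorem IsLine.scale {A : X.Modules} {ξ x : X} {h : ξ ⤳ x}
    {φ : A.presheaf.stalk ξ →ₗ[X.presheaf.stalk ξ] Kap ξ} {c : X.residueField ξ} (hA : IsLine h φ c)
    {f : X.residueField ξ} (hf : f ≠ 0) :
    IsLine h ((LinearMap.mulLeft (X.presheaf.stalk ξ) (show Kap ξ from f)).comp φ) (f * c) := by
  obtain ⟨hc, g, hg, hk, hgc⟩ := hA
  refine ⟨mul_ne_zero hf hc, g, hg, hk, ?_⟩
  rw [← hgc]
  rfl

/-- Tensoring a line on the closure of `ξ` with an invertible module. -/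
theorem exists_tensor_coord {L : X.Modules} (hL : PicF.IsInvertible L) {ξ : X} {A : X.Modules}
    (φ : A.presheaf.stalk ξ →ₗ[X.presheaf.stalk ξ] Kap ξ) {s : Cyc.secFibre L ξ} (hs : s ≠ 0)
    {c₀ : X.residueField ξ} (hA₀ : IsLine (specializes_rfl (x := ξ)) φ c₀) :
    ∃ ψ : (CohB1.tensorMod A L).presheaf.stalk ξ →ₗ[X.presheaf.stalk ξ] Kap ξ, Function.Bijective ψ ∧
      ∀ {x : X} (h : ξ ⤳ x) {c : X.residueField ξ}, IsLine h φ c → ∀ {t : L.presheaf.stalk x},
        IsStalkBasis L x t → IsLine h ψ (c * (Groth.Cycles.ratCoef h t s)⁻¹) := by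
  obtain ⟨e, he, hev⟩ := exists_fibCoord hL ξ hs
  let lam : L.presheaf.stalk ξ →ₗ[X.presheaf.stalk ξ] Kap ξ := e.comp (Submodule.mkQ _)
  let ψ : (CohB1.tensorMod A L).presheaf.stalk ξ →ₗ[X.presheaf.stalk ξ] Kap ξ :=
    (TensorProduct.lift ((LinearMap.mul (X.presheaf.stalk ξ) (Kap ξ)).compl₁₂ φ lam)).comp
      (stalkTensorEquiv A L ξ).symm.toLinearMap
  have key : ∀ {x : X} (h : ξ ⤳ x) {c : X.residueField ξ}, IsLine h φ c → ∀ {t : L.presheaf.stalk x},
      IsStalkBasis L x t → IsLine h ψ (c * (Groth.Cycles.ratCoef h t s)⁻¹) := by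
    intro x h c hA t ht
    have hne := inv_ne_zero (Groth.Cycles.ratCoef_ne_zero hL h ht hs)
    have hinj := hA.injective
    obtain ⟨hc, g, hg, hk, hgc⟩ := hA
    refine ⟨mul_ne_zero hc hne, stalkTensorEquiv A L x (g ⊗ₜ t), fun v => ?_, fun r hr => ?_, ?_⟩
    · obtain ⟨z, rfl⟩ := (stalkTensorEquiv A L x).surjective v
      induction z using TensorProduct.induction_on with
      | zero => exact ⟨0, by rw [map_zero, zero_smul]⟩
      | tmul p q =>
        obtain ⟨a, rfl⟩ := hg p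
        obtain ⟨a', rfl⟩ := ht.2 q
        refine ⟨a * a', ?_⟩
        rw [TensorProduct.smul_tmul_smul, map_smul]
      | add p q hp hq =>
        obtain ⟨a, ha⟩ := hp
        obtain ⟨a', ha'⟩ := hq
        exact ⟨a + a', by rw [map_add, ha, ha', add_smul]⟩
    · rw [← map_smul, TensorProduct.smul_tmul', hk r hr, TensorProduct.zero_tmul, map_zero]
    · change ψ (sp _ h (stalkTensorEquiv A L x (g ⊗ₜ t))) = _
      rw [sp_eq_mspec, mspec_stalkTensorEquiv]
      change TensorProduct.lift ((LinearMap.mul (X.presheaf.stalk ξ) (Kap ξ)).compl₁₂ φ lam)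
        ((stalkTensorEquiv A L ξ).symm (stalkTensorEquiv A L ξ (mspec A h g ⊗ₜ mspec L h t))) = _
      rw [LinearEquiv.symm_apply_apply, TensorProduct.lift.tmul]
      change (φ (mspec A h g) : X.residueField ξ) * (e (Groth.Cycles.fmk (mspec L h t))) = _
      rw [hev h ht, ← hgc, ← sp_eq_mspec]
      rfl
  refine ⟨ψ, ?_, key⟩
  obtain ⟨t₀, ht₀⟩ := Groth.Cycles.exists_basis hL ξ
  have h0 := key specializes_rfl hA₀ ht₀
  refine ⟨fun p q hpq => h0.injective ?_, fun k => ?_⟩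
  · change ψ (sp _ _ p) = ψ (sp _ _ q)
    rw [sp_rfl, sp_rfl, hpq]
  · obtain ⟨hc, g, -, -, hgc⟩ := h0
    obtain ⟨r, hr⟩ := X.residue_surjective ξ ((show X.residueField ξ from k) / coordAt specializes_rfl ψ g)
    refine ⟨r • sp _ specializes_rfl g, ?_⟩
    rw [map_smul, Algebra.smul_def]
    change X.residue ξ r * coordAt specializes_rfl ψ g = k
    rw [hr, div_mul_cancel₀]
    rw [hgc]
    exact hc

end Groth.ChowK
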