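import Groth.Agent.ChowK.RatTheta

/-!
# Classes which vanish in `K₀(Coh_{≤k+1})/K₀(Coh_{≤k-1})` are rationally equivalent to zero
-/

set_option autoImplicit false
set_option linter.style.haveILetI false
universe u

open CategoryTheory CategoryTheory.Limits AlgebraicGeometry TopologicalSpace

namespace Groth.ChowK

open Groth.QCohMod Groth.KTheory Groth.KTheory.LocFree

variable {X : Scheme.{u}} {δ : X → ℤ} {k : ℤ}

/-- A function which is a locally finite sum of divisors. -/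
def IsRat (δ : X → ℤ) (k : ℤ) (g : X → ℤ) : Prop :=
  ∃ (ι : Type u) (ξ : ι → X) (f : (i : ι) → X.residueField (ξ i)),
    (∀ i, δ (ξ i) = k + 1) ∧ (∀ i, f i ≠ 0) ∧
    (∀ x : X, ∃ U : Set X, IsOpen U ∧ x ∈ U ∧ {i | (closure {ξ i} ∩ U).Nonempty}.Finite) ∧
    ∀ x : X, g x = ∑ᶠ i, Cyc.divFun δ (ξ i) (f i) x

theorem finite_divFun {ι : Type u} {ξ : ι → X} {f : (i : ι) → X.residueField (ξ i)}
    (hlf : ∀ x : X, ∃ U : Set X, IsOpen U ∧ x ∈ U ∧ {i | (closure {ξ i} ∩ U).Nonempty}.Finite) (x : X) :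
    (Function.support fun i => Cyc.divFun δ (ξ i) (f i) x).Finite := by
  obtain ⟨U, hU, hx, hfin⟩ := hlf x
  refine hfin.subset fun i hi => ⟨x, specializes_iff_mem_closure.mp ?_, hx⟩
  by_contra h
  exact hi (dif_neg fun h' => h h'.1)

theorem isRat_zero : IsRat δ k (0 : X → ℤ) :=
  ⟨PEmpty, PEmpty.elim, fun i => i.elim, fun i => i.elim, fun i => i.elim,
    fun x => ⟨Set.univ, isOpen_univ, trivial, Set.toFinite _⟩, fun x => (finsum_of_isEmpty _).symm⟩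

theorem IsRat.add {g g' : X → ℤ} (h : IsRat δ k g) (h' : IsRat δ k g') : IsRat δ k (g + g') := by
  classical
  obtain ⟨ι, ξ, f, hξ, hf, hlf, hg⟩ := h
  obtain ⟨ι', ξ', f', hξ', hf', hlf', hg'⟩ := h'
  refine ⟨ι ⊕ ι', Sum.elim ξ ξ', fun o => match o with | Sum.inl i => f i | Sum.inr i => f' i,
    fun o => by cases o <;> simp [hξ, hξ'], fun o => (match o with | Sum.inl i => hf i | Sum.inr i => hf' i), fun x => ?_, fun x => ?_⟩
  · obtain ⟨U, hU, hx, hfin⟩ := hlf x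
    obtain ⟨U', hU', hx', hfin'⟩ := hlf' x
    refine ⟨U ∩ U', hU.inter hU', ⟨hx, hx'⟩, ((hfin.image Sum.inl).union (hfin'.image Sum.inr)).subset ?_⟩
    rintro (i | i) ⟨y, hy, hyU, hyU'⟩
    · exact Or.inl ⟨i, ⟨y, hy, hyU⟩, rfl⟩
    · exact Or.inr ⟨i, ⟨y, hy, hyU'⟩, rfl⟩
  · set T := (finite_divFun (δ := δ) (f := f) hlf x).toFinset
    set T' := (finite_divFun (δ := δ) (f := f') hlf' x).toFinset
    rw [Pi.add_apply, hg, hg', finsum_eq_sum_of_support_subset _ (s := T) (fun i hi => by simpa [T] using hi),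
      finsum_eq_sum_of_support_subset _ (s := T') (fun i hi => by simpa [T'] using hi),
      finsum_eq_sum_of_support_subset _ (s := T.disjSum T') ?_, Finset.sum_disjSum]
    · rfl
    · rintro (i | i) hi
      · exact Finset.mem_coe.2 (Finset.inl_mem_disjSum.2 ((Set.Finite.mem_toFinset _).2 hi))
      · exact Finset.mem_coe.2 (Finset.inr_mem_disjSum.2 ((Set.Finite.mem_toFinset _).2 hi))

variable [IsLocallyNoetherian X]

theorem divFun_zpow (hX : Cyc.IsSetup X δ) {ξ : X} {f : X.residueField ξ} (hf : f ≠ 0) (z : ℤ) (x : X) :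
    Cyc.divFun δ ξ (f ^ z) x = z * Cyc.divFun δ ξ f x := by
  unfold Cyc.divFun
  split_ifs with h
  · have := Groth.Cycles.isDomain_locQuot h.1
    have := Groth.Cycles.krullDimLE_one_of_isDivPt hX (x := x) (ξ := ξ) h
    have := Groth.Cycles.isFractionRing_locQuot h.1
    unfold Cyc.ordAt
    induction z using Int.induction_on with
    | zero => simp [Groth.RefRank.ordFrac_one']
    | succ n ih =>
      rw [zpow_add_one₀ hf, Groth.RefRank.ordFrac_mul' (zpow_ne_zero _ hf) hf, ih]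
      ring
    | pred n ih =>
      rw [zpow_sub_one₀ hf, Groth.RefRank.ordFrac_mul' (zpow_ne_zero _ hf) (inv_ne_zero hf), ih,
        Groth.RefRank.ordFrac_inv' hf]
      ring
  · rw [mul_zero]

theorem IsRat.neg (hX : Cyc.IsSetup X δ) {g : X → ℤ} (h : IsRat δ k g) : IsRat δ k (-g) := by
  obtain ⟨ι, ξ, f, hξ, hf, hlf, hg⟩ := h
  refine ⟨ι, ξ, fun i => f i ^ (-1 : ℤ), hξ, fun i => zpow_ne_zero _ (hf i), hlf, fun x => ?_⟩
  rw [Pi.neg_apply, hg, ← finsum_neg_distrib]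
  exact finsum_congr fun i => by rw [divFun_zpow hX (hf i), neg_one_mul]

/-- The subgroup of sums of divisors. -/
def ratSub (hX : Cyc.IsSetup X δ) (k : ℤ) : AddSubgroup (X → ℤ) where
  carrier := {g | IsRat δ k g}
  add_mem' := IsRat.add
  zero_mem' := isRat_zero
  neg_mem' := IsRat.neg hX

open Classical in
/-- The invariant as a function. -/
noncomputable def Theta (hX : Cyc.IsSetup X δ) (k : ℤ) (F : X.Modules) : X → ℤ := fun x =>
  if h : δ x = k ∧ Cyc.CohLe δ (k + 1) F then theta hX ⟨x, h.1⟩ h.2 (cF hX h.2) else 0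

open Classical in
theorem theta_sub (hX : Cyc.IsSetup X δ) (x : {x : X // δ x = k}) {F : X.Modules}
    (hF : Cyc.CohLe δ (k + 1) F)
    {c d : ∀ ξ, δ ξ = k + 1 → Fns (X.presheaf.stalk ξ) (Rt δ k ξ) (F.presheaf.stalk ξ)}
    (hc : ∀ ξ hξ, FD (F.presheaf.stalk ξ) (c ξ hξ)) (hd : ∀ ξ hξ, FD (F.presheaf.stalk ξ) (d ξ hξ)) :
    theta hX x hF c - theta hX x hF d = ∑ᶠ i, (degAt x c i (cmp (LinearMap.range (muF hX x hF)) i) -
      degAt x d i (cmp (LinearMap.range (muF hX x hF)) i)) := by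
  classical
  have hS := sumData hX x hF
  rw [finsum_sub_distrib (finite_support_cmp hS (degAt_subsingleton x hc) _)
    (finite_support_cmp hS (degAt_subsingleton x hd) _)]
  unfold theta prodDeg
  ring

theorem isRat_Theta (hX : Cyc.IsSetup X δ) {S : ShortComplex X.Modules}
    (hS : S.ShortExact) (h₁ : Cyc.CohLe δ (k + 1) S.X₁) (h₂ : Cyc.CohLe δ (k + 1) S.X₂)
    (h₃ : Cyc.CohLe δ (k + 1) S.X₃) :
    IsRat δ k (Theta hX k S.X₂ - (Theta hX k S.X₁ + Theta hX k S.X₃)) := by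
  classical
  let d : ∀ ξ, δ ξ = k + 1 → Fns (X.presheaf.stalk ξ) (Rt δ k ξ) (S.X₂.presheaf.stalk ξ) :=
    fun ξ hξ t L => cF hX h₁ ξ hξ t (L.comap (rmap t (stalkₗ S.f ξ))) +
      cF hX h₃ ξ hξ t (L.map (rmap t (stalkₗ S.g ξ)))
  have hd : ∀ ξ hξ, FD (S.X₂.presheaf.stalk ξ) (d ξ hξ) := fun ξ hξ =>
    FD.ext (locData hX hξ) (fd_cF hX h₃ ξ hξ) (stalkₗ S.f ξ) (stalkₗ S.g ξ) (stalk_exact hS ξ).1 (stalk_exact hS ξ).2.1
      (stalk_exact hS ξ).2.2 (fd_cF hX h₁ ξ hξ)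
  have hz : ∀ (ξ : X) (hξ : δ ξ = k + 1), Equivd (cF hX h₂ ξ hξ) (d ξ hξ) := fun ξ hξ => by
    obtain ⟨n, hn⟩ := exists_length_eq (len_ne_top hX h₂ hξ)
    exact FD.equivd (locData hX hξ) n _ _ hn (fd_cF hX h₂ ξ hξ) (hd ξ hξ)
  choose z hz0 hze using hz
  let P := {ξ : X // δ ξ = k + 1 ∧ Nontrivial (S.X₂.presheaf.stalk ξ)}
  let ι := Σ ξ : P, Fin (z ξ.1 ξ.2.1).length
  have hlfP : ∀ x : X, ∃ U : Set X, IsOpen U ∧ x ∈ U ∧ {ξ : P | (closure {ξ.1} ∩ U).Nonempty}.Finite := fun x => by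
    obtain ⟨U, hU, hx, hfin⟩ := locallyFinite_top_points hX.2.2 h₂ x
    exact ⟨U, hU, hx, Set.Finite.of_finite_image (hfin.subset (by
      rintro _ ⟨ξ, hξ, rfl⟩
      exact ⟨ξ.2.1, ξ.2.2, hξ⟩)) Subtype.val_injective.injOn⟩
  let f : (i : ι) → X.residueField i.1.1 :=
    fun i => (((z i.1.1 i.1.2.1).get i.2).1 : X.residueField i.1.1) ^ (-((z i.1.1 i.1.2.1).get i.2).2)
  have hlf : ∀ x : X, ∃ U : Set X, IsOpen U ∧ x ∈ U ∧ {i : ι | (closure {i.1.1} ∩ U).Nonempty}.Finite := fun x => by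
    obtain ⟨U, hU, hx, hfin⟩ := hlfP x
    refine ⟨U, hU, hx, (hfin.biUnion fun ξ _ => Set.finite_range (Sigma.mk ξ : _ → ι)).subset ?_⟩
    rintro ⟨ξ, j⟩ h
    exact Set.mem_biUnion (x := ξ) h ⟨j, rfl⟩
  have hf0 : ∀ i : ι, ((z i.1.1 i.1.2.1).get i.2).1 ≠ 0 := fun i => hz0 _ _ _ (List.get_mem _ _)
  refine ⟨ι, fun i => i.1.1, f, fun i => i.1.2.1, fun i => zpow_ne_zero _ (hf0 i), hlf, fun x => ?_⟩
  by_cases hxk : δ x = k
  swap
  · rw [finsum_eq_zero_of_forall_eq_zero fun i : ι => dif_neg (fun h => hxk (by have := h.2; rw [i.1.2.1] at this; omega))]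
    simp [Theta, hxk]
  obtain ⟨x', rfl⟩ : ∃ x' : {x : X // δ x = k}, x'.1 = x := ⟨⟨x, hxk⟩, rfl⟩
  have hT : ∀ {F : X.Modules} (hF : Cyc.CohLe δ (k + 1) F), Theta hX k F x'.1 = theta hX x' hF (cF hX hF) :=
    fun {F} hF => dif_pos ⟨hxk, hF⟩
  rw [Pi.sub_apply, Pi.add_apply, hT h₁, hT h₂, hT h₃,
    ← theta_concat hX x' hS h₁ h₂ h₃ (fd_cF hX h₁) (fd_cF hX h₃), theta_sub hX x' h₂ (fd_cF hX h₂) hd]
  set L := LinearMap.range (muF hX x' h₂)
  have hLc : ∀ i : Up δ k x'.1, IsLat {pI x' i} (cmp L i) := fun i => isLat_cmp (isLat_range hX x' h₂) i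
  -- the finite index sets
  have hTfin : {ξ : P | ξ.1 ⤳ x'.1}.Finite := by
    obtain ⟨U, hU, hx, hfin⟩ := hlfP x'.1
    exact hfin.subset fun ξ hξ => ⟨x'.1, specializes_iff_mem_closure.mp hξ, hx⟩
  set T := hTfin.toFinset
  rw [finsum_eq_sum_of_support_subset (fun i : ι => Cyc.divFun δ i.1.1 (f i) x'.1)
    (s := T.sigma fun _ => Finset.univ) ?_, Finset.sum_sigma]
  swap
  · intro i hi
    refine Finset.mem_coe.2 (Finset.mem_sigma.2 ⟨hTfin.mem_toFinset.2 ?_, Finset.mem_univ _⟩)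
    by_contra h
    exact hi (dif_neg fun h' => h h'.1)
  let e : {ξ // ξ ∈ T} → Up δ k x'.1 := fun ξ => ⟨ξ.1.1, ξ.1.2.1, hTfin.mem_toFinset.1 ξ.2⟩
  rw [finsum_eq_sum_of_support_subset _ (s := T.attach.image e) ?_,
    Finset.sum_image (g := e) (fun a _ b _ h => Subtype.ext (Subtype.ext (congrArg (fun i : Up δ k x'.1 => i.1) h))),
    ← Finset.sum_attach T]
  · refine Finset.sum_congr rfl fun ξ _ => ?_
    refine (hze (e ξ).1 (e ξ).2.1 (dn x' (e ξ)) (cmp L (e ξ)) (hLc (e ξ))).trans ?_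
    rw [← Fin.sum_univ_fun_getElem]
    refine Finset.sum_congr rfl fun j _ => ?_
    have hdiv : ξ.1.1 ⤳ x'.1 ∧ δ x'.1 + 1 = δ ξ.1.1 := ⟨(e ξ).2.2, by rw [x'.2, ξ.1.2.1]⟩
    let g : X.residueField ξ.1.1 := ((z ξ.1.1 ξ.1.2.1).get j).1
    have hg : g ≠ 0 := hf0 ⟨ξ.1, j⟩
    let n : ℤ := ((z ξ.1.1 ξ.1.2.1).get j).2
    have key : n * dv (A := X.presheaf.stalk ξ.1.1) (R := Rt δ k ξ.1.1) (dn x' (e ξ)) g =
        Cyc.divFun δ ξ.1.1 (g ^ (-n)) x'.1 := by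
      rw [divFun_zpow hX hg, Cyc.divFun, dif_pos hdiv, dv_eq hX ξ.1.2.1 (dn x' (e ξ)) hg, mul_neg, neg_mul]
    exact key
  · intro i hi
    have hne : Nontrivial (S.X₂.presheaf.stalk i.1) := by
      by_contra hn
      have : Subsingleton (Vloc x' S.X₂ i) := not_nontrivial_iff_subsingleton.1 hn
      exact hi (by
        show degAt x' _ i _ - degAt x' _ i _ = 0
        rw [degAt_subsingleton x' (fd_cF hX h₂) i this, degAt_subsingleton x' hd i this, sub_zero])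
    refine Finset.mem_coe.2 (Finset.mem_image.2 ⟨⟨⟨i.1, i.2.1, hne⟩, hTfin.mem_toFinset.2 i.2.2⟩,
      Finset.mem_attach _ _, rfl⟩)

theorem Theta_of_le (hX : Cyc.IsSetup X δ) {F : X.Modules} (hF : Cyc.CohLe δ k F) :
    Theta hX k F = Cyc.sheafFun δ k F := by
  classical
  funext x
  by_cases hxk : δ x = k
  swap
  · rw [sheafFun_eq_zero_of_ne hxk]
    exact dif_neg fun h => hxk h.1
  have hF' : Cyc.CohLe δ (k + 1) F := cohLe_mono (by omega) hF
  rw [Theta, dif_pos ⟨hxk, hF'⟩, Cyc.sheafFun, if_pos hxk]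
  obtain ⟨x', rfl⟩ : ∃ x' : {x : X // δ x = k}, x'.1 = x := ⟨⟨x, hxk⟩, rfl⟩
  have hsub : ∀ i : Up δ k x'.1, Subsingleton (Vloc x' F i) := fun i =>
    not_nontrivial_iff_subsingleton.1 fun hn => by have := hF.2 i.1 hn; have := i.2.1; omega
  have hker : LinearMap.ker (muF hX x' hF') = ⊤ := eq_top_iff.2 fun t _ =>
    LinearMap.mem_ker.2 (DFinsupp.ext fun i => Subsingleton.elim _ _)
  have h0 : prodDeg (degAt x' (cF hX hF')) (LinearMap.range (muF hX x' hF')) = 0 := by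
    rw [prodDeg_of_split _ fun v _ i => by
      rw [Subsingleton.elim (v i) 0, map_zero]; exact zero_mem _]
    exact finsum_eq_zero_of_forall_eq_zero fun i => degAt_subsingleton x' (fd_cF hX hF') i (hsub i) _
  unfold theta
  rw [h0, add_zero, hker, Module.length_top]

theorem isRat_of_toQuot_eq (hX : Cyc.IsSetup X δ) {F G : X.Modules} (hF : Cyc.CohLe δ k F)
    (hG : Cyc.CohLe δ k G)
    (h : Cyc.toK0CohQuot δ (k + 1) (k - 1) F = Cyc.toK0CohQuot δ (k + 1) (k - 1) G) :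
    IsRat δ k (Cyc.sheafFun δ k F - Cyc.sheafFun δ k G) := by
  let R := ratSub hX k
  let Θ : X.Modules → (X → ℤ) ⧸ R := fun M => QuotientAddGroup.mk (Theta hX k M)
  have hadd : ∀ S : ShortComplex X.Modules, S.ShortExact → Cyc.CohLe δ (k + 1) S.X₁ →
      Cyc.CohLe δ (k + 1) S.X₂ → Cyc.CohLe δ (k + 1) S.X₃ → Θ S.X₂ = Θ S.X₁ + Θ S.X₃ := fun S hS h₁ h₂ h₃ =>
    (QuotientAddGroup.eq_iff_sub_mem (N := R)).2 (isRat_Theta hX hS h₁ h₂ h₃)
  let φ := liftSub (Cyc.CohLe δ (k + 1)) Θ hadd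
  have hφ : ∀ M, Cyc.CohLe δ (k + 1) M → φ (KZero.clSub (Cyc.CohLe δ (k + 1)) M) = Θ M :=
    fun M hM => liftSub_clSub _ _ hM
  let ψ : Cyc.K0CohQuot δ (k + 1) (k - 1) →+ (X → ℤ) ⧸ R := QuotientAddGroup.lift _ φ (by
    rw [AddSubgroup.closure_le]
    rintro c ⟨M, hM, rfl⟩
    rw [SetLike.mem_coe, AddMonoidHom.mem_ker, hφ M (cohLe_mono (by omega) hM)]
    show QuotientAddGroup.mk (Theta hX k M) = 0
    rw [Theta_of_le hX (cohLe_mono (by omega) hM)]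
    convert QuotientAddGroup.mk_zero R using 2
    funext x
    unfold Cyc.sheafFun
    split_ifs with hx
    · rw [Module.length_eq_zero_iff.2 (not_nontrivial_iff_subsingleton.1 fun hn => by
        have := hM.2 x hn; omega)]
      rfl
    · rfl)
  have e := congrArg ψ h
  change φ _ = φ _ at e
  rw [hφ F (cohLe_mono (by omega) hF), hφ G (cohLe_mono (by omega) hG)] at e
  have := (QuotientAddGroup.eq_iff_sub_mem (N := R)).1 e
  rwa [Theta_of_le hX hF, Theta_of_le hX hG] at this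

theorem ratEquivZero_of_toQuot_eq (hX : Cyc.IsSetup X δ) (α : AlgebraicCycle X ℤ) (hα : α ∈ Cyc.Zk X δ k)
    (h : Cyc.toK0CohQuot δ (k + 1) (k - 1) (Cyc.cycleSheafPos ⇑α) =
      Cyc.toK0CohQuot δ (k + 1) (k - 1) (Cyc.cycleSheafNeg ⇑α)) : Cyc.RatEquivZero δ k α := by
  have hαk : ∀ ξ, α ξ ≠ 0 → δ ξ = k := fun ξ h => by
    by_contra hne
    exact h (hα ξ hne)
  have hlf := lfSupp_cycle α
  obtain ⟨ι, ξ, f, h1, h2, h3, h4⟩ :=
    isRat_of_toQuot_eq hX (cohLe_pos hX hαk hlf) (cohLe_neg hX hαk hlf) h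
  exact ⟨ι, ξ, f, h1, h2, h3, fun x => by rw [← h4, Pi.sub_apply, sheafFun_pos_sub_neg hX hαk hlf]⟩

end Groth.ChowK
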