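import Groth.Agent.ChowK.RatLocal
import Groth.Agent.ChowK.DegExt

/-!
# The local invariant at points of dimension `k`
-/

set_option autoImplicit false
set_option linter.style.haveILetI false
universe u

open CategoryTheory CategoryTheory.Limits AlgebraicGeometry TopologicalSpace

namespace Groth.ChowK

open Groth.QCohMod Groth.KTheory Groth.KTheory.LocFree

variable {X : Scheme.{u}} {δ : X → ℤ} {k : ℤ}

/-- The point as a point of the closure of a generalisation. -/
abbrev dn (x : {x : X // δ x = k}) (i : Up δ k x.1) : Dn δ k i.1 := ⟨x.1, x.2, i.2.2⟩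

/-- The stalk at a generalisation, over the local ring at `x`. -/
def Vloc (x : {x : X // δ x = k}) (F : X.Modules) (i : Up δ k x.1) : Type u :=
  Res (X.presheaf.stalk i.1) (Rt δ k i.1) (dn x i) (F.presheaf.stalk i.1)

noncomputable instance instAddCommGroupVloc (x : {x : X // δ x = k}) (F : X.Modules) (i : Up δ k x.1) :
    AddCommGroup (Vloc x F i) :=
  inferInstanceAs (AddCommGroup (Res (X.presheaf.stalk i.1) (Rt δ k i.1) (dn x i) (F.presheaf.stalk i.1)))

noncomputable instance instModuleVloc (x : {x : X // δ x = k}) (F : X.Modules) (i : Up δ k x.1) :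
    Module (X.presheaf.stalk x.1) (Vloc x F i) :=
  inferInstanceAs (Module (Rt δ k i.1 (dn x i))
    (Res (X.presheaf.stalk i.1) (Rt δ k i.1) (dn x i) (F.presheaf.stalk i.1)))

/-- The prime of a generalisation. -/
noncomputable abbrev pI (x : {x : X // δ x = k}) (i : Up δ k x.1) : Ideal (X.presheaf.stalk x.1) :=
  (Groth.Cycles.genPrime i.2.2).asIdeal

/-- The map to the stalk at a generalisation. -/
noncomputable def spL (x : {x : X // δ x = k}) (F : X.Modules) (i : Up δ k x.1) :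
    F.presheaf.stalk x.1 →ₗ[X.presheaf.stalk x.1] Vloc x F i where
  toFun t := sp F i.2.2 t
  map_add' := map_add (sp F i.2.2)
  map_smul' r t := sp_smul F i.2.2 r t

/-- A map of modules on the stalks at a generalisation. -/
noncomputable def mapV (x : {x : X // δ x = k}) {F G : X.Modules} (φ : F ⟶ G) (i : Up δ k x.1) :
    Vloc x F i →ₗ[X.presheaf.stalk x.1] Vloc x G i :=
  rmap (R := Rt δ k i.1) (dn x i) (stalkₗ φ i.1)

theorem mapV_spL (x : {x : X // δ x = k}) {F G : X.Modules} (φ : F ⟶ G) (i : Up δ k x.1)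
    (t : F.presheaf.stalk x.1) : mapV x φ i (spL x F i t) = spL x G i (stalkₗ φ x.1 t) :=
  (sp_natural φ i.2.2 t).symm

variable [IsLocallyNoetherian X]

theorem len_ne_top (hX : Cyc.IsSetup X δ) {F : X.Modules} (hF : Cyc.CohLe δ (k + 1) F) {ξ : X}
    (hξ : δ ξ = k + 1) : Module.length (X.presheaf.stalk ξ) (F.presheaf.stalk ξ) ≠ ⊤ :=
  Groth.Cycles.length_stalk_ne_top_of_le hX hF.1 hF.2 ξ hξ

theorem sumData (hX : Cyc.IsSetup X δ) (x : {x : X // δ x = k}) {F : X.Modules}
    (hF : Cyc.CohLe δ (k + 1) F) : SumData (pI x) (V := Vloc x F) where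
  supp i := supp_fl (locData hX i.2.1) (len_ne_top hX hF i.2.1) (dn x i)
  prime i := (Groth.Cycles.genPrime i.2.2).isPrime
  incomp i j h := Subtype.ext (Groth.Cycles.eq_of_specializes_of_delta_le hX.2.2
    (specializes_of_genPrime_le i.2.2 j.2.2 h) (by rw [i.2.1, j.2.1]))
  fin := by
    obtain ⟨U, hU, hxU, hfin⟩ := locallyFinite_top_points hX.2.2 hF x.1
    refine Set.Finite.of_finite_image (hfin.subset ?_) Subtype.val_injective.injOn
    rintro _ ⟨i, hi, rfl⟩
    exact ⟨i.2.1, not_subsingleton_iff_nontrivial.1 hi, x.1, specializes_iff_mem_closure.mp i.2.2, hxU⟩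

open Classical in
/-- The map into the sum of the stalks at the generalisations. -/
noncomputable def muF (hX : Cyc.IsSetup X δ) (x : {x : X // δ x = k}) {F : X.Modules}
    (hF : Cyc.CohLe δ (k + 1) F) : F.presheaf.stalk x.1 →ₗ[X.presheaf.stalk x.1] Π₀ i, Vloc x F i where
  toFun t := DFinsupp.mk (sumData hX x hF).fin.toFinset fun i => spL x F i.1 t
  map_add' s t := DFinsupp.ext fun i => by
    simp only [DFinsupp.mk_apply, DFinsupp.add_apply]
    split_ifs <;> simp
  map_smul' r t := DFinsupp.ext fun i => by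
    simp only [DFinsupp.mk_apply, DFinsupp.smul_apply, RingHom.id_apply]
    split_ifs <;> simp

theorem muF_apply (hX : Cyc.IsSetup X δ) (x : {x : X // δ x = k}) {F : X.Modules}
    (hF : Cyc.CohLe δ (k + 1) F) (t : F.presheaf.stalk x.1) (i : Up δ k x.1) :
    muF hX x hF t i = spL x F i t := by
  classical
  simp only [muF, LinearMap.coe_mk, AddHom.coe_mk, DFinsupp.mk_apply]
  split_ifs with h
  · rfl
  · have : Subsingleton (Vloc x F i) := not_not.1 fun hn => h ((sumData hX x hF).fin.mem_toFinset.2 hn)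
    exact Subsingleton.elim _ _

theorem finite_stalk_x {F : X.Modules} (hF : Coh.IsCoh F) (x : X) :
    Module.Finite (X.presheaf.stalk x) (F.presheaf.stalk x) :=
  Groth.FlatMor2.FibCrit.finite_stalk_of_isCoh F hF x

theorem isLat_range (hX : Cyc.IsSetup X δ) (x : {x : X // δ x = k}) {F : X.Modules}
    (hF : Cyc.CohLe δ (k + 1) F) : IsLat (Set.range (pI x)) (LinearMap.range (muF hX x hF)) := by
  classical
  have hS := sumData hX x hF
  have := finite_stalk_x hF.1 x.1
  refine ⟨Module.Finite.iff_fg.1 (Module.Finite.range _), ?_⟩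
  rintro v _ ⟨i, rfl⟩
  obtain ⟨s, hs, t, ht⟩ := exists_sp_eq_smul hF.1 i.2.2 (show F.presheaf.stalk i.1 from v i)
  have hst : muF hX x hF t i = s • v i := (muF_apply hX x hF t i).trans ht
  have hkill : ∀ (w : Π₀ j, Vloc x F j) (j : Up δ k x.1), ∃ r, r ∉ pI x i ∧ (j ≠ i → r • w j = 0) := by
    intro w j
    by_cases hj : j = i
    · exact ⟨1, fun h1 => (hS.prime i).ne_top ((Ideal.eq_top_iff_one _).2 h1), fun h => absurd hj h⟩
    · obtain ⟨r, hr, hrz⟩ := hS.kill hj (w j)
      exact ⟨r, hr, fun _ => hrz⟩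
  choose k₁ hk₁ hk₁z using hkill v
  choose k₂ hk₂ hk₂z using hkill (muF hX x hF t)
  set S := hS.fin.toFinset
  let K := ∏ j ∈ S, k₁ j * k₂ j
  have hK : K ∉ pI x i := fun hmem => by
    obtain ⟨j, -, hj⟩ := (hS.prime i).prod_mem_iff.1 hmem
    exact (hS.prime i).mul_notMem (hk₁ j) (hk₂ j) hj
  refine ⟨K * s, (hS.prime i).mul_notMem hK hs, K • t, ?_⟩
  refine DFinsupp.ext fun j => ?_
  rw [map_smul, DFinsupp.smul_apply, DFinsupp.smul_apply]
  by_cases hj : j = i
  · subst hj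
    rw [hst, mul_smul]
  · by_cases hjS : j ∈ S
    · have e : K = (∏ l ∈ S.erase j, k₁ l * k₂ l) * (k₁ j * k₂ j) := (Finset.prod_erase_mul _ _ hjS).symm
      have z1 : K • muF hX x hF t j = 0 := by
        rw [e, mul_smul, mul_smul, hk₂z j hj, smul_zero, smul_zero]
      have z2 : K • v j = 0 := by
        rw [e, mul_comm (k₁ j), mul_smul, mul_smul, hk₁z j hj, smul_zero, smul_zero]
      rw [z1, mul_comm K s, mul_smul, z2, smul_zero]
    · have : Subsingleton (Vloc x F j) := not_not.1 fun hn => hjS (hS.fin.mem_toFinset.2 hn)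
      exact Subsingleton.elim _ _

theorem length_ker_muF_ne_top (hX : Cyc.IsSetup X δ) (x : {x : X // δ x = k}) {F : X.Modules}
    (hF : Cyc.CohLe δ (k + 1) F) :
    Module.length (X.presheaf.stalk x.1) (LinearMap.ker (muF hX x hF)) ≠ ⊤ := by
  have := finite_stalk_x hF.1 x.1
  refine Groth.KTheory.Devissage.length_ne_top_of_forall_isMaximal fun q hq hann => ?_
  obtain ⟨G, hG⟩ := Module.Finite.fg_top (R := X.presheaf.stalk x.1) (M := LinearMap.ker (muF hX x hF))
  have hle : G.inf (fun g => LinearMap.ker (LinearMap.toSpanSingleton (X.presheaf.stalk x.1) _ g)) ≤ q := by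
    refine le_trans (fun r hr => ?_) hann
    rw [Module.mem_annihilator]
    intro m
    have hm : m ∈ Submodule.span (X.presheaf.stalk x.1) (G : Set (LinearMap.ker (muF hX x hF))) :=
      hG.symm ▸ Submodule.mem_top
    induction hm using Submodule.span_induction with
    | mem g hg =>
      have := Finset.inf_le (f := fun g => LinearMap.ker
        (LinearMap.toSpanSingleton (X.presheaf.stalk x.1) _ g)) hg hr
      simpa using this
    | zero => exact smul_zero r
    | add a b _ _ ha hb => rw [smul_add, ha, hb, add_zero]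
    | smul a b _ hb => rw [smul_comm, hb, smul_zero]
  obtain ⟨g, -, hgq⟩ := hq.inf_le'.1 hle
  obtain ⟨y, hy, hyq, hne⟩ := nontrivial_of_ann_le hF.1 (t := g.1) (q := ⟨q, hq⟩) fun r hr =>
    hgq (LinearMap.mem_ker.2 (Subtype.ext hr))
  have hδy : δ y ≤ k + 1 := hF.2 y ⟨⟨_, 0, hne⟩⟩
  by_cases he : y = x.1
  · subst he
    have hq' : q = IsLocalRing.maximalIdeal (X.presheaf.stalk x.1) :=
      (congrArg PrimeSpectrum.asIdeal hyq).symm.trans (congrArg PrimeSpectrum.asIdeal (genPrime_rfl x.1))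
    rw [hq']
    exact IsLocalRing.maximalIdeal.isMaximal _
  · have hlt := (hX.2.2 y x.1 hy he).1
    rw [x.2] at hlt
    refine absurd ?_ hne
    have := DFunLike.congr_fun (LinearMap.mem_ker.1 g.2) (⟨y, by omega, hy⟩ : Up δ k x.1)
    rwa [muF_apply] at this

/-- A chosen degree function. -/
noncomputable def cF (hX : Cyc.IsSetup X δ) {F : X.Modules} (hF : Cyc.CohLe δ (k + 1) F) (ξ : X)
    (hξ : δ ξ = k + 1) : Fns (X.presheaf.stalk ξ) (Rt δ k ξ) (F.presheaf.stalk ξ) :=
  Classical.choose (exists_fd (Rt δ k ξ) _ (ENat.coe_toNat (len_ne_top hX hF hξ)).symm)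

theorem fd_cF (hX : Cyc.IsSetup X δ) {F : X.Modules} (hF : Cyc.CohLe δ (k + 1) F) (ξ : X)
    (hξ : δ ξ = k + 1) : FD (F.presheaf.stalk ξ) (cF hX hF ξ hξ) :=
  Classical.choose_spec (exists_fd (Rt δ k ξ) _ (ENat.coe_toNat (len_ne_top hX hF hξ)).symm)

theorem fd_subsingleton {A : Type u} [CommRing A] [IsLocalRing A] {T : Type u} {R : T → Type u}
    [∀ t, CommRing (R t)] [∀ t, Algebra (R t) A] {V : Type u} [AddCommGroup V] [Module A V] [Subsingleton V]
    {c : Fns A R V} (h : FD V c) (t : T) (L : Submodule (R t) (Res A R t V)) : c t L = 0 := by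
  rcases h.normal with ⟨-, h0⟩ | ⟨q, -, hq, -, -⟩
  · exact h0 t L
  · obtain ⟨v, hv⟩ := hq 1
    rw [Subsingleton.elim v 0, map_zero] at hv
    exact absurd hv zero_ne_one

/-- The degrees at `x` of a family of degree functions. -/
noncomputable def degAt (x : {x : X // δ x = k}) {F : X.Modules}
    (c : ∀ ξ, δ ξ = k + 1 → Fns (X.presheaf.stalk ξ) (Rt δ k ξ) (F.presheaf.stalk ξ)) (i : Up δ k x.1) :
    Submodule (X.presheaf.stalk x.1) (Vloc x F i) → ℤ :=
  c i.1 i.2.1 (dn x i)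

theorem isDeg_degAt (hX : Cyc.IsSetup X δ) (x : {x : X // δ x = k}) {F : X.Modules}
    {c : ∀ ξ, δ ξ = k + 1 → Fns (X.presheaf.stalk ξ) (Rt δ k ξ) (F.presheaf.stalk ξ)}
    (hc : ∀ ξ hξ, FD (F.presheaf.stalk ξ) (c ξ hξ)) (i : Up δ k x.1) : IsDeg {pI x i} (degAt x c i) :=
  FD.isDeg (locData hX i.2.1) (hc i.1 i.2.1) (dn x i)

theorem degAt_subsingleton (x : {x : X // δ x = k}) {F : X.Modules}
    {c : ∀ ξ, δ ξ = k + 1 → Fns (X.presheaf.stalk ξ) (Rt δ k ξ) (F.presheaf.stalk ξ)}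
    (hc : ∀ ξ hξ, FD (F.presheaf.stalk ξ) (c ξ hξ)) (i : Up δ k x.1) (hi : Subsingleton (Vloc x F i))
    (L : Submodule (X.presheaf.stalk x.1) (Vloc x F i)) : degAt x c i L = 0 :=
  haveI : Subsingleton (F.presheaf.stalk i.1) := hi
  fd_subsingleton (hc i.1 i.2.1) (dn x i) L

open Classical in
/-- The invariant at `x`. -/
noncomputable def theta (hX : Cyc.IsSetup X δ) (x : {x : X // δ x = k}) {F : X.Modules}
    (hF : Cyc.CohLe δ (k + 1) F)
    (c : ∀ ξ, δ ξ = k + 1 → Fns (X.presheaf.stalk ξ) (Rt δ k ξ) (F.presheaf.stalk ξ)) : ℤ :=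
  ((Module.length (X.presheaf.stalk x.1) (LinearMap.ker (muF hX x hF))).toNat : ℤ) +
    prodDeg (degAt x c) (LinearMap.range (muF hX x hF))

theorem stalk_exact {S : ShortComplex X.Modules} (hS : S.ShortExact) (y : X) :
    Function.Injective (stalkₗ S.f y) ∧ Function.Surjective (stalkₗ S.g y) ∧
      Function.Exact (stalkₗ S.f y) (stalkₗ S.g y) := by
  have := hS.mono_f
  have := hS.epi_g
  refine ⟨(mono_iff_stalk S.f).mp inferInstance y, (epi_iff_stalk S.g).mp inferInstance y, fun t => ?_⟩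
  have h' := hS.exact.map (stalk y)
  rw [ShortComplex.ab_exact_iff] at h'
  refine ⟨fun ht => h' t ht, ?_⟩
  rintro ⟨u, rfl⟩
  exact congr($((S.map (stalk y)).zero) u)

/-- Step two: the invariant is additive for concatenated degree functions. -/
theorem theta_concat (hX : Cyc.IsSetup X δ) (x : {x : X // δ x = k}) {S : ShortComplex X.Modules}
    (hS : S.ShortExact) (h₁ : Cyc.CohLe δ (k + 1) S.X₁) (h₂ : Cyc.CohLe δ (k + 1) S.X₂)
    (h₃ : Cyc.CohLe δ (k + 1) S.X₃)
    {c₁ : ∀ ξ, δ ξ = k + 1 → Fns (X.presheaf.stalk ξ) (Rt δ k ξ) (S.X₁.presheaf.stalk ξ)}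
    (hc₁ : ∀ ξ hξ, FD (S.X₁.presheaf.stalk ξ) (c₁ ξ hξ))
    {c₃ : ∀ ξ, δ ξ = k + 1 → Fns (X.presheaf.stalk ξ) (Rt δ k ξ) (S.X₃.presheaf.stalk ξ)}
    (hc₃ : ∀ ξ hξ, FD (S.X₃.presheaf.stalk ξ) (c₃ ξ hξ)) :
    theta hX x h₂ (fun ξ hξ t L => c₁ ξ hξ t (L.comap (rmap t (stalkₗ S.f ξ))) +
        c₃ ξ hξ t (L.map (rmap t (stalkₗ S.g ξ)))) = theta hX x h₁ c₁ + theta hX x h₃ c₃ := by
  classical
  obtain ⟨hf, hg, hfg⟩ := stalk_exact hS x.1
  have hi := fun i : Up δ k x.1 => stalk_exact hS i.1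
  obtain ⟨hI, -, hIQ⟩ := dfinsupp_exact (mapV x S.f) (mapV x S.g) (fun i => (hi i).1) (fun i => (hi i).2.1)
    fun i => (hi i).2.2
  set I := DFinsupp.mapRange.linearMap (mapV x S.f) with hIdef
  set Q := DFinsupp.mapRange.linearMap (mapV x S.g) with hQdef
  have e1 : ∀ m, muF hX x h₂ (stalkₗ S.f x.1 m) = I (muF hX x h₁ m) := fun m => DFinsupp.ext fun i => by
    rw [hIdef, DFinsupp.mapRange.linearMap_apply, DFinsupp.mapRange_apply, muF_apply, muF_apply, mapV_spL]
  have e2 : ∀ m, muF hX x h₃ (stalkₗ S.g x.1 m) = Q (muF hX x h₂ m) := fun m => DFinsupp.ext fun i => by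
    rw [hQdef, DFinsupp.mapRange.linearMap_apply, DFinsupp.mapRange_apply, muF_apply, muF_apply, mapV_spL]
  have hlen := length_ker_snake hf hg hfg hI hIQ e1 e2 (length_ker_muF_ne_top hX x h₂)
    (length_ker_muF_ne_top hX x h₃)
  have hmap : (LinearMap.range (muF hX x h₂)).map Q = LinearMap.range (muF hX x h₃) := by
    refine le_antisymm ?_ ?_
    · rintro _ ⟨_, ⟨m, rfl⟩, rfl⟩
      exact ⟨_, e2 m⟩
    · rintro _ ⟨m, rfl⟩
      obtain ⟨n, rfl⟩ := hg m
      exact ⟨_, ⟨n, rfl⟩, (e2 n).symm⟩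
  have hle : LinearMap.range (muF hX x h₁) ≤ (LinearMap.range (muF hX x h₂)).comap I := by
    rintro _ ⟨m, rfl⟩
    exact ⟨_, e1 m⟩
  have hdeg := isDeg_prodDeg (sumData hX x h₁) (fun i => isDeg_degAt hX x hc₁ i) (degAt_subsingleton x hc₁)
    _ _ (isLat_range hX x h₁) ((isLat_range hX x h₂).comap hI) hle
  have hext := prodDeg_ext (sumData hX x h₁) (sumData hX x h₂) (sumData hX x h₃) (a := mapV x S.f)
    (b := mapV x S.g) (fun i => (hi i).1) (fun i => (hi i).2.1) (fun i => (hi i).2.2)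
    (fun i => isDeg_degAt hX x hc₁ i) (degAt_subsingleton x hc₁)
    (fun i => isDeg_degAt hX x hc₃ i) (degAt_subsingleton x hc₃) (isLat_range hX x h₂)
  rw [← hIdef, ← hQdef, hmap, hdeg] at hext
  unfold theta
  change _ + prodDeg (fun i M => degAt x c₁ i (M.comap (mapV x S.f i)) + degAt x c₃ i (M.map (mapV x S.g i))) _ = _
  omega

end Groth.ChowK
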