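import Groth.Agent.Misc6.DevissageSupp
import Groth.Agent.KTheory.Devissage

/-!
# Locally finite direct sums of coherent modules
-/

set_option autoImplicit false
universe u

open CategoryTheory CategoryTheory.Limits AlgebraicGeometry TopologicalSpace

namespace Groth.ChowK

open Groth.QCohMod Groth.KTheory.LocFree

variable {X : Scheme.{u}}

/-- Locally, only finitely many members of the family have nonzero stalks. -/
def LocFin {ι : Type u} (M : ι → X.Modules) : Prop :=
  ∀ x : X, ∃ U : X.Opens, x ∈ U ∧ {i | (CohB1.support (M i) ∩ (U : Set X)).Nonempty}.Finite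

theorem locFin_of_subset {ι : Type u} {M : ι → X.Modules} (S : ι → Set X) (h : ∀ i, CohB1.support (M i) ⊆ S i)
    (hS : ∀ x : X, ∃ U : Set X, IsOpen U ∧ x ∈ U ∧ {i | (S i ∩ U).Nonempty}.Finite) : LocFin M := fun x => by
  obtain ⟨U, hU, hx, hfin⟩ := hS x
  exact ⟨⟨U, hU⟩, hx, hfin.subset fun i hi => hi.mono (Set.inter_subset_inter_left _ (h i))⟩

theorem LocFin.finite_at {ι : Type u} {M : ι → X.Modules} (hM : LocFin M) (x : X) :
    {i | Nontrivial ((M i).presheaf.stalk x)}.Finite := by
  obtain ⟨U, hx, hfin⟩ := hM x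
  exact hfin.subset fun i hi => ⟨x, not_subsingleton_iff_nontrivial.mpr hi, hx⟩

theorem LocFin.finite_affine {ι : Type u} {M : ι → X.Modules} (hM : LocFin M) {V : X.Opens}
    (hV : IsAffineOpen V) : {i | (CohB1.support (M i) ∩ (V : Set X)).Nonempty}.Finite := by
  choose U hxU hfin using hM
  obtain ⟨t, ht⟩ := hV.isCompact.elim_finite_subcover (fun x => (U x : Set X)) (fun x => (U x).2)
    (fun x _ => Set.mem_iUnion.mpr ⟨x, hxU x⟩)
  refine (t.finite_toSet.biUnion fun x _ => hfin x).subset fun i hi => ?_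
  obtain ⟨y, hy, hyV⟩ := hi
  obtain ⟨x, hxt, hyx⟩ := Set.mem_iUnion₂.mp (ht hyV)
  exact Set.mem_biUnion hxt ⟨y, hy, hyx⟩

theorem stalkₗ_ι_apply {ι : Type u} {M N : ι → X.Modules} (f : ∀ i, M i ⟶ N i) (x : X) (i : ι)
    (t : (M i).presheaf.stalk x) :
    stalkₗ (Limits.Sigma.map f) x (stalkₗ (Sigma.ι M i) x t) =
      stalkₗ (Sigma.ι N i) x (stalkₗ (f i) x t) := by
  have h : Sigma.ι M i ≫ Limits.Sigma.map f = f i ≫ Sigma.ι N i := Limits.Sigma.ι_map _ _
  have h1 := congr((stalk x).map $h)
  rw [(stalk x).map_comp, (stalk x).map_comp] at h1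
  exact congr($h1 t)

theorem stalkₗ_desc_apply {ι : Type u} {M : ι → X.Modules} {N : X.Modules} (g : ∀ i, M i ⟶ N) (x : X)
    (i : ι) (t : (M i).presheaf.stalk x) :
    stalkₗ (Sigma.desc g) x (stalkₗ (Sigma.ι M i) x t) = stalkₗ (g i) x t := by
  have h : Sigma.ι M i ≫ Sigma.desc g = g i := colimit.ι_desc _ _
  have h1 := congr((stalk x).map $h)
  rw [(stalk x).map_comp] at h1
  exact congr($h1 t)

open scoped Classical in
/-- The projection of a coproduct to one of its terms. -/
noncomputable def proj {ι : Type u} (M : ι → X.Modules) (i : ι) : (∐ M) ⟶ M i :=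
  Sigma.desc fun j => if h : j = i then eqToHom (congrArg M h) else 0

theorem proj_ι_self {ι : Type u} (M : ι → X.Modules) (i : ι) (x : X) (t : (M i).presheaf.stalk x) :
    stalkₗ (proj M i) x (stalkₗ (Sigma.ι M i) x t) = t := by
  rw [proj, stalkₗ_desc_apply, dif_pos rfl, eqToHom_refl]
  exact congr($((stalk x).map_id (M i)) t)

theorem proj_ι_ne {ι : Type u} (M : ι → X.Modules) {i j : ι} (h : j ≠ i) (x : X)
    (t : (M j).presheaf.stalk x) :
    stalkₗ (proj M i) x (stalkₗ (Sigma.ι M j) x t) = 0 := by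
  rw [proj, stalkₗ_desc_apply, dif_neg h]
  exact congr($((stalk x).map_zero (M j) (M i)) t)

/-- The stalk of a coproduct is spanned by the stalks of its terms. -/
theorem stalk_sigma_closure {ι : Type u} (M : ι → X.Modules) (x : X) :
    AddSubgroup.closure (⋃ i, Set.range (stalkₗ (Sigma.ι M i) x)) = ⊤ := by
  set H : AddSubgroup ((stalk x).obj (∐ M)) :=
    AddSubgroup.closure (⋃ i, Set.range (stalkₗ (Sigma.ι M i) x)) with hH
  let Q := AddCommGrpCat.of ((stalk x).obj (∐ M) ⧸ H)
  let q : (stalk x).obj (∐ M) ⟶ Q := AddCommGrpCat.ofHom (QuotientAddGroup.mk' H)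
  have hq : q = 0 := by
    refine (isColimitOfPreserves (stalk x) (coproductIsCoproduct M)).hom_ext fun ⟨i⟩ => ?_
    ext t
    exact (QuotientAddGroup.eq_zero_iff _).2 (AddSubgroup.subset_closure (Set.mem_iUnion.2 ⟨i, t, rfl⟩))
  refine eq_top_iff.2 fun s _ => ?_
  exact (QuotientAddGroup.eq_zero_iff _).1 congr($hq s)

open scoped Classical in
/-- The stalk of a coproduct with finitely many nonzero stalks is their product. -/
theorem exists_stalk_sigma_equiv {ι : Type u} (M : ι → X.Modules) (x : X) (T : Finset ι)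
    (hT : ∀ i, i ∉ T → Subsingleton ((M i).presheaf.stalk x)) :
    ∃ e : ((i : T) → (M i.1).presheaf.stalk x) ≃ₗ[X.presheaf.stalk x] (∐ M).presheaf.stalk x,
      ∀ f, e f = ∑ i, stalkₗ (Sigma.ι M i.1) x (f i) := by
  let L : ((i : T) → (M i.1).presheaf.stalk x) →ₗ[X.presheaf.stalk x] (∐ M).presheaf.stalk x :=
    ∑ i : T, (stalkₗ (Sigma.ι M i.1) x).comp (LinearMap.proj i)
  have hL : ∀ f, L f = ∑ i, stalkₗ (Sigma.ι M i.1) x (f i) := fun f => by simp [L]
  have hinj : Function.Injective L := by
    refine (injective_iff_map_eq_zero L).2 fun f hf => funext fun j => ?_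
    have := congrArg (stalkₗ (proj M j.1) x) hf
    rw [hL, map_sum, map_zero, Finset.sum_eq_single j (fun i _ hij =>
      proj_ι_ne M (fun h => hij (Subtype.ext h)) x (f i)) (fun h => absurd (Finset.mem_univ j) h),
      proj_ι_self] at this
    exact this
  have hsurj : Function.Surjective L := by
    intro s
    have hs : s ∈ AddSubgroup.closure (⋃ i, Set.range (stalkₗ (Sigma.ι M i) x)) :=
      (stalk_sigma_closure M x).symm ▸ AddSubgroup.mem_top s
    change s ∈ Set.range L
    induction hs using AddSubgroup.closure_induction with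
    | mem y hy =>
      obtain ⟨i, t, rfl⟩ := Set.mem_iUnion.1 hy
      by_cases hi : i ∈ T
      · refine ⟨Pi.single ⟨i, hi⟩ t, ?_⟩
        rw [hL, Finset.sum_eq_single (⟨i, hi⟩ : T) (fun j _ hj => by
          rw [Pi.single_eq_of_ne hj, map_zero]) (fun h => absurd (Finset.mem_univ _) h), Pi.single_eq_same]
      · have := hT i hi
        refine ⟨0, ?_⟩
        rw [map_zero, Subsingleton.elim t 0, map_zero]
    | zero => exact ⟨0, map_zero L⟩
    | add a b _ _ ha hb =>
      obtain ⟨f, rfl⟩ := ha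
      obtain ⟨g, rfl⟩ := hb
      exact ⟨f + g, map_add L f g⟩
    | neg a _ ha =>
      obtain ⟨f, rfl⟩ := ha
      exact ⟨-f, map_neg L f⟩
  exact ⟨LinearEquiv.ofBijective L ⟨hinj, hsurj⟩, hL⟩

theorem subsingleton_stalk_sigma {ι : Type u} (M : ι → X.Modules) (x : X)
    (h : ∀ i, Subsingleton ((M i).presheaf.stalk x)) : Subsingleton ((∐ M).presheaf.stalk x) := by
  obtain ⟨e, -⟩ := exists_stalk_sigma_equiv M x ∅ fun i _ => h i
  exact e.symm.toEquiv.subsingleton

theorem exists_nontrivial_of_sigma {ι : Type u} (M : ι → X.Modules) (x : X)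
    (h : Nontrivial ((∐ M).presheaf.stalk x)) : ∃ i, Nontrivial ((M i).presheaf.stalk x) := by
  by_contra hc
  push Not at hc
  exact not_subsingleton_iff_nontrivial.mpr h
    (subsingleton_stalk_sigma M x fun i => not_nontrivial_iff_subsingleton.1 (fun h' =>
      not_subsingleton_iff_nontrivial.mpr h' (hc i)))

/-- Coproducts of morphisms bijective on stalks are bijective on stalks. -/
theorem bijective_stalk_sigmaMap {ι : Type u} {M N : ι → X.Modules} (f : ∀ i, M i ⟶ N i) (x : X)
    (h : ∀ i, Function.Bijective ((stalk x).map (f i))) :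
    Function.Bijective ((stalk x).map (Limits.Sigma.map f)) := by
  have h1 : ∀ i, IsIso ((stalk x).map (f i)) := fun i => (ConcreteCategory.isIso_iff_bijective _).2 (h i)
  have h2 : IsIso (Limits.Sigma.map fun i => (stalk x).map (f i)) := by
    refine ⟨Limits.Sigma.map fun i => inv ((stalk x).map (f i)), ?_, ?_⟩ <;>
      exact Sigma.hom_ext _ _ fun i => by simp
  have e : (stalk x).map (Limits.Sigma.map f) = (PreservesCoproduct.iso (stalk x) M).hom ≫
      Limits.Sigma.map (fun a => (stalk x).map (f a)) ≫ (PreservesCoproduct.iso (stalk x) N).inv := by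
    rw [← Iso.inv_comp_eq]
    refine Sigma.hom_ext _ _ fun a => ?_
    simp only [PreservesCoproduct.inv_hom, ← Category.assoc, ι_comp_sigmaComparison, Sigma.ι_map]
    rw [Category.assoc _ _ (sigmaComparison (stalk x) N), ι_comp_sigmaComparison, ← (stalk x).map_comp,
      ← (stalk x).map_comp, Sigma.ι_map]
  refine (ConcreteCategory.isIso_iff_bijective _).1 ?_
  rw [e]
  infer_instance

theorem enat_toNat_sum {α : Type*} (s : Finset α) (f : α → ℕ∞) (h : ∀ a ∈ s, f a ≠ ⊤) :
    (∑ a ∈ s, f a).toNat = ∑ a ∈ s, (f a).toNat := by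
  rw [Finset.sum_congr rfl fun a ha => (ENat.coe_toNat (h a ha)).symm, ← Nat.cast_sum, ENat.toNat_coe]

/-- The length of the stalk of a locally finite coproduct is the sum of the lengths. -/
theorem length_stalk_sigma {ι : Type u} {M : ι → X.Modules} (hM : LocFin M) (x : X)
    (h : ∀ i, Module.length (X.presheaf.stalk x) ((M i).presheaf.stalk x) ≠ ⊤) :
    ((Module.length (X.presheaf.stalk x) ((∐ M).presheaf.stalk x)).toNat : ℤ) =
      ∑ᶠ i, ((Module.length (X.presheaf.stalk x) ((M i).presheaf.stalk x)).toNat : ℤ) := by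
  set T := (hM.finite_at x).toFinset with hT
  have hout : ∀ i, i ∉ T → Subsingleton ((M i).presheaf.stalk x) := fun i hi =>
    not_nontrivial_iff_subsingleton.1 fun hn => hi ((hM.finite_at x).mem_toFinset.2 hn)
  obtain ⟨e, -⟩ := exists_stalk_sigma_equiv M x T hout
  rw [← e.length_eq, Module.length_pi_of_fintype, enat_toNat_sum _ _ (fun i _ => h i.1), Nat.cast_sum,
    finsum_eq_sum_of_support_subset _ (s := T) ?_]
  · exact Finset.sum_coe_sort T fun i =>
      ((Module.length (X.presheaf.stalk x) ((M i).presheaf.stalk x)).toNat : ℤ)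
  · intro i hi
    by_contra hiT
    have := hout i hiT
    exact hi (by simp [Module.length_eq_zero_iff.2 this])

/-- A locally finite coproduct of coherent modules is coherent. -/
theorem isCoh_sigma [IsLocallyNoetherian X] {ι : Type u} {M : ι → X.Modules} (hM : LocFin M)
    (hcoh : ∀ i, Coh.IsCoh (M i)) : Coh.IsCoh (∐ M) := by
  classical
  have : ∀ i, (M i).IsQuasicoherent := fun i => (hcoh i).1
  refine (isCoh_iff _).mpr ⟨inferInstance, fun U hU => ?_⟩
  set T := (hM.finite_affine hU).toFinset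
  have h : ∀ i : T, Module.Finite Γ(X, U) Γ(M i.1, U) := fun i => finite_sections (M i.1) (hcoh i.1).2 hU
  let g : (∐ fun i : ULift.{u} T => M i.down.1) ⟶ ∐ M := Sigma.desc fun i => Sigma.ι M i.down.1
  have hq : (∐ fun i : ULift.{u} T => M i.down.1).IsQuasicoherent := inferInstance
  have hz : ∀ x ∈ U, Subsingleton ((cokernel g).presheaf.stalk x) := by
    intro x hx
    by_contra hne
    refine Groth.KTheory.Devissage.subsingleton_cokernel_stalk g x (fun s => ?_) hne
    obtain ⟨e, he⟩ := exists_stalk_sigma_equiv M x T fun i hi =>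
      not_nontrivial_iff_subsingleton.1 fun hn =>
        hi ((hM.finite_affine hU).mem_toFinset.2 ⟨x, not_subsingleton_iff_nontrivial.mpr hn, hx⟩)
    obtain ⟨f, rfl⟩ := e.surjective s
    refine ⟨∑ i : T, stalkₗ (Sigma.ι (fun i : ULift.{u} T => M i.down.1) ⟨i⟩) x (f i), ?_⟩
    change stalkₗ g x _ = _
    refine (map_sum (stalkₗ g x) _ _).trans (Eq.trans ?_ (he f).symm)
    exact Finset.sum_congr rfl fun i _ =>
      stalkₗ_desc_apply (M := fun i : ULift.{u} T => M i.down.1) (fun i => Sigma.ι M i.down.1) x ⟨i⟩ (f i)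
  let L : ((i : T) → Γ(M i.1, U)) →ₗ[Γ(X, U)] Γ(∐ M, U) :=
    ∑ i : T, (Groth.Misc6.DevissageSupp.secLin (Sigma.ι M i.1) U).comp (LinearMap.proj i)
  have hsmall : Module.Finite Γ(X, U) Γ((∐ fun i : ULift.{u} T => M i.down.1), U) := by
    have key : ∀ (n : ℕ) (N : ULift.{u} (Fin n) → X.Modules), (∀ k, Coh.IsCoh (N k)) →
        Coh.IsCoh (∐ N) := by
      intro n
      induction n with
      | zero =>
        intro N _
        exact Groth.KTheory.isCoh_of_isZero (Groth.Misc6.DevissageSupp.isZero_sigma _ fun k =>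
          Fin.elim0 k.down)
      | succ n ih =>
        intro N hN
        exact isCoh_of_iso (Groth.Misc6.DevissageSum.splitIso
          (((Equiv.optionCongr Equiv.ulift.{u}).trans (finSuccEquiv n).symm).trans Equiv.ulift.{u}.symm) N).symm
          (isCoh_biprod (hN _) (ih _ fun k => hN _))
    have e : ULift.{u} T ≃ ULift.{u} (Fin T.card) := Equiv.ulift.trans (T.equivFin.trans Equiv.ulift.symm)
    have := isCoh_of_iso (Sigma.whiskerEquiv (f := fun k => M (e.symm k).down.1)
      (g := fun i : ULift.{u} T => M i.down.1) e.symm fun k => Iso.refl _)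
      (key _ _ fun k => hcoh _)
    exact ((isCoh_iff _).mp this).2 U hU
  refine Module.Finite.of_surjective (Groth.Misc6.DevissageSupp.secLin g U) fun s => ?_
  refine exists_app_eq_of_exact (S := ShortComplex.mk g (cokernel.π g) (cokernel.condition g))
    (ShortComplex.exact_of_g_is_cokernel _ (cokernelIsCokernel g)) hU s ?_
  exact Groth.Misc6.DevissageSupp.res_ext_germ' fun y hy => by
    have := hz y hy
    exact Subsingleton.elim _ _

end Groth.ChowK
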