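import Groth.Agent.ChowK.Line
import Groth.Agent.DerivedCoh.KFlat.StalkCriterion

/-!
# Twisting by an invertible module in `K₀(Coh_{≤k+1})/K₀(Coh_{≤k-1})`
-/

set_option autoImplicit false
universe u

open CategoryTheory CategoryTheory.Limits AlgebraicGeometry TopologicalSpace TensorProduct MonoidalCategory

namespace Groth.ChowK

open Groth.QCohMod Groth.KTheory Groth.KTheory.LocFree Groth.RefRank Groth.DerivedCoh.KFlat

variable {X : Scheme.{u}} {δ : X → ℤ}

/-- Tensoring on the right. -/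
noncomputable abbrev twF (L : X.Modules) : X.Modules ⥤ X.Modules := (DCoh.tensorBi (X := X)).flip.obj L

theorem isFlat_of_invertible {L : X.Modules} (hL : PicF.IsInvertible L) : FlatMod.IsFlat L := fun x => by
  obtain ⟨t, ht⟩ := Groth.Cycles.exists_basis hL x
  exact Module.Flat.of_linearEquiv
    (LinearEquiv.ofBijective (LinearMap.toSpanSingleton (X.presheaf.stalk x) _ t) ht).symm

theorem exists_stalk_twist_equiv {L : X.Modules} (hL : PicF.IsInvertible L) (M : X.Modules) (x : X) :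
    Nonempty ((CohB1.tensorMod M L).presheaf.stalk x ≃ₗ[X.presheaf.stalk x] M.presheaf.stalk x) := by
  obtain ⟨t, ht⟩ := Groth.Cycles.exists_basis hL x
  exact ⟨(stalkTensorEquiv M L x).symm.trans ((TensorProduct.congr (LinearEquiv.refl _ _)
    (LinearEquiv.ofBijective (LinearMap.toSpanSingleton (X.presheaf.stalk x) _ t) ht).symm).trans
      (TensorProduct.rid _ _))⟩

theorem support_twist {L : X.Modules} (hL : PicF.IsInvertible L) (M : X.Modules) :
    CohB1.support (CohB1.tensorMod M L) ⊆ CohB1.support M := fun x hx hs => by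
  obtain ⟨e⟩ := exists_stalk_twist_equiv hL M x
  exact hx (haveI : Subsingleton (M.presheaf.stalk x) := hs; e.toEquiv.subsingleton)

theorem sheafFun_twist {L : X.Modules} (hL : PicF.IsInvertible L) (M : X.Modules) (k : ℤ) (x : X) :
    Cyc.sheafFun δ k (CohB1.tensorMod M L) x = Cyc.sheafFun δ k M x := by
  obtain ⟨e⟩ := exists_stalk_twist_equiv hL M x
  unfold Cyc.sheafFun
  rw [e.length_eq]

/-- Tensoring commutes with coproducts. -/
theorem exists_twist_sigma (L : X.Modules) {ι : Type u} (A : ι → X.Modules) :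
    Nonempty ((∐ fun i => CohB1.tensorMod (A i) L) ≅ CohB1.tensorMod (∐ A) L) := by
  have (x : X) : PreservesColimitsOfSize.{u, u} (stk x) := (skyAdj x).leftAdjoint_preservesColimits
  have : PreservesColimit (Discrete.functor A) (twF L) := ⟨fun {c} hc => ⟨by
    refine stk_jointly.jointlyReflectsColimit fun x => ?_
    have : PreservesColimitsOfShape (Discrete ι) (tensorRight ((stk x).obj L)) :=
      preservesColimitsOfShape_of_natIso (BraidedCategory.tensorLeftIsoTensorRight ((stk x).obj L))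
    exact IsColimit.mapCoconeEquiv (tensorFlipStkIso L x).symm
      (isColimitOfPreserves (tensorRight ((stk x).obj L)) (isColimitOfPreserves (stk x) hc))⟩⟩
  exact ⟨(PreservesCoproduct.iso (twF L) A).symm⟩

theorem length_kap (ξ : X) : Module.length (X.presheaf.stalk ξ) (Kap ξ) = 1 :=
  Module.length_eq_one_iff.2
    (isSimpleModule_iff_quot_maximal.mpr ⟨_, IsLocalRing.maximalIdeal.isMaximal _, ⟨LinearEquiv.refl _ _⟩⟩)

variable [IsLocallyNoetherian X]

theorem cohLe_twist {L : X.Modules} (hL : PicF.IsInvertible L) {k : ℤ} {M : X.Modules}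
    (hM : Cyc.CohLe δ k M) : Cyc.CohLe δ k (CohB1.tensorMod M L) :=
  cohLe_of_support (Groth.RefRank.isCoh_tensorMod hM.1 (Groth.EulerDeg.isCoh_of_isInvertible hL))
    fun _ hx => CohLe.le hM (support_twist hL M hx)

/-- `[F ⊗ L] - [F]` as a function of the class of `F` modulo dimension `≤ k`. -/
theorem exists_twistSub (hX : Cyc.IsSetup X δ) {L : X.Modules} (hL : PicF.IsInvertible L) (k : ℤ) :
    ∃ θ : Cyc.K0CohQuot δ (k + 1) k →+ Cyc.K0CohQuot δ (k + 1) (k - 1),
      ∀ F : X.Modules, Cyc.CohLe δ (k + 1) F → θ (Cyc.toK0CohQuot δ (k + 1) k F) =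
        Cyc.toK0CohQuot δ (k + 1) (k - 1) (CohB1.tensorMod F L) - Cyc.toK0CohQuot δ (k + 1) (k - 1) F := by
  let g : X.Modules → Cyc.K0CohQuot δ (k + 1) (k - 1) := fun F =>
    Cyc.toK0CohQuot δ (k + 1) (k - 1) (CohB1.tensorMod F L) - Cyc.toK0CohQuot δ (k + 1) (k - 1) F
  let f := liftSub (Cyc.CohLe δ (k + 1)) g fun S hS h₁ h₂ h₃ => by
    have hT := shortExact_tensorRight_of_flat L (isFlat_of_invertible hL) S hS
    have e1 := toQuot_rel (b := k - 1) (S.map (twF L)) hT (cohLe_twist hL h₁) (cohLe_twist hL h₂)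
      (cohLe_twist hL h₃)
    have e2 := toQuot_rel (b := k - 1) S hS h₁ h₂ h₃
    change Cyc.toK0CohQuot δ (k + 1) (k - 1) (CohB1.tensorMod S.X₂ L) =
      Cyc.toK0CohQuot δ (k + 1) (k - 1) (CohB1.tensorMod S.X₁ L) +
        Cyc.toK0CohQuot δ (k + 1) (k - 1) (CohB1.tensorMod S.X₃ L) at e1
    simp only [g, e1, e2]
    abel
  have hf : ∀ F, Cyc.CohLe δ (k + 1) F → f (KZero.clSub (Cyc.CohLe δ (k + 1)) F) = g F :=
    fun F hF => liftSub_clSub _ _ hF
  refine ⟨QuotientAddGroup.lift _ f ?_, fun F hF => hf F hF⟩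
  rw [AddSubgroup.closure_le]
  rintro c ⟨F, hF, rfl⟩
  rw [SetLike.mem_coe, AddMonoidHom.mem_ker, hf F (cohLe_mono (by omega) hF)]
  exact sub_eq_zero.2 (toQuot_eq_of_sheafFun_eq hX (by omega) le_rfl (by omega) (cohLe_twist hL hF) hF
    (sheafFun_twist hL F k))

theorem finsum_posIdx {α : X → ℤ} (hα0 : ∀ ξ, 0 ≤ α ξ) (d : X → ℤ)
    (hfin : {ξ : PosPt α | d ξ.1 ≠ 0}.Finite) :
    ∑ᶠ ξ : X, α ξ * d ξ = ∑ᶠ i : PosIdx α, d i.1.1 := by
  classical
  let T : Finset (PosPt α) := hfin.toFinset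
  rw [finsum_eq_sum_of_support_subset (fun ξ => α ξ * d ξ) (s := T.image Subtype.val) ?_,
    finsum_eq_sum_of_support_subset (fun i : PosIdx α => d i.1.1) (s := T.sigma fun _ => Finset.univ) ?_,
    Finset.sum_image Subtype.val_injective.injOn, Finset.sum_sigma]
  · refine Finset.sum_congr rfl fun ξ _ => ?_
    simp only [Finset.sum_const, Finset.card_univ, Fintype.card_fin, nsmul_eq_mul]
    rw [Int.toNat_of_nonneg (hα0 ξ.1)]
  · intro i hi
    exact Finset.mem_coe.2 (Finset.mem_sigma.2 ⟨hfin.mem_toFinset.2 hi, Finset.mem_univ _⟩)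
  · intro ξ hξ
    obtain ⟨h1, h2⟩ := mul_ne_zero_iff.1 hξ
    exact Finset.mem_coe.2 (Finset.mem_image.2
      ⟨⟨ξ, lt_of_le_of_ne (hα0 ξ) (Ne.symm h1)⟩, hfin.mem_toFinset.2 h2, rfl⟩)

/-- `[F ⊗ L] - [F]` is the first Chern class of `L` applied to the cycle of `F`. -/
theorem twist_sub_eq_c1Cap (hX : Cyc.IsSetup X δ) {k : ℤ} {L : X.Modules} (hL : PicF.IsInvertible L)
    {F : X.Modules} (hF : Cyc.CohLe δ (k + 1) F) (s : (ξ : X) → Cyc.secFibre L ξ) (hs : ∀ ξ, s ξ ≠ 0)
    {γ : X → ℤ} (hγk : ∀ y, γ y ≠ 0 → δ y = k) (hγl : LFSupp γ)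
    (hγ : γ = Cyc.c1CapFun δ L (Cyc.sheafFun δ (k + 1) F) s) :
    Cyc.toK0CohQuot δ (k + 1) (k - 1) (CohB1.tensorMod F L) - Cyc.toK0CohQuot δ (k + 1) (k - 1) F =
      Cyc.toK0CohQuot δ (k + 1) (k - 1) (Cyc.cycleSheafPos γ) -
        Cyc.toK0CohQuot δ (k + 1) (k - 1) (Cyc.cycleSheafNeg γ) := by
  have hδ := hX.2.2
  obtain ⟨θ, hθ⟩ := exists_twistSub hX hL k
  let α := Cyc.sheafFun δ (k + 1) F
  have hαl : LFSupp α := lfSupp_sheafFun hX hF
  have hαk : ∀ ξ, 0 < α ξ → δ ξ = k + 1 := fun ξ h => ((sheafFun_pos_iff hX hF ξ).1 h).1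
  have hlf := posIdx_locFin hαl.pos
  let p : PosIdx α → X := fun i => i.1.1
  have hp : ∀ i, δ (p i) = k + 1 := fun i => hαk _ i.1.2
  let O := Coh.structureModule X
  have hO : PicF.IsInvertible O := Groth.EulerDeg.isInvertible_structureModule X
  have hOc : Coh.IsCoh O := Groth.EulerDeg.isCoh_of_isInvertible hO
  have hs₀ : ∀ ξ : X, ∃ z : Cyc.secFibre O ξ, z ≠ 0 := fun ξ =>
    let ⟨_, ht⟩ := Groth.Cycles.exists_basis hO ξ
    let ⟨z, hz, _⟩ := Groth.Cycles.exists_coef_eq ht one_ne_zero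
    ⟨z, hz⟩
  choose s₀ hs₀ using hs₀
  choose φ hφ hline using fun i => exists_lineQuo_coord hO (p i) (hs₀ (p i))
  have hbase : ∀ i, ∃ c₀, IsLine (specializes_rfl (x := p i)) (φ i) c₀ := fun i =>
    let ⟨_, ht⟩ := Groth.Cycles.exists_basis hO (p i)
    ⟨_, hline i specializes_rfl ht⟩
  choose c₀ hc₀ using hbase
  choose ψ hψ hψl using fun i => exists_tensor_coord hL (φ i) (hs (p i)) (hc₀ i)
  let B : PosIdx α → X.Modules := fun i => lineQuo O (p i)
  let A : PosIdx α → X.Modules := fun i => CohB1.tensorMod (B i) L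
  have hB : ∀ i, Coh.IsCoh (B i) := fun i => isCoh_lineQuo hOc (p i)
  have hBs : ∀ i, CohB1.support (B i) ⊆ closure {p i} := fun i => support_lineQuo O (p i)
  have hA : ∀ i, Coh.IsCoh (A i) := fun i =>
    Groth.RefRank.isCoh_tensorMod (hB i) (Groth.EulerDeg.isCoh_of_isInvertible hL)
  have hAs : ∀ i, CohB1.support (A i) ⊆ closure {p i} := fun i => (support_twist hL (B i)).trans (hBs i)
  have hBle : Cyc.CohLe δ (k + 1) (∐ B) := cohLe_sigma (locFin_of_subset _ hBs hlf)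
    fun i => cohLe_of_support_closure hδ (hB i) (hBs i) (hp i).le
  have eF : Cyc.toK0CohQuot δ (k + 1) k F = Cyc.toK0CohQuot δ (k + 1) k (∐ B) := by
    rw [toQuot_eq_cycleSheafPos hX le_rfl (by omega) (by omega) hF]
    refine toQuot_sigma_eq_of_length_one hδ le_rfl (by omega) (by omega) p hp hlf
      (fun i => Devissage.isCoh_closureStructureSheaf _) hB
      (fun i => Devissage.support_closureStructureSheaf_subset _) hBs
      (fun i => Devissage.length_closureStructureSheaf _) fun i => ?_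
    rw [(LinearEquiv.ofBijective (φ i) (hφ i)).length_eq]
    exact length_kap _
  rw [← hθ F hF, eF, hθ _ hBle]
  obtain ⟨e⟩ := exists_twist_sigma L B
  rw [← toQuot_iso e (cohLe_sigma (locFin_of_subset _ hAs hlf)
    fun i => cohLe_of_support_closure hδ (hA i) (hAs i) (hp i).le)]
  refine toQuot_sigma_sub hX hp hlf hA hB hAs hBs ψ φ hψ hφ
    (fun i x => Cyc.secDivFun δ L (p i) (s (p i)) x) (fun i x _ hn => dif_neg fun h => hn h.1)
    (fun i x hx h => ?_) hγk hγl fun x hx => ?_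
  · obtain ⟨t, ht⟩ := Groth.Cycles.exists_basis hL x
    obtain ⟨t', ht'⟩ := Groth.Cycles.exists_basis hO x
    have hl := hline i h ht'
    refine ⟨_, _, hψl i h hl ht, hl, ?_⟩
    have hd : Groth.Cycles.IsDivPt δ (p i) x := ⟨h, by rw [hx, hp i]⟩
    rw [Cyc.secDivFun, dif_pos (show _ ∧ _ from hd), Groth.Cycles.secOrdAt_eq hX hL hd ht (hs _)]
    congr 1
    rw [div_mul_eq_div_div, div_self hl.1, one_div, inv_inv]
  · rw [hγ]
    change ∑ᶠ ξ : X, α ξ * Cyc.secDivFun δ L ξ (s ξ) x = _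
    refine finsum_posIdx (fun ξ => sheafFun_nonneg ξ) (fun ξ => Cyc.secDivFun δ L ξ (s ξ) x) ?_
    obtain ⟨U, -, hxU, hfin⟩ := hαl.pos x
    refine Set.Finite.of_finite_image (hfin.subset ?_) Subtype.val_injective.injOn
    rintro _ ⟨ξ, hξ, rfl⟩
    refine ⟨ξ.2, x, ?_, hxU⟩
    by_contra hc
    exact hξ (dif_neg fun h => hc (specializes_iff_mem_closure.mp h.1))

end Groth.ChowK
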